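import Mathlib.GroupTheory.GroupAction.MultiplePrimitivity
import Mathlib.GroupTheory.GroupAction.Primitive
import Mathlib.GroupTheory.GroupAction.Quotient
import Mathlib.GroupTheory.GroupAction.FixedPoints
import Mathlib.GroupTheory.Index
import Mathlib.GroupTheory.Perm.Subgroup
import Mathlib.Algebra.Group.Subgroup.Ker
import Mathlib.Tactic.Group

/-!
Basic facts on permutation groups: semiregular and regular subgroups, centralisers of transitive
groups, regular normal subgroups and the resulting identification of points with group elements.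
-/

namespace Cfsg.Agent.Lib.Perm.Basic

open MulAction

variable {G : Type*} [Group G] {α : Type*} [MulAction G α]

/-- An element commuting with a transitive subgroup and fixing a point fixes every point. -/
theorem fixes_all_of_commute_transitive (T : Subgroup G) [IsPretransitive T α] {c : G}
    (hc : ∀ t ∈ T, t * c = c * t) {a : α} (ha : c • a = a) (b : α) : c • b = b := by
  obtain ⟨⟨t, ht⟩, rfl⟩ := exists_smul_eq T a b
  change c • t • a = t • a
  rw [smul_smul, ← hc t ht, mul_smul, ha]

/-- Faithful version: an element commuting with a transitive subgroup and fixing a point is `1`. -/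
theorem eq_one_of_commute_transitive [FaithfulSMul G α] (T : Subgroup G) [IsPretransitive T α]
    {c : G} (hc : ∀ t ∈ T, t * c = c * t) {a : α} (ha : c • a = a) : c = 1 :=
  eq_of_smul_eq_smul fun b => by rw [fixes_all_of_commute_transitive T hc ha b, one_smul]

/-- The centraliser of a transitive subgroup of a faithful action is semiregular. -/
theorem stabilizer_eq_bot_of_le_centralizer [FaithfulSMul G α] (T : Subgroup G)
    [IsPretransitive T α] {C : Subgroup G} (hC : C ≤ Subgroup.centralizer (T : Set G)) (a : α) :
    stabilizer C a = ⊥ := by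
  rw [Subgroup.eq_bot_iff_forall]
  rintro ⟨c, hcC⟩ hc
  exact Subtype.ext (eq_one_of_commute_transitive T
    (fun t ht => Subgroup.mem_centralizer_iff.mp (hC hcC) t ht) (a := a) hc)

/-- An abelian transitive subgroup of a faithful action is regular. -/
theorem stabilizer_eq_bot_of_comm_transitive [FaithfulSMul G α] (T : Subgroup G)
    [IsPretransitive T α] (hT : IsMulCommutative T) (a : α) : stabilizer T a = ⊥ :=
  stabilizer_eq_bot_of_le_centralizer T (Subgroup.le_centralizer_iff_isMulCommutative.mpr hT) a

/-- The evaluation map of a regular action is bijective. -/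
theorem smul_bijective_of_regular {H : Type*} [Group H] {β : Type*} [MulAction H β]
    [IsPretransitive H β] (a : β) (hreg : stabilizer H a = ⊥) :
    Function.Bijective (fun h : H => h • a) := by
  refine ⟨fun x y hxy => ?_, fun b => exists_smul_eq H a b⟩
  have : y⁻¹ * x ∈ stabilizer H a := by
    rw [mem_stabilizer_iff, mul_smul]; exact inv_smul_eq_iff.mpr hxy
  rw [hreg, Subgroup.mem_bot] at this
  exact (inv_mul_eq_one.mp this).symm

/-- For a regular action, the identification of the group with the set of points. -/
noncomputable def regularEquiv {H : Type*} [Group H] {β : Type*} [MulAction H β]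
    [IsPretransitive H β] (a : β) (hreg : stabilizer H a = ⊥) : H ≃ β :=
  Equiv.ofBijective _ (smul_bijective_of_regular a hreg)

theorem regularEquiv_apply {H : Type*} [Group H] {β : Type*} [MulAction H β]
    [IsPretransitive H β] (a : β) (hreg : stabilizer H a = ⊥) (h : H) :
    regularEquiv a hreg h = h • a := rfl

theorem card_eq_of_regular {H : Type*} [Group H] {β : Type*} [MulAction H β]
    [IsPretransitive H β] (a : β) (hreg : stabilizer H a = ⊥) : Nat.card H = Nat.card β :=
  Nat.card_congr (regularEquiv a hreg)

/-- In the identification of points with a regular normal subgroup, a stabiliser acts by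
conjugation. -/
theorem smul_smul_of_mem_stabilizer (N : Subgroup G) [hN : N.Normal] {a : α} {g : G}
    (hg : g ∈ stabilizer G a) (n : N) :
    g • (n • a) = (⟨g * n * g⁻¹, hN.conj_mem n n.2 g⟩ : N) • a := by
  have hga : g⁻¹ • a = a := inv_smul_eq_iff.mpr (mem_stabilizer_iff.mp hg).symm
  change g • ((n : G) • a) = (g * n * g⁻¹) • a
  rw [mul_smul, mul_smul, hga]

/-- Frattini argument: `G = N * G_a` for a transitive normal (or just transitive) subgroup. -/
theorem exists_eq_mul_stabilizer (N : Subgroup G) [IsPretransitive N α] (a : α) (g : G) :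
    ∃ n ∈ N, ∃ h ∈ stabilizer G a, g = n * h := by
  obtain ⟨⟨n, hn⟩, hna⟩ := exists_smul_eq N a (g • a)
  refine ⟨n, hn, n⁻¹ * g, ?_, by group⟩
  rw [mem_stabilizer_iff, mul_smul, inv_smul_eq_iff]
  exact hna.symm

theorem sup_stabilizer_eq_top (N : Subgroup G) [IsPretransitive N α] (a : α) :
    N ⊔ stabilizer G a = ⊤ := by
  rw [eq_top_iff]
  intro g _
  obtain ⟨n, hn, h, hh, rfl⟩ := exists_eq_mul_stabilizer N a g
  exact Subgroup.mul_mem_sup hn hh

/-- A subgroup containing a transitive subgroup and a point stabiliser is everything. -/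
theorem eq_top_of_transitive_of_stabilizer_le (H : Subgroup G) [IsPretransitive H α] {a : α}
    (h : stabilizer G a ≤ H) : H = ⊤ := by
  rw [← sup_stabilizer_eq_top H a, sup_eq_left.mpr h]

theorem isPretransitive_of_le {H K : Subgroup G} (hle : H ≤ K) [IsPretransitive H α] :
    IsPretransitive K α :=
  ⟨fun a b => let ⟨⟨h, hh⟩, e⟩ := exists_smul_eq H a b; ⟨⟨h, hle hh⟩, e⟩⟩

/-- In a faithful quasiprimitive (e.g. primitive) action a non-trivial normal subgroup is
transitive. -/
theorem isPretransitive_of_normal_ne_bot [IsQuasiPreprimitive G α] [FaithfulSMul G α]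
    (N : Subgroup G) [N.Normal] (hN : N ≠ ⊥) : IsPretransitive N α := by
  apply IsQuasiPreprimitive.isPretransitive_of_normal
  intro h
  apply hN
  rw [Subgroup.eq_bot_iff_forall]
  intro n hn
  refine eq_of_smul_eq_smul fun b : α => ?_
  have hb : b ∈ fixedPoints N α := h.symm ▸ Set.mem_univ b
  rw [one_smul]
  exact hb ⟨n, hn⟩

/-- The centraliser of a transitive group inside a faithful action: injective orbit maps. -/
theorem orbit_map_injective_of_le_centralizer [FaithfulSMul G α] (T : Subgroup G)
    [IsPretransitive T α] {C : Subgroup G} (hC : C ≤ Subgroup.centralizer (T : Set G)) (a : α) :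
    Function.Injective (fun c : C => c • a) := by
  intro x y hxy
  have : y⁻¹ * x ∈ stabilizer C a := by
    rw [mem_stabilizer_iff, mul_smul]; exact inv_smul_eq_iff.mpr hxy
  rw [stabilizer_eq_bot_of_le_centralizer T hC a, Subgroup.mem_bot] at this
  exact (inv_mul_eq_one.mp this).symm

/-- If two commuting subgroups of a faithful action are both transitive, both are regular. -/
theorem regular_of_commuting_transitive [FaithfulSMul G α] (M N : Subgroup G)
    [IsPretransitive M α] [IsPretransitive N α] (h : ∀ m ∈ M, ∀ n ∈ N, m * n = n * m) (a : α) :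
    stabilizer M a = ⊥ ∧ stabilizer N a = ⊥ :=
  ⟨stabilizer_eq_bot_of_le_centralizer N
    (fun m hm => Subgroup.mem_centralizer_iff.mpr fun n hn => (h m hm n hn).symm) a,
   stabilizer_eq_bot_of_le_centralizer M
    (fun n hn => Subgroup.mem_centralizer_iff.mpr fun m hm => h m hm n hn) a⟩

/-- `|G| = |Ω| * |G_a|` for a transitive action. -/
theorem card_eq_card_mul_card_stabilizer [IsPretransitive G α] (a : α) :
    Nat.card G = Nat.card α * Nat.card (stabilizer G a) := by
  rw [← index_stabilizer_of_transitive (G := G) a, mul_comm, Subgroup.card_mul_index]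

/-- The pointwise and tuple stabilisers agree. -/
theorem stabilizer_embedding_eq_fixingSubgroup {ι : Type*} (x : ι ↪ α) :
    stabilizer G x = fixingSubgroup G (Set.range x) := by
  ext g
  simp [mem_stabilizer_iff, mem_fixingSubgroup_iff, DFunLike.ext_iff]

/-- `G_{a}` stabilisers along an orbit are conjugate. -/
theorem mem_stabilizer_smul_iff {a : α} {g h : G} :
    h ∈ stabilizer G (g • a) ↔ g⁻¹ * h * g ∈ stabilizer G a := by
  simp only [mem_stabilizer_iff, mul_smul, inv_smul_eq_iff]

end Cfsg.Agent.Lib.Perm.Basic
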