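import Cfsg.Agent.Lib.Perm.Basic
import Mathlib.GroupTheory.Sylow
import Mathlib.GroupTheory.GroupAction.MultipleTransitivity
import Mathlib.Data.Fintype.CardEmbedding
import Mathlib.Algebra.BigOperators.Group.Finset.Piecewise

/-!
Finite sharply 2-transitive groups: the elementary abelian regular normal subgroup.
-/

namespace Cfsg.Agent.Lib.Perm.Sharply2

open MulAction Cfsg.Agent.Lib.Perm

variable {G : Type*} [Group G] [Finite G] {α : Type*} [Fintype α] [MulAction G α]

theorem eq_one_of_fix_two (hsharp : ∀ x : Fin 2 ↪ α, stabilizer G x = ⊥) {g : G} {a b : α}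
    (hab : a ≠ b) (ha : g • a = a) (hb : g • b = b) : g = 1 := by
  let x : Fin 2 ↪ α := ⟨![a, b], by
    intro i j h
    fin_cases i <;> fin_cases j <;> simp at h ⊢
    · exact hab h
    · exact hab h.symm⟩
  have : g ∈ stabilizer G x := by
    rw [mem_stabilizer_iff]
    ext i
    fin_cases i
    · exact ha
    · exact hb
  rwa [hsharp x, Subgroup.mem_bot] at this

theorem card_group [IsMultiplyPretransitive G α 2]
    (hsharp : ∀ x : Fin 2 ↪ α, stabilizer G x = ⊥) (h2 : 2 ≤ Fintype.card α) :
    Nat.card G = Fintype.card α * (Fintype.card α - 1) := by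
  classical
  have hne : Nonempty (Fin 2 ↪ α) := Function.Embedding.nonempty_of_card_le (by simpa using h2)
  obtain ⟨x⟩ := hne
  rw [Basic.card_eq_of_regular x (hsharp x), Nat.card_eq_fintype_card,
    Fintype.card_embedding_eq, Fintype.card_fin]
  simp [Nat.descFactorial]
  ring

/-- The regular normal subgroup of a sharply 2-transitive group. -/
theorem exists_kernel [IsMultiplyPretransitive G α 2] [FaithfulSMul G α]
    (hsharp : ∀ x : Fin 2 ↪ α, stabilizer G x = ⊥) (h2 : 2 ≤ Fintype.card α) :
    ∃ (p j : ℕ) (N : Subgroup G), p.Prime ∧ 1 ≤ j ∧ Fintype.card α = p ^ j ∧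
      Nat.card N = p ^ j ∧ N.Normal ∧ IsMulCommutative N ∧ (∀ x ∈ N, x ^ p = 1) ∧
      IsPretransitive N α ∧ (∀ a : α, stabilizer N a = ⊥) ∧
      ∀ g : G, g ∈ N ↔ g = 1 ∨ ∀ a : α, g • a ≠ a := by
  classical
  have := Fintype.ofFinite G
  have htr : IsPretransitive G α := isPretransitive_of_is_two_pretransitive
  set n := Fintype.card α with hn
  have hG : Nat.card G = n * (n - 1) := card_group hsharp h2
  have hne : Nonempty α := Fintype.card_pos_iff.mp (by omega)
  obtain ⟨a₀⟩ := hne
  have hGa : ∀ a : α, Nat.card (stabilizer G a) = n - 1 := fun a => by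
    have h := Basic.card_eq_card_mul_card_stabilizer (G := G) a
    rw [hG, Nat.card_eq_fintype_card (α := α), ← hn] at h
    exact (Nat.eq_of_mul_eq_mul_left (by omega) h).symm
  set F : Finset G := Finset.univ.filter (fun g : G => ∀ a : α, g • a ≠ a) with hF
  -- there are `n - 1` fixed point free elements
  have hFcard : F.card = n - 1 := by
    have hquot : Fintype.card (orbitRel.Quotient G α) = 1 := by
      rw [Fintype.card_eq_one_iff]
      exact ⟨Quotient.mk'' a₀, fun q => Quotient.inductionOn' q fun y =>
        Quotient.sound' (exists_smul_eq G a₀ y)⟩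
    have h := sum_card_fixedBy_eq_card_orbits_mul_card_group G α
    rw [hquot, one_mul, ← Finset.add_sum_erase _ _ (Finset.mem_univ (1 : G))] at h
    have h1 : Fintype.card (fixedBy α (1 : G)) = n :=
      Fintype.card_congr (Equiv.subtypeUnivEquiv fun x => one_smul G x)
    have hle : ∀ g ∈ (Finset.univ : Finset G).erase 1,
        Fintype.card (fixedBy α g) = if g ∈ F then 0 else 1 := by
      intro g hg
      by_cases hgF : g ∈ F
      · rw [if_pos hgF, Fintype.card_eq_zero_iff]
        exact ⟨fun x => (Finset.mem_filter.mp hgF).2 x.1 x.2⟩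
      · rw [if_neg hgF, Fintype.card_eq_one_iff]
        simp only [hF, Finset.mem_filter, Finset.mem_univ, true_and, not_forall, not_not] at hgF
        obtain ⟨a, ha⟩ := hgF
        refine ⟨⟨a, ha⟩, fun y => Subtype.ext ?_⟩
        by_contra hya
        exact Finset.ne_of_mem_erase hg (eq_one_of_fix_two hsharp hya y.2 ha)
    have h1F : (1 : G) ∉ F := fun h => (Finset.mem_filter.mp h).2 a₀ (one_smul _ _)
    rw [h1, Finset.sum_congr rfl hle, Finset.sum_ite, Finset.sum_const_zero, zero_add,
      Finset.sum_const, smul_eq_mul, mul_one] at h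
    have h' := Finset.card_filter_add_card_filter_not (s := (Finset.univ : Finset G).erase 1)
      (fun g => g ∈ F)
    have h3 : ((Finset.univ : Finset G).erase 1).filter (fun g => g ∈ F) = F := by
      ext g
      simp only [Finset.mem_filter, Finset.mem_erase, Finset.mem_univ, and_true]
      exact ⟨fun h => h.2, fun h => ⟨fun e => h1F (e ▸ h), h⟩⟩
    rw [h3, Finset.card_erase_of_mem (Finset.mem_univ _), Finset.card_univ,
      ← Nat.card_eq_fintype_card, hG] at h'
    rw [← Nat.card_eq_fintype_card (α := G), hG] at h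
    have hpos : n * (n - 1) = (n * (n - 1) - 1) + 1 := by
      have : 0 < n * (n - 1) := Nat.mul_pos (by omega) (by omega)
      omega
    omega
  -- centralisers of fixed point free elements
  have hC : ∀ x ∈ F, ∀ a : α, Function.Injective fun c : Subgroup.centralizer {x} => c • a := by
    intro x hx a c d hcd
    have hcx : ∀ e : Subgroup.centralizer ({x} : Set G), x * e = e * x := fun e =>
      Subgroup.mem_centralizer_iff.mp e.2 x rfl
    have hcd' : (c : G) • a = (d : G) • a := hcd
    have h1 : ((d : G)⁻¹ * c) • a = a := by rw [mul_smul, hcd', inv_smul_smul]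
    have h2' : ((d : G)⁻¹ * c) • (x • a) = x • a := by
      have := hcx (d⁻¹ * c)
      simp only [Subgroup.coe_mul, Subgroup.coe_inv] at this
      rw [smul_smul, ← this, mul_smul, h1]
    exact Subtype.ext (inv_mul_eq_one.mp
      (eq_one_of_fix_two hsharp (fun e => (Finset.mem_filter.mp hx).2 a e.symm) h1 h2')).symm
  obtain ⟨p, hp, hpn⟩ := Nat.exists_prime_and_dvd (by omega : n ≠ 1)
  have := Fact.mk hp
  obtain ⟨x, hx⟩ := exists_prime_orderOf_dvd_card' (G := G) p (hG ▸ hpn.mul_right _)
  have hxF : x ∈ F := by
    refine Finset.mem_filter.mpr ⟨Finset.mem_univ _, fun a ha => ?_⟩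
    have h1 := orderOf_dvd_natCard (⟨x, ha⟩ : stabilizer G a)
    rw [← Subgroup.orderOf_coe, hx, hGa] at h1
    have := Nat.le_of_dvd (by omega) ((Nat.dvd_sub hpn h1))
    have h3 : p ∣ n - (n - 1) := Nat.dvd_sub hpn h1
    rw [show n - (n - 1) = 1 by omega] at h3
    exact hp.one_lt.ne' (Nat.dvd_one.mp h3)
  have hconjF : ∀ g y : G, y ∈ F → g * y * g⁻¹ ∈ F := fun g y hy => by
    refine Finset.mem_filter.mpr ⟨Finset.mem_univ _, fun a ha => ?_⟩
    refine (Finset.mem_filter.mp hy).2 (g⁻¹ • a) ?_
    apply smul_left_cancel g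
    rw [smul_smul, smul_smul, smul_inv_smul]
    exact ha
  -- all fixed point free elements are conjugate to `x`
  have hclass : ∀ y ∈ F, IsConj x y := by
    intro y hy
    set S : Finset G := Finset.univ.image fun g : G => g * x * g⁻¹ with hS
    have hsub : S ⊆ F := by
      intro z hz
      obtain ⟨g, -, rfl⟩ := Finset.mem_image.mp hz
      exact hconjF g x hxF
    have horb : S.card = (orbit (ConjAct G) x).ncard := by
      rw [← Set.ncard_coe_finset]
      congr 1
      ext z
      simp only [hS, Finset.coe_image, Finset.coe_univ, Set.image_univ, Set.mem_range, orbit]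
      constructor
      · rintro ⟨g, rfl⟩; exact ⟨ConjAct.toConjAct g, by simp [ConjAct.smul_def]⟩
      · rintro ⟨g, rfl⟩; exact ⟨ConjAct.ofConjAct g, by simp [ConjAct.smul_def]⟩
    have hstab : Nat.card (stabilizer (ConjAct G) x) ≤ n := by
      have hmem : ∀ g : stabilizer (ConjAct G) x,
          ConjAct.ofConjAct (g : ConjAct G) ∈ Subgroup.centralizer ({x} : Set G) := fun g => by
        rw [Subgroup.mem_centralizer_singleton_iff]
        have := g.2
        rw [mem_stabilizer_iff, ConjAct.smul_def, mul_inv_eq_iff_eq_mul] at this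
        exact this
      rw [hn, ← Nat.card_eq_fintype_card]
      refine Nat.card_le_card_of_injective
        (fun g : stabilizer (ConjAct G) x =>
          (⟨_, hmem g⟩ : Subgroup.centralizer ({x} : Set G)) • a₀) ?_
      intro g h e
      have h1 := congrArg Subtype.val (hC x hxF a₀ e)
      exact Subtype.ext (ConjAct.ofConjAct.injective h1)
    have hmul := (stabilizer (ConjAct G) x).card_mul_index
    rw [index_stabilizer, ← horb, show Nat.card (ConjAct G) = Nat.card G from
      Nat.card_congr ConjAct.ofConjAct.toEquiv, hG] at hmul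
    have hlow : n - 1 ≤ S.card := by
      by_contra! hlt
      have := Nat.mul_lt_mul_of_le_of_lt hstab hlt (by omega)
      omega
    have : y ∈ S := by rw [Finset.eq_of_subset_of_card_le hsub (by omega)]; exact hy
    obtain ⟨g, -, rfl⟩ := Finset.mem_image.mp this
    exact isConj_iff.mpr ⟨g, rfl⟩
  -- the centraliser of any fixed point free element is `F ∪ {1}`
  have hcent : ∀ y ∈ F, ∀ z ∈ F, z * y = y * z := by
    have hx' : ∀ z ∈ F, z * x = x * z := by
      intro z hz
      set Cs : Finset G := Finset.univ.filter fun c => c * x = x * c ∧ c ≠ 1 with hCs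
      have hCsub : Cs ⊆ F := by
        intro c hc
        simp only [hCs, Finset.mem_filter, Finset.mem_univ, true_and] at hc
        refine Finset.mem_filter.mpr ⟨Finset.mem_univ _, fun a ha => hc.2 ?_⟩
        have := hC x hxF a (a₁ := ⟨c, Subgroup.mem_centralizer_singleton_iff.mpr hc.1⟩) (a₂ := 1)
          (by simpa using! ha)
        exact congrArg Subtype.val this
      have hxord := hx
      obtain ⟨g, hg⟩ := isConj_iff.mp (hclass z hz)
      have hcl : Nat.card (Subgroup.centralizer ({x} : Set G)) = n := by
        have hcl' : (Finset.univ.image fun g : G => g * x * g⁻¹) = F := by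
          apply Finset.Subset.antisymm
          · intro w hw
            obtain ⟨k, -, rfl⟩ := Finset.mem_image.mp hw
            exact hconjF k x hxF
          · intro w hw
            obtain ⟨k, hk⟩ := isConj_iff.mp (hclass w hw)
            exact Finset.mem_image.mpr ⟨k, Finset.mem_univ _, hk⟩
        have hidx : (Subgroup.centralizer ({x} : Set G)).index = F.card := by
          rw [← hcl', Subgroup.index, ← Set.ncard_coe_finset, ← Nat.card_coe_set_eq]
          refine Nat.card_congr (Equiv.ofBijective (fun q => Quotient.liftOn' q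
            (fun k => (⟨k * x * k⁻¹, by simp⟩ :
              ↥((Finset.univ.image fun g : G => g * x * g⁻¹ : Finset G) : Set G))) ?_) ⟨?_, ?_⟩)
          · intro k l hkl
            rw [QuotientGroup.leftRel_apply, Subgroup.mem_centralizer_singleton_iff] at hkl
            apply Subtype.ext
            change k * x * k⁻¹ = l * x * l⁻¹
            calc k * x * k⁻¹ = k * (x * (k⁻¹ * l)) * l⁻¹ := by group
              _ = k * (k⁻¹ * l * x) * l⁻¹ := by rw [hkl]
              _ = l * x * l⁻¹ := by group
          · intro q r
            induction q using Quotient.inductionOn' with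
            | h k =>
            induction r using Quotient.inductionOn' with
            | h l =>
            intro h
            have h' : k * x * k⁻¹ = l * x * l⁻¹ := congrArg Subtype.val h
            refine Quotient.sound' ?_
            rw [QuotientGroup.leftRel_apply, Subgroup.mem_centralizer_singleton_iff]
            calc k⁻¹ * l * x = k⁻¹ * (l * x * l⁻¹) * l := by group
              _ = k⁻¹ * (k * x * k⁻¹) * l := by rw [h']
              _ = x * (k⁻¹ * l) := by group
          · rintro ⟨w, hw⟩
            obtain ⟨k, -, hk⟩ := Finset.mem_image.mp hw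
            exact ⟨Quotient.mk'' k, Subtype.ext hk⟩
        have hm := (Subgroup.centralizer ({x} : Set G)).card_mul_index
        rw [hidx, hFcard, hG] at hm
        exact Nat.eq_of_mul_eq_mul_right (by omega) hm
      have hCcard : Cs.card = n - 1 := by
        have h3 : Cs = (Finset.univ.filter fun c : G => c * x = x * c).erase 1 := by
          ext c; simp [hCs, and_comm]
        rw [h3, Finset.card_erase_of_mem (by simp), ← hcl, Nat.card_eq_fintype_card,
          Fintype.card_subtype]
        simp [Subgroup.mem_centralizer_singleton_iff]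
      have : z ∈ Cs := by rw [Finset.eq_of_subset_of_card_le hCsub (by omega)]; exact hz
      exact (Finset.mem_filter.mp this).2.1
    intro y hy z hz
    obtain ⟨g, hg⟩ := isConj_iff.mp (hclass y hy)
    have hz' := hx' (g⁻¹ * z * g) (by simpa using hconjF g⁻¹ z hz)
    calc z * y = g * (g⁻¹ * z * g * x) * g⁻¹ := by rw [← hg]; group
      _ = g * (x * (g⁻¹ * z * g)) * g⁻¹ := by rw [hz']
      _ = y * z := by rw [← hg]; group
  -- the subgroup
  have hone : ∀ c : G, c * x = x * c → c ≠ 1 → c ∈ F := by
    intro c hc hc1
    refine Finset.mem_filter.mpr ⟨Finset.mem_univ _, fun a ha => hc1 ?_⟩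
    have := hC x hxF a (a₁ := ⟨c, Subgroup.mem_centralizer_singleton_iff.mpr hc⟩) (a₂ := 1)
      (by simpa using! ha)
    exact congrArg Subtype.val this
  set N := Subgroup.centralizer ({x} : Set G) with hN
  have hmemN : ∀ g : G, g ∈ N ↔ g = 1 ∨ ∀ a : α, g • a ≠ a := by
    intro g
    rw [hN, Subgroup.mem_centralizer_singleton_iff]
    constructor
    · intro hg
      by_cases h1 : g = 1
      · exact Or.inl h1
      · exact Or.inr (Finset.mem_filter.mp (hone g hg h1)).2
    · rintro (rfl | hg)
      · simp
      · exact hcent x hxF g (Finset.mem_filter.mpr ⟨Finset.mem_univ _, hg⟩)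
  have hNmem : ∀ g : G, g ∈ N → g = 1 ∨ g ∈ F := fun g hg =>
    ((hmemN g).mp hg).imp id fun h => Finset.mem_filter.mpr ⟨Finset.mem_univ _, h⟩
  have hxp : x ^ p = 1 := hx ▸ pow_orderOf_eq_one x
  have hexp : ∀ g ∈ N, g ^ p = 1 := fun g hg => by
    rcases hNmem g hg with rfl | h
    · exact one_pow p
    · obtain ⟨k, hk⟩ := isConj_iff.mp (hclass g h)
      rw [← hk, conj_pow, hxp, mul_one, mul_inv_cancel]
  have hreg : ∀ a : α, stabilizer N a = ⊥ := fun a => by
    rw [Subgroup.eq_bot_iff_forall]
    intro c hc
    rcases (hmemN _).mp c.2 with h | h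
    · exact Subtype.ext h
    · exact absurd hc (h a)
  have hNtrans : IsPretransitive N α := by
    constructor
    intro a b
    have hinj : Function.Injective fun c : N => c • a := hC x hxF a
    have hcard : Fintype.card N = Fintype.card α := by
      rw [Fintype.card_subtype]
      have : (Finset.univ.filter fun g : G => g ∈ N) = insert 1 F := by
        ext g
        simp [hmemN, hF]
      rw [this, Finset.card_insert_of_notMem (fun h : (1 : G) ∈ F => (Finset.mem_filter.mp h).2 a₀ (one_smul G a₀)),
        hFcard]
      omega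
    exact ((Fintype.bijective_iff_injective_and_card _).mpr ⟨hinj, hcard⟩).2 b
  have hpN : IsPGroup p N := fun g => ⟨1, Subtype.ext (by simpa using hexp g g.2)⟩
  obtain ⟨j, hj⟩ := hpN.exists_card_eq
  have hjn : n = p ^ j := by
    rw [← hj, Basic.card_eq_of_regular a₀ (hreg a₀), Nat.card_eq_fintype_card]
  refine ⟨p, j, N, hp, ?_, hjn, hj, ⟨fun y hy g => ?_⟩, ?_, hexp, hNtrans, hreg, hmemN⟩
  · rcases Nat.eq_zero_or_pos j with rfl | h
    · simp at hjn; omega
    · exact h
  · rcases hNmem y hy with rfl | h
    · simp
    · exact (hmemN _).mpr (Or.inr (Finset.mem_filter.mp (hconjF g y h)).2)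
  · refine ⟨⟨fun c d => Subtype.ext ?_⟩⟩
    rcases hNmem c c.2 with hc | hc
    · simp [hc]
    rcases hNmem d d.2 with hd | hd
    · simp [hd]
    exact hcent d hd c hc

end Cfsg.Agent.Lib.Perm.Sharply2
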