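import Mathlib.Algebra.CharP.Basic
import Mathlib.Algebra.CharP.Lemmas
import Mathlib.Algebra.CharP.Algebra
import Mathlib.Data.ZMod.Basic
import Mathlib.Algebra.Field.ZMod
import Mathlib.Algebra.Polynomial.Roots
import Mathlib.Algebra.Polynomial.Eval.SMul
import Mathlib.RingTheory.Polynomial.Basic
import Mathlib.LinearAlgebra.FiniteDimensional.Lemmas
import Mathlib.LinearAlgebra.Dual.Lemmas
import Mathlib.LinearAlgebra.StdBasis

/-!
Translation invariant spaces of functions on `ZMod p` in characteristic `p` are the spaces of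
polynomial functions of bounded degree; permutations preserving one of them are affine.
-/

namespace Cfsg.Agent.Lib.Perm.PolyFun

open Polynomial Module

variable {p : ℕ} [Fact p.Prime] (K : Type*) [Field K] [CharP K p]

/-- The inclusion of the prime field. -/
noncomputable def iota : ZMod p →+* K := ZMod.castHom (dvd_refl p) K

theorem iota_apply (j : ZMod p) : iota K j = (ZMod.cast j : K) := rfl

theorem iota_injective : Function.Injective (iota K : ZMod p →+* K) := (iota K).injective

/-- A polynomial as a function on `ZMod p`. -/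
noncomputable def evalFun : K[X] →ₗ[K] (ZMod p → K) := LinearMap.pi fun j => Polynomial.leval (iota K j)

theorem evalFun_apply (P : K[X]) (j : ZMod p) : evalFun K P j = P.eval (iota K j) := rfl

/-- Polynomial functions of degree less than `r`. -/
noncomputable def polyFun (r : ℕ) : Submodule K (ZMod p → K) := (degreeLT K r).map (evalFun K)

variable {K}

theorem mem_polyFun {r : ℕ} {f : ZMod p → K} :
    f ∈ polyFun K r ↔ ∃ P : K[X], P.degree < r ∧ ∀ j, f j = P.eval (iota K j) := by
  rw [polyFun, Submodule.mem_map]
  constructor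
  · rintro ⟨P, hP, rfl⟩; exact ⟨P, mem_degreeLT.mp hP, fun j => rfl⟩
  · rintro ⟨P, hP, h⟩; exact ⟨P, mem_degreeLT.mpr hP, (funext h).symm⟩

theorem evalFun_mem {r : ℕ} {P : K[X]} (hP : P.degree < r) : evalFun (p := p) K P ∈ polyFun K r :=
  Submodule.mem_map_of_mem (mem_degreeLT.mpr hP)

theorem eq_zero_of_evalFun {P : K[X]} (hP : P.natDegree < p) (h : evalFun (p := p) K P = 0) :
    P = 0 :=
  eq_zero_of_natDegree_lt_card_of_eval_eq_zero P (f := fun j : ZMod p => iota K j)
    (iota_injective K) (fun j => congrFun h j) (by rwa [ZMod.card])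

theorem finrank_polyFun {r : ℕ} (hr : r ≤ p) :
    finrank K (polyFun (p := p) K r) = r := by
  have hinj : Function.Injective ((evalFun (p := p) K).domRestrict (degreeLT K r)) := by
    rw [injective_iff_map_eq_zero]
    intro P hP
    apply Subtype.ext
    by_cases h0 : (P : K[X]) = 0
    · exact h0
    refine eq_zero_of_evalFun (p := p) ?_ hP
    exact lt_of_lt_of_le ((natDegree_lt_iff_degree_lt h0).mpr (mem_degreeLT.mp P.2)) hr
  have h := LinearMap.finrank_range_of_inj hinj
  rw [LinearMap.range_domRestrict] at h
  rw [polyFun, h, (degreeLTEquiv K r).finrank_eq, finrank_fin_fun]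

theorem polyFun_mono {r s : ℕ} (h : r ≤ s) : polyFun (p := p) K r ≤ polyFun K s :=
  Submodule.map_mono (degreeLT_mono h)

variable (K)

/-- Translation of the argument by one. -/
noncomputable def shift : (ZMod p → K) →ₗ[K] (ZMod p → K) :=
  LinearMap.funLeft K K fun j => j - 1

variable {K}

theorem shift_apply (f : ZMod p → K) (j : ZMod p) : shift K f j = f (j - 1) := rfl

theorem shift_pow_apply (n : ℕ) (f : ZMod p → K) (j : ZMod p) :
    (shift K ^ n : Module.End K (ZMod p → K)) f j = f (j - n) := by
  induction n generalizing j with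
  | zero => simp
  | succ n ih =>
    rw [pow_succ', Module.End.mul_apply, shift_apply, ih]
    congr 1
    push_cast
    ring

theorem polyFun_shift {r : ℕ} {f : ZMod p → K} (hf : f ∈ polyFun K r) :
    shift K f ∈ polyFun K r := by
  obtain ⟨P, hP, hPf⟩ := mem_polyFun.mp hf
  refine mem_polyFun.mpr ⟨P.comp (X - C 1), ?_, fun j => ?_⟩
  · by_cases h0 : P.comp (X - C 1) = 0
    · rw [h0, degree_zero]; exact WithBot.bot_lt_coe r
    · have hP0 : P ≠ 0 := fun h => h0 (by rw [h, zero_comp])
      rw [← natDegree_lt_iff_degree_lt h0, natDegree_comp, natDegree_X_sub_C, mul_one]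
      exact (natDegree_lt_iff_degree_lt hP0).mpr hP
  · rw [shift_apply, hPf, map_sub, map_one, eval_comp, eval_sub, eval_X, eval_C]

/-- A translation invariant subspace of dimension `r` is the space of polynomial functions of
degree less than `r`, and `r ≤ p`. -/
theorem eq_polyFun (W : Submodule K (ZMod p → K)) (hW : ∀ f ∈ W, shift K f ∈ W) :
    finrank K W ≤ p ∧ W = polyFun K (finrank K W) := by
  have hdim : finrank K (ZMod p → K) = p := by rw [finrank_pi, ZMod.card]
  have hle : ∀ U : Submodule K (ZMod p → K), finrank K U ≤ p := fun U =>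
    (Submodule.finrank_le U).trans hdim.le
  refine ⟨hle W, ?_⟩
  let N : Module.End K (ZMod p → K) := shift K - 1
  have : CharP (Module.End K (ZMod p → K)) p :=
    charP_of_injective_ringHom (RingHom.injective (algebraMap K (Module.End K (ZMod p → K)))) p
  have hNp : N ^ p = 0 := by
    rw [sub_pow_char_of_commute (p := p) (Commute.one_right _), one_pow, sub_eq_zero]
    refine LinearMap.ext fun f => funext fun j => ?_
    rw [shift_pow_apply, ZMod.natCast_self, sub_zero, Module.End.one_apply]
  have hker : finrank K (LinearMap.ker N) ≤ 1 := by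
    have hle1 : LinearMap.ker N ≤ Submodule.span K {fun _ => (1 : K)} := by
      intro f hf
      have hf' : ∀ j, f (j - 1) = f j := fun j => by
        have := congrFun (LinearMap.mem_ker.mp hf) j
        simpa [N, shift_apply, sub_eq_zero] using this
      have hn : ∀ n : ℕ, f n = f 0 := fun n => by
        induction n with
        | zero => simp
        | succ n ih =>
          rw [← ih, ← hf' ((n + 1 : ℕ) : ZMod p)]
          push_cast
          rw [add_sub_cancel_right]
      refine Submodule.mem_span_singleton.mpr ⟨f 0, funext fun j => ?_⟩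
      obtain ⟨n, rfl⟩ := ZMod.natCast_zmod_surjective j
      simp [hn n]
    refine (Submodule.finrank_mono hle1).trans ?_
    exact (finrank_span_singleton (K := K) (v := fun _ : ZMod p => (1 : K))
      (fun h => one_ne_zero (congrFun h 0))).le
  have hkp : ∀ r : ℕ, finrank K (LinearMap.ker (N ^ r)) ≤ r := by
    intro r
    induction r with
    | zero => simp [Module.End.one_eq_id]
    | succ r ih =>
      let φ := N.domRestrict (LinearMap.ker (N ^ (r + 1)))
      have hr : LinearMap.range φ ≤ LinearMap.ker (N ^ r) := by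
        rintro _ ⟨⟨u, hu⟩, rfl⟩
        rw [LinearMap.mem_ker] at hu ⊢
        rw [pow_succ, Module.End.mul_apply] at hu
        exact hu
      have hk : finrank K (LinearMap.ker φ) ≤ finrank K (LinearMap.ker N) := by
        refine LinearMap.finrank_le_finrank_of_injective
          (f := ((LinearMap.ker (N ^ (r + 1))).subtype.comp (LinearMap.ker φ).subtype).codRestrict
            (LinearMap.ker N) fun u => LinearMap.mem_ker.mpr (LinearMap.mem_ker.mp u.2)) ?_
        intro u v h
        exact Subtype.ext (Subtype.ext (congrArg (fun z : LinearMap.ker N => (z : ZMod p → K)) h))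
      have h1 := φ.finrank_range_add_finrank_ker
      have h2 := Submodule.finrank_mono hr
      omega
  have main : ∀ U : Submodule K (ZMod p → K), (∀ f ∈ U, shift K f ∈ U) →
      U = LinearMap.ker (N ^ finrank K U) := by
    intro U hU
    have hNU : ∀ f ∈ U, N f ∈ U := fun f hf => U.sub_mem (hU f hf) hf
    refine Submodule.eq_of_le_of_finrank_le ?_ (hkp _)
    intro u hu
    have h0 : (N.restrict hNU) ^ p = 0 := by
      rw [Module.End.pow_restrict]
      refine LinearMap.ext fun v => Subtype.ext ?_
      simp [hNp]
    have h1 : (⟨u, hu⟩ : U) ∈ LinearMap.ker ((N.restrict hNU) ^ finrank K U) := by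
      rw [← Module.End.ker_pow_eq_ker_pow_finrank_of_le (hle U), h0]
      simp
    rw [LinearMap.mem_ker, Module.End.pow_restrict] at h1
    exact LinearMap.mem_ker.mpr (congrArg Subtype.val h1)
  have h2 := main (polyFun K (finrank K W)) (fun f hf => polyFun_shift hf)
  rw [finrank_polyFun (hle W)] at h2
  exact (main W hW).trans h2.symm

variable (K)

/-- The orthogonal complement for the standard bilinear form. -/
noncomputable def orth (W : Submodule K (ZMod p → K)) : Submodule K (ZMod p → K) :=
  W.dualAnnihilator.map ((Pi.basisFun K (ZMod p)).constr K).symm.toLinearMap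

variable {K}

theorem finrank_orth (W : Submodule K (ZMod p → K)) :
    finrank K (orth K W) = p - finrank K W := by
  have h := Subspace.finrank_add_finrank_dualAnnihilator_eq W
  rw [finrank_pi, ZMod.card] at h
  rw [orth, LinearEquiv.finrank_map_eq]
  exact Nat.eq_sub_of_add_eq' h

/-- If `W` is invariant under the inverse of a permutation, its orthogonal is invariant under the
permutation. -/
theorem orth_comp {W : Submodule K (ZMod p → K)} {σ : Equiv.Perm (ZMod p)}
    (hW : ∀ f ∈ W, f ∘ σ.symm ∈ W) : ∀ f ∈ orth K W, f ∘ σ ∈ orth K W := by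
  classical
  rintro _ ⟨φ, hφ, rfl⟩
  refine ⟨φ.comp (LinearMap.funLeft K K σ.symm), ?_, funext fun x => ?_⟩
  · simp only [SetLike.mem_coe, Submodule.mem_dualAnnihilator] at hφ ⊢
    exact fun w hw => hφ _ (hW w hw)
  · have hco : ∀ (ψ : (ZMod p → K) →ₗ[K] K) (y : ZMod p),
        ((Pi.basisFun K (ZMod p)).constr K).symm ψ y = ψ (Pi.single y 1) := fun ψ y => by
      rw [← Pi.basisFun_apply]
      rfl
    simp only [LinearEquiv.coe_coe, Function.comp_apply, hco, LinearMap.coe_comp]
    refine congrArg φ (funext fun y => ?_)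
    simp [LinearMap.funLeft_apply, Pi.single_apply, Equiv.symm_apply_eq]

/-- A permutation is affine. -/
def IsAffine (σ : Equiv.Perm (ZMod p)) : Prop := ∃ u w : ZMod p, ∀ j, σ j = u * j + w

/-- A permutation preserving a small space of polynomial functions is affine. -/
theorem isAffine_of_preserves_small {σ : Equiv.Perm (ZMod p)} {r : ℕ} (hr : 2 ≤ r)
    (hr2 : 2 * r ≤ p + 1) (h : ∀ f ∈ polyFun (p := p) K r, f ∘ σ ∈ polyFun K r) :
    IsAffine σ := by
  have hpow : ∀ j < r, ∃ Q : K[X], Q.degree < r ∧ ∀ x, (iota K (σ x)) ^ j = Q.eval (iota K x) := by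
    intro j hj
    have hX : evalFun (p := p) K (X ^ j) ∈ polyFun K r :=
      evalFun_mem ((degree_X_pow_le j).trans_lt (by exact_mod_cast hj))
    obtain ⟨Q, hQ, hQe⟩ := mem_polyFun.mp (h _ hX)
    exact ⟨Q, hQ, fun x => by simpa [evalFun_apply] using hQe x⟩
  obtain ⟨P, hP, hPe⟩ := hpow 1 (by omega)
  simp only [pow_one] at hPe
  have hd : P.natDegree ≤ 1 := by
    by_contra! hd
    set d := P.natDegree with hd'
    have hdr : d < r := by
      by_cases hP0 : P = 0
      · rw [hd', hP0, natDegree_zero]; omega
      · exact (natDegree_lt_iff_degree_lt hP0).mpr hP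
    set j := (r - 1) / d + 1 with hj
    have hdm := Nat.div_add_mod (r - 1) d
    have hmlt := Nat.mod_lt (r - 1) (by omega : d > 0)
    have hjd : r ≤ j * d ∧ j * d < p := by
      rw [hj, add_mul, one_mul, mul_comm]
      omega
    have hjr : j < r := by
      have h2 := Nat.div_le_div_left (a := r - 1) hd (by omega)
      simp only [Nat.succ_eq_add_one, Nat.reduceAdd] at h2
      omega
    obtain ⟨Q, hQ, hQe⟩ := hpow j hjr
    have hz : evalFun (p := p) K (P ^ j - Q) = 0 := by
      funext x
      simp [evalFun_apply, ← hQe, hPe]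
    have hdegQ : Q.natDegree < r := by
      by_cases hQ0 : Q = 0
      · rw [hQ0, natDegree_zero]; omega
      · exact (natDegree_lt_iff_degree_lt hQ0).mpr hQ
    have hdeg : (P ^ j - Q).natDegree < p := by
      refine (natDegree_sub_le _ _).trans_lt ?_
      rw [natDegree_pow]
      exact max_lt hjd.2 (by omega)
    have heq := eq_zero_of_evalFun hdeg hz
    have : (P ^ j).natDegree < r := by rw [sub_eq_zero.mp heq]; exact hdegQ
    rw [natDegree_pow, ← hd'] at this
    omega
  refine ⟨σ 1 - σ 0, σ 0, fun x => iota_injective K ?_⟩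
  have hev : ∀ y, iota K (σ y) = P.coeff 1 * iota K y + P.coeff 0 := fun y => by
    rw [hPe y]
    conv_lhs => rw [eq_X_add_C_of_natDegree_le_one hd]
    simp
  simp only [map_add, map_mul, map_sub, hev, map_zero, map_one]
  ring

/-- A group of permutations preserving a translation invariant subspace of dimension between `2`
and `p - 2` is affine. -/
theorem isAffine_of_preserves {σ : Equiv.Perm (ZMod p)} (W : Submodule K (ZMod p → K))
    (hT : ∀ f ∈ W, shift K f ∈ W) (h2 : 2 ≤ finrank K W) (hp2 : finrank K W + 2 ≤ p)
    (hσ : ∀ f ∈ W, f ∘ σ ∈ W) (hσ' : ∀ f ∈ W, f ∘ σ.symm ∈ W) : IsAffine σ := by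
  obtain ⟨hrp, hWeq⟩ := eq_polyFun W hT
  rcases Nat.lt_or_ge (p + 1) (2 * finrank K W) with hbig | hsmall
  · have hTinv : ∀ f ∈ W, f ∘ (Equiv.subRight (1 : ZMod p)).symm ∈ W := by
      intro f hf
      have hp0 : 0 < p := (Fact.out : p.Prime).pos
      have hmem := Module.End.pow_apply_mem_of_forall_mem (f' := shift K) (p - 1) hT f hf
      convert hmem using 1
      funext j
      rw [shift_pow_apply, Function.comp_apply, Equiv.subRight_symm_apply, Nat.cast_sub hp0,
        ZMod.natCast_self]
      congr 1
      simp
    have hOT : ∀ f ∈ orth K W, shift K f ∈ orth K W := fun f hf =>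
      orth_comp (σ := Equiv.subRight (1 : ZMod p)) hTinv f hf
    have hfr := finrank_orth W
    obtain ⟨-, hOeq⟩ := eq_polyFun _ hOT
    rw [hfr] at hOeq
    refine isAffine_of_preserves_small (K := K) (r := p - finrank K W) (by omega) (by omega) ?_
    rw [← hOeq]
    exact orth_comp hσ'
  · refine isAffine_of_preserves_small (K := K) h2 hsmall ?_
    rw [← hWeq]
    exact hσ

end Cfsg.Agent.Lib.Perm.PolyFun
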