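import Cfsg.Agent.Lib.Perm.Modules
import Cfsg.Agent.Lib.Perm.PolyFun
import Mathlib.GroupTheory.Solvable

/-!
Transitive permutation groups of prime degree: labelling by a cycle, affine groups, the heart of
the permutation module, Burnside's theorem.
-/

namespace Cfsg.Agent.Lib.Perm.PrimeDegree

open MulAction Cfsg Cfsg.Agent.Lib.Perm Cfsg.Agent.Lib.Perm.Modules Cfsg.Agent.Lib.Perm.PolyFun

variable {α : Type*} [Fintype α] {p : ℕ} [hp : Fact p.Prime]

theorem exists_cycle_equiv (hα : Fintype.card α = p) (G : Subgroup (Equiv.Perm α))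
    [IsPretransitive G α] (a : α) :
    ∃ (e : ZMod p ≃ α) (c : Equiv.Perm α), c ∈ G ∧ e 0 = a ∧ c ^ p = 1 ∧
      (∀ j, c (e j) = e (j + 1)) := by
  have hdvd : p ∣ Nat.card G := by
    rw [Basic.card_eq_card_mul_card_stabilizer (α := α) a, Nat.card_eq_fintype_card (α := α), hα]
    exact dvd_mul_right p _
  obtain ⟨⟨c, hc⟩, hord⟩ := exists_prime_orderOf_dvd_card' p hdvd
  rw [Subgroup.orderOf_mk] at hord
  have hcp : c ^ p = 1 := hord ▸ pow_orderOf_eq_one c
  have hinj : ∀ b, c b ≠ b → Function.Injective fun j : ZMod p => (c ^ j.val) b := by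
    intro b hb
    suffices h : ∀ m n, m < n → n < p → (c ^ m) b ≠ (c ^ n) b by
      intro i j hij
      rcases lt_trichotomy i.val j.val with h' | h' | h'
      · exact absurd hij (h _ _ h' (ZMod.val_lt j))
      · exact ZMod.val_injective p h'
      · exact absurd hij.symm (h _ _ h' (ZMod.val_lt i))
    intro m n hmn hn heq
    have h1 : (c ^ (n - m)) b = b := by
      apply (c ^ m).injective
      rw [← Equiv.Perm.mul_apply, ← pow_add, Nat.add_sub_cancel' hmn.le, heq]
    have hdiv : ¬ orderOf c ∣ n - m := fun hd => by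
      have := Nat.le_of_dvd (by omega) hd
      omega
    have hco : (n - m).Coprime (orderOf c) := by
      rw [hord] at hdiv ⊢
      exact (hp.out.coprime_iff_not_dvd.mpr hdiv).symm
    obtain ⟨k, hk⟩ := exists_pow_eq_self_of_coprime hco
    apply hb
    nth_rw 1 [← hk]
    clear hk
    induction k with
    | zero => simp
    | succ k ih => rw [pow_succ, Equiv.Perm.mul_apply, h1, ih]
  obtain ⟨b, hb⟩ : ∃ b, c b ≠ b := by
    by_contra! hall
    have hc1 : c = 1 := Equiv.ext hall
    rw [hc1, orderOf_one] at hord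
    exact hp.out.one_lt.ne hord
  have ha : c a ≠ a := by
    intro ha
    have hbij : Function.Bijective fun j : ZMod p => (c ^ j.val) b :=
      (Fintype.bijective_iff_injective_and_card _).mpr ⟨hinj b hb, by rw [ZMod.card, hα]⟩
    obtain ⟨j, hj⟩ := hbij.2 a
    apply hb
    apply (c ^ j.val).injective
    change (c ^ j.val) b = a at hj
    rw [← Equiv.Perm.mul_apply, ← pow_succ, pow_succ', Equiv.Perm.mul_apply, hj, ha]
  let e : ZMod p ≃ α := Equiv.ofBijective _
    ((Fintype.bijective_iff_injective_and_card _).mpr ⟨hinj a ha, by rw [ZMod.card, hα]⟩)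
  refine ⟨e, c, hc, by simp [e], hcp, fun j => ?_⟩
  change c ((c ^ j.val) a) = (c ^ (j + 1).val) a
  rw [ZMod.val_add, ZMod.val_one, ← pow_eq_pow_mod _ hcp, pow_succ', Equiv.Perm.mul_apply]

omit [Fintype α] in
theorem cycle_pow_apply {e : ZMod p ≃ α} {c : Equiv.Perm α} (hce : ∀ j, c (e j) = e (j + 1))
    (n : ℕ) (j : ZMod p) : (c ^ n) (e j) = e (j + n) := by
  induction n generalizing j with
  | zero => simp
  | succ n ih =>
    rw [pow_succ, Equiv.Perm.mul_apply, hce, ih]
    congr 1
    push_cast
    ring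

/-- All elements of `G` are affine in the labelling `e`. -/
def IsAffineWrt (e : ZMod p ≃ α) (G : Subgroup (Equiv.Perm α)) : Prop :=
  ∀ g ∈ G, ∃ u w : ZMod p, ∀ j, g (e j) = e (u * j + w)

theorem isSolvable_of_affine (e : ZMod p ≃ α) (G : Subgroup (Equiv.Perm α))
    (hG : IsAffineWrt e G) : Group.IsSolvable G := by
  choose u w huw using fun g : G => hG g g.2
  have hu : ∀ (g : G) (u' w' : ZMod p),
      (∀ j, (g : Equiv.Perm α) (e j) = e (u' * j + w')) → u g = u' ∧ w g = w' := by
    intro g u' w' h
    have h0 := e.injective ((huw g 0).symm.trans (h 0))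
    simp only [mul_zero, zero_add] at h0
    have h1 := e.injective ((huw g 1).symm.trans (h 1))
    rw [h0, mul_one, mul_one, add_left_inj] at h1
    exact ⟨h1, h0⟩
  let φ : G →* ZMod p :=
    { toFun := u
      map_one' := (hu 1 1 0 (fun j => by simp)).1
      map_mul' := fun g h => (hu (g * h) (u g * u h) (u g * w h + w g) fun j => by
        rw [Subgroup.coe_mul, Equiv.Perm.mul_apply, huw h, huw g]
        congr 1
        ring).1 }
  have hker : Group.IsSolvable φ.toHomUnits.ker := by
    have : Std.Commutative (α := φ.toHomUnits.ker) (· * ·) := ⟨fun x y => by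
      have hx : u x.1 = 1 := congrArg Units.val (MonoidHom.mem_ker.mp x.2)
      have hy : u y.1 = 1 := congrArg Units.val (MonoidHom.mem_ker.mp y.2)
      apply Subtype.ext
      apply Subtype.ext
      refine Equiv.ext fun a => ?_
      obtain ⟨j, rfl⟩ := e.surjective a
      simp only [Subgroup.coe_mul, Equiv.Perm.mul_apply, huw, hx, hy, one_mul]
      congr 1
      ring⟩
    exact Group.isSolvable_of_comm fun a b => this.comm a b
  exact (Group.isSolvable_iff_subgroup_quotient φ.toHomUnits.ker).mpr
    ⟨hker, Group.isSolvable_of_isSolvable_injective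
      (QuotientGroup.kerLift_injective φ.toHomUnits)⟩

omit hp in
theorem perm_two_affine : ∀ σ : Equiv.Perm (ZMod 2), ∃ u w : ZMod 2, ∀ j, σ j = u * j + w := by
  decide

omit hp in
theorem perm_three_affine : ∀ σ : Equiv.Perm (ZMod 3), ∃ u w : ZMod 3, ∀ j, σ j = u * j + w := by
  decide

theorem small_perm_affine (h : p ≤ 3) (σ : Equiv.Perm (ZMod p)) :
    ∃ u w : ZMod p, ∀ j, σ j = u * j + w := by
  have hp2 := hp.out.two_le
  obtain rfl | rfl : p = 2 ∨ p = 3 := by omega
  · exact perm_two_affine σ
  · exact perm_three_affine σ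

theorem five_le_of_not_solvable (hα : Fintype.card α = p) (G : Subgroup (Equiv.Perm α))
    [IsPretransitive G α] (hG : ¬ Group.IsSolvable G) : 5 ≤ p := by
  have hne : Nonempty α := Fintype.card_pos_iff.mp (hα ▸ hp.out.pos)
  obtain ⟨a⟩ := hne
  obtain ⟨e, -⟩ := exists_cycle_equiv hα G a
  by_contra h
  have h4 : p ≠ 4 := fun h' => absurd hp.out (h' ▸ by decide)
  refine hG (isSolvable_of_affine e G fun g _ => ?_)
  obtain ⟨u, w, huw⟩ := small_perm_affine (p := p) (by omega) (e.symm.permCongr g)
  exact ⟨u, w, fun j => by rw [← huw j]; simp [Equiv.permCongr_apply]⟩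

/-- In prime degree, either the group is affine or the heart of the permutation module in
characteristic `p` is irreducible. -/
theorem affine_or_heart_irreducible {K : Type*} [Field K] [CharP K p] (hα : Fintype.card α = p)
    (G : Subgroup (Equiv.Perm α)) (e : ZMod p ≃ α) (c : Equiv.Perm α) (hc : c ∈ G)
    (hce : ∀ j, c (e j) = e (j + 1)) (W : Subrepresentation (permRep K G α))
    (h₁ : (permConstants K G α).toSubmodule ≤ W.toSubmodule)
    (h₂ : W.toSubmodule ≤ (permSumZero K G α).toSubmodule) :
    IsAffineWrt e G ∨ W = permConstants K G α ∨ W = permSumZero K G α := by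
  let E : (α → K) ≃ₗ[K] (ZMod p → K) := LinearEquiv.funCongrLeft K K e
  have hE : ∀ f j, E f j = f (e j) := fun f j => rfl
  let pull := fun (V : Subrepresentation (permRep K G α)) => V.toSubmodule.map E.toLinearMap
  have hinv : ∀ (V : Subrepresentation (permRep K G α)) (g : G), ∀ f ∈ pull V,
      f ∘ (e.symm.permCongr (g : Equiv.Perm α)) ∈ pull V := by
    rintro V g _ ⟨f, hf, rfl⟩
    refine ⟨_, V.apply_mem_toSubmodule g⁻¹ hf, funext fun j => ?_⟩
    simp only [LinearEquiv.coe_coe, hE, Function.comp_apply, Equiv.permCongr_apply,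
      Equiv.symm_symm, Equiv.apply_symm_apply, permRep_apply, inv_inv]
    rfl
  have hshift : ∀ (V : Subrepresentation (permRep K G α)), ∀ f ∈ pull V,
      shift K f ∈ pull V := by
    intro V f hf
    convert hinv V (⟨c, hc⟩⁻¹ : G) f hf using 1
    funext j
    simp only [shift_apply, Function.comp_apply, Equiv.permCongr_apply, Equiv.symm_symm]
    congr 1
    rw [Equiv.eq_symm_apply, Subgroup.coe_inv, Equiv.Perm.eq_inv_iff_eq, hce, sub_add_cancel]
  have hinj : ∀ V V' : Subrepresentation (permRep K G α), pull V ≤ pull V' →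
      V.toSubmodule ≤ V'.toSubmodule := fun V V' h => by
    intro f hf
    obtain ⟨f', hf', he⟩ := h (Submodule.mem_map_of_mem hf)
    exact E.injective he ▸ hf'
  obtain ⟨hrp, hWeq⟩ := eq_polyFun (pull W) (hshift W)
  set r := Module.finrank K (pull W) with hr
  obtain ⟨hsp, hSeq⟩ := eq_polyFun (pull (permSumZero K G α)) (hshift _)
  set s := Module.finrank K (pull (permSumZero K G α)) with hs
  obtain ⟨-, hCeq⟩ := eq_polyFun (pull (permConstants K G α)) (hshift _)
  set k := Module.finrank K (pull (permConstants K G α)) with hk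
  have hk1 : k = 1 := by
    rw [hk, LinearEquiv.finrank_map_eq]
    have : Nonempty α := ⟨e 0⟩
    exact finrank_span_singleton (K := K) (v := fun _ : α => (1 : K))
      (fun h => one_ne_zero (congrFun h (e 0)))
  have hs1 : s < p := by
    refine lt_of_le_of_ne hsp fun hsp' => ?_
    classical
    have htop : pull (permSumZero K G α) = ⊤ := by
      refine Submodule.eq_top_of_finrank_eq ?_
      rw [← hs, Module.finrank_pi, ZMod.card, hsp']
    have : E (Pi.single (e 0) 1) ∈ pull (permSumZero K G α) := htop ▸ Submodule.mem_top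
    obtain ⟨f, hf, hfe⟩ := this
    rw [LinearEquiv.coe_coe, E.injective.eq_iff] at hfe
    subst hfe
    have := mem_permSumZero.mp hf
    simp at this
  rcases Nat.lt_or_ge r 2 with hr2 | hr2
  · refine Or.inr (Or.inl (Subrepresentation.toSubmodule_injective (le_antisymm ?_ h₁)))
    refine hinj _ _ ?_
    rw [hWeq, hCeq, hk1]
    exact polyFun_mono (by omega)
  rcases Nat.lt_or_ge p (r + 2) with hbig | hsmall
  · refine Or.inr (Or.inr (Subrepresentation.toSubmodule_injective (le_antisymm h₂ ?_)))
    refine hinj _ _ ?_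
    rw [hWeq, hSeq]
    exact polyFun_mono (by omega)
  · refine Or.inl fun g hg => ?_
    obtain ⟨u, w, huw⟩ := isAffine_of_preserves (σ := e.symm.permCongr g) (pull W) (hshift W)
      hr2 hsmall (hinv W ⟨g, hg⟩) (by
        intro f hf
        have h3 := hinv W ⟨g, hg⟩⁻¹ f hf
        exact h3)
    exact ⟨u, w, fun j => by rw [← huw j]; simp [Equiv.permCongr_apply]⟩

/-- Burnside: a transitive group of prime degree is affine or doubly transitive. -/
theorem affine_or_two_transitive (hα : Fintype.card α = p)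
    (G : Subgroup (Equiv.Perm α)) [IsPretransitive G α] (e : ZMod p ≃ α) (c : Equiv.Perm α)
    (hc : c ∈ G) (hce : ∀ j, c (e j) = e (j + 1))
    (htwo : (∀ W W' : Subrepresentation (permRep (ZMod p) G α),
        (permConstants (ZMod p) G α).toSubmodule ≤ W.toSubmodule →
        W.toSubmodule < W'.toSubmodule → W'.toSubmodule ≤ (permSumZero (ZMod p) G α).toSubmodule →
        ∃ g : G, ∃ v ∈ W'.toSubmodule, permRep (ZMod p) G α g v - v ∉ W.toSubmodule) →
      IsMultiplyPretransitive G α 2) :
    IsAffineWrt e G ∨ IsMultiplyPretransitive G α 2 := by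
  classical
  by_cases haff : IsAffineWrt e G
  · exact Or.inl haff
  have hG5 : 5 ≤ p := by
    by_contra h
    have h4 : p ≠ 4 := fun h' => absurd hp.out (h' ▸ by decide)
    refine haff fun g _ => ?_
    obtain ⟨u, w, huw⟩ := small_perm_affine (p := p) (by omega) (e.symm.permCongr g)
    exact ⟨u, w, fun j => by rw [← huw j]; simp [Equiv.permCongr_apply]⟩
  refine Or.inr (htwo fun W W' hCW hlt hW'S => ?_)
  have hW := (affine_or_heart_irreducible hα G e c hc hce W hCW
    (hlt.le.trans hW'S)).resolve_left haff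
  have hW' := (affine_or_heart_irreducible hα G e c hc hce W' (hCW.trans hlt.le)
    hW'S).resolve_left haff
  have hWC : W = permConstants (ZMod p) G α := hW.resolve_right fun h =>
    absurd (lt_of_lt_of_le hlt hW'S) (h ▸ lt_irrefl _)
  have hWS : W' = permSumZero (ZMod p) G α := hW'.resolve_left fun h =>
    absurd (lt_of_le_of_lt hCW hlt) (h ▸ lt_irrefl _)
  subst hWC hWS
  by_contra! hno
  obtain ⟨x, y, hxy⟩ : ∃ x y : α, x ≠ y :=
    ⟨e 0, e 1, fun h => zero_ne_one (e.injective h)⟩
  obtain ⟨g, hg⟩ := exists_smul_eq G x y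
  have hmem : (Pi.single x 1 - Pi.single y 1 : α → ZMod p) ∈
      (permSumZero (ZMod p) G α).toSubmodule :=
    mem_permSumZero.mpr (by simp)
  obtain ⟨r, hr⟩ := mem_permConstants.mp (hno g _ hmem)
  rw [map_sub, permRep_single, permRep_single, hg] at hr
  obtain ⟨z, -, hz⟩ := Finset.exists_mem_notMem_of_card_lt_card
    (s := ({x, y, g • y} : Finset α)) (t := Finset.univ) (by
      rw [Finset.card_univ, hα]
      exact lt_of_le_of_lt (Finset.card_le_three) (by omega))
  simp only [Finset.mem_insert, Finset.mem_singleton, not_or] at hz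
  have hr0 : (0 : ZMod p) = r := by
    simpa [Pi.single_apply, hz.1, hz.2.1, hz.2.2] using congrFun hr z
  have hy := congrFun hr y
  have hne : g • y ≠ y := fun h => hxy (smul_left_cancel g (hg.trans h.symm))
  simp [hxy.symm, hne.symm, ← hr0] at hy
  have h2 : ((2 : ℕ) : ZMod p) = 0 := by
    push_cast
    exact one_add_one_eq_two.symm.trans hy
  have := Nat.le_of_dvd two_pos ((ZMod.natCast_eq_zero_iff 2 p).mp h2)
  omega

end Cfsg.Agent.Lib.Perm.PrimeDegree
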