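import Cfsg.Agent.Lib.Perm.PrimeDegree

/-!
Transitive groups of prime degree with a Sylow normaliser of even order contain a reflection.
-/

namespace Cfsg.Agent.Lib.Perm.PrimeDegreeEven

open MulAction Cfsg.Agent.Lib.Perm Cfsg.Agent.Lib.Perm.Modules Cfsg.Agent.Lib.Perm.PrimeDegree

variable {α : Type*} [Fintype α] [DecidableEq α] {p : ℕ} [hp : Fact p.Prime]

/-- A `p`-subgroup transitive on `p` points has order `p`. -/
theorem card_sylow (hα : Fintype.card α = p) (G : Subgroup (Equiv.Perm α)) [IsPretransitive G α]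
    (P : Sylow p G) : Nat.card (P : Subgroup G) = p ∧ IsPretransitive (P : Subgroup G) α := by
  have hne : Nonempty α := Fintype.card_pos_iff.mp (hα ▸ hp.out.pos)
  obtain ⟨a⟩ := hne
  have htr : IsPretransitive (P : Subgroup G) α :=
    sylow_isPretransitive (Ω := α) (f := 1) (by rw [Nat.card_eq_fintype_card, hα, pow_one]) P
  refine ⟨?_, htr⟩
  have hreg : stabilizer (P : Subgroup G) a = ⊥ := by
    rw [Subgroup.eq_bot_iff_forall]
    intro h hh
    refine eq_of_smul_eq_smul fun b : α => ?_
    rw [one_smul]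
    by_cases hba : b = a
    · exact hba ▸ hh
    obtain ⟨i, hi⟩ :=
      (P.isPGroup'.to_subgroup (stabilizer (P : Subgroup G) a)).card_orbit b
    have hlt : Nat.card (orbit (stabilizer (P : Subgroup G) a) b) < p := by
      refine lt_of_lt_of_eq (?_ : _ < Nat.card α) (by rw [Nat.card_eq_fintype_card, hα])
      refine Finite.card_subtype_lt (x := a) ?_
      rintro ⟨k, hk⟩
      exact hba (smul_left_cancel (k : (P : Subgroup G)) (hk.trans k.2.symm))
    have hi0 : i = 0 := by
      rw [hi] at hlt
      by_contra h0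
      exact absurd hlt (not_lt.mpr (Nat.le_self_pow h0 p))
    rw [hi0, pow_zero] at hi
    have hb : b ∈ fixedPoints (stabilizer (P : Subgroup G) a) α := by
      have := Fintype.ofFinite (orbit (stabilizer (P : Subgroup G) a) b)
      rw [mem_fixedPoints_iff_card_orbit_eq_one, ← Nat.card_eq_fintype_card, hi]
    exact hb ⟨h, hh⟩
  rw [Basic.card_eq_of_regular a hreg, Nat.card_eq_fintype_card, hα]

/-- If the Sylow normaliser has even order, there is a labelling in which `G` contains both the
translation and the reflection. -/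
theorem exists_cycle_reflection (hα : Fintype.card α = p) (hp2 : p ≠ 2)
    (G : Subgroup (Equiv.Perm α)) [IsPretransitive G α] (P : Sylow p G)
    (heven : Even (Nat.card (Subgroup.normalizer ((P : Subgroup G) : Set G)))) :
    ∃ (e : ZMod p ≃ α) (c t : G), (∀ j, (c : Equiv.Perm α) (e j) = e (j + 1)) ∧
      (∀ j, (t : Equiv.Perm α) (e j) = e (-j)) := by
  have hne : Nonempty α := Fintype.card_pos_iff.mp (hα ▸ hp.out.pos)
  obtain ⟨a⟩ := hne
  obtain ⟨hcard, htr⟩ := card_sylow hα G P
  have : IsPretransitive ((P : Subgroup G).map G.subtype) α :=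
    ⟨fun x y => let ⟨k, hk⟩ := exists_smul_eq (P : Subgroup G) x y
      ⟨⟨_, Subgroup.mem_map_of_mem _ k.2⟩, hk⟩⟩
  obtain ⟨e, c0, hcP, -, hcp, hce⟩ := exists_cycle_equiv hα ((P : Subgroup G).map G.subtype) a
  obtain ⟨c, hcP, rfl⟩ := hcP
  simp only [Subgroup.coe_subtype] at hce hcp
  have hzp : Subgroup.zpowers (⟨c, hcP⟩ : (P : Subgroup G)) = ⊤ := by
    refine zpowers_eq_top_of_prime_card hcard fun h => ?_
    have h1 := hce 0
    rw [show c = 1 from congrArg Subtype.val h] at h1
    exact zero_ne_one ((e.injective h1).trans (zero_add 1))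
  obtain ⟨t0, ht0⟩ := exists_prime_orderOf_dvd_card'
    (G := Subgroup.normalizer ((P : Subgroup G) : Set G)) 2 heven.two_dvd
  set t : G := t0.1 with ht
  have hconj : t * c * t⁻¹ ∈ (P : Subgroup G) :=
    (Subgroup.mem_normalizer_iff.mp t0.2 c).mp hcP
  obtain ⟨k, hk⟩ : ∃ k : ℕ, c ^ k = t * c * t⁻¹ := by
    have h1 : (⟨_, hconj⟩ : (P : Subgroup G)) ∈ Subgroup.zpowers ⟨c, hcP⟩ :=
      hzp ▸ Subgroup.mem_top _
    obtain ⟨k, hk⟩ := mem_powers_iff_mem_zpowers.mpr h1
    exact ⟨k, congrArg Subtype.val hk⟩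
  set tp : Equiv.Perm α := (t : Equiv.Perm α) with htp
  set cp : Equiv.Perm α := (c : Equiv.Perm α) with hcp'
  have hkp : cp ^ k * tp = tp * cp := by
    rw [hcp', htp, ← Subgroup.coe_pow, ← Subgroup.coe_mul, ← Subgroup.coe_mul, hk,
      inv_mul_cancel_right]
  set b : ZMod p := e.symm (tp (e 0)) with hb
  have hte : ∀ n : ℕ, tp (e n) = e ((k : ZMod p) * n + b) := by
    intro n
    induction n with
    | zero => simp [hb]
    | succ n ih =>
      have h1 := congrArg (fun σ : Equiv.Perm α => σ (e n)) hkp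
      simp only [Equiv.Perm.mul_apply, ih, cycle_pow_apply hce, hce] at h1
      push_cast
      rw [← h1]
      congr 1
      ring
  have hte' : ∀ j : ZMod p, tp (e j) = e ((k : ZMod p) * j + b) := fun j => by
    obtain ⟨n, rfl⟩ := ZMod.natCast_zmod_surjective j
    exact hte n
  have htt : tp * tp = 1 := by
    rw [← sq, htp, ht, ← Subgroup.coe_pow, ← Subgroup.coe_pow, ← ht0, pow_orderOf_eq_one]
    simp
  have htt' : ∀ j : ZMod p, (k : ZMod p) * ((k : ZMod p) * j + b) + b = j := fun j => by
    apply e.injective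
    rw [← hte', ← hte', ← Equiv.Perm.mul_apply, htt, Equiv.Perm.one_apply]
  have h0 := htt' 0
  have h1 := htt' 1
  have hk2 : (k : ZMod p) * k = 1 := by linear_combination h1 - h0
  have h2 : (2 : ZMod p) ≠ 0 := by
    intro h
    have h' : ((2 : ℕ) : ZMod p) = 0 := by exact_mod_cast h
    have hle := Nat.le_of_dvd two_pos ((ZMod.natCast_eq_zero_iff 2 p).mp h')
    have := hp.out.two_le
    omega
  have hk1 : (k : ZMod p) = -1 := by
    rcases mul_self_eq_one_iff.mp hk2 with h | h
    · exfalso
      have hb0 : b = 0 := by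
        rw [h] at h0
        have : (2 : ZMod p) * b = 0 := by linear_combination h0
        exact (mul_eq_zero.mp this).resolve_left h2
      have htp1 : tp = 1 := Equiv.ext fun x => by
        obtain ⟨j, rfl⟩ := e.surjective x
        rw [hte', h, hb0, one_mul, add_zero, Equiv.Perm.one_apply]
      have : t0 = 1 := Subtype.ext (Subtype.ext htp1)
      rw [this, orderOf_one] at ht0
      omega
    · exact h
  refine ⟨(Equiv.addRight (b / 2)).trans e, c, t, fun j => ?_, fun j => ?_⟩
  · simp only [Equiv.trans_apply, Equiv.coe_addRight]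
    rw [hce]
    congr 1
    ring
  · simp only [Equiv.trans_apply, Equiv.coe_addRight]
    rw [hte', hk1]
    congr 1
    field_simp
    ring

end Cfsg.Agent.Lib.Perm.PrimeDegreeEven
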