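import Cfsg.Prelude.Def_Perm
import Cfsg.Agent.Lib.Perm.Basic
import Mathlib.GroupTheory.Sylow
import Mathlib.LinearAlgebra.StdBasis
import Mathlib.LinearAlgebra.Dual.Lemmas
import Mathlib.LinearAlgebra.Dimension.Constructions
import Mathlib.RepresentationTheory.Invariants
import Mathlib.Algebra.CharP.Basic
import Mathlib.Data.ZMod.Basic

/-!
Permutation modules: invariant kernels, fixed vectors of p-groups in characteristic p, and the
bottom and top of the permutation module of degree a power of p.
-/

namespace Cfsg.Agent.Lib.Perm.Modules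

open MulAction Cfsg

variable {K : Type*} [Field K] {G : Type*} [Group G] {Ω : Type*} [MulAction G Ω]

theorem permRep_apply (g : G) (f : Ω → K) (x : Ω) : permRep K G Ω g f x = f (g⁻¹ • x) := rfl

theorem mem_permConstants {f : Ω → K} :
    f ∈ (permConstants K G Ω).toSubmodule ↔ ∃ c : K, f = fun _ => c := by
  change f ∈ Submodule.span K {fun _ => (1 : K)} ↔ _
  rw [Submodule.mem_span_singleton]
  constructor
  · rintro ⟨c, rfl⟩; exact ⟨c, funext fun x => by simp⟩
  · rintro ⟨c, rfl⟩; exact ⟨c, funext fun x => by simp⟩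

theorem mem_permSumZero [Fintype Ω] {f : Ω → K} :
    f ∈ (permSumZero K G Ω).toSubmodule ↔ ∑ x, f x = 0 := Iff.rfl

theorem permRep_single [DecidableEq Ω] (g : G) (x : Ω) (c : K) :
    permRep K G Ω g (Pi.single x c) = Pi.single (g • x) c := by
  funext y
  rw [permRep_apply]
  rcases eq_or_ne y (g • x) with rfl | h
  · rw [inv_smul_smul, Pi.single_eq_same, Pi.single_eq_same]
  · rw [Pi.single_eq_of_ne h, Pi.single_eq_of_ne]
    rw [Ne, inv_smul_eq_iff]; exact h

/-- The map attached to a kernel `c`. -/
def kernelMap {Ω₁ Ω₂ : Type*} [Fintype Ω₁] (c : Ω₁ → Ω₂ → K) : (Ω₁ → K) →ₗ[K] (Ω₂ → K) where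
  toFun v y := ∑ x, c x y * v x
  map_add' u v := funext fun y => by simp [mul_add, Finset.sum_add_distrib]
  map_smul' r v := funext fun y => by
    simp [Finset.mul_sum, mul_left_comm]

theorem kernelMap_single {Ω₁ Ω₂ : Type*} [Fintype Ω₁] [DecidableEq Ω₁] (c : Ω₁ → Ω₂ → K)
    (x : Ω₁) (y : Ω₂) : kernelMap c (Pi.single x 1) y = c x y := by
  simp [kernelMap, Pi.single_apply]

theorem kernelMap_comm {Ω₁ Ω₂ : Type*} [Fintype Ω₁] [MulAction G Ω₁] [MulAction G Ω₂]
    {c : Ω₁ → Ω₂ → K} (hc : ∀ (g : G) x y, c (g • x) (g • y) = c x y) (g : G) (v : Ω₁ → K) :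
    kernelMap c (permRep K G Ω₁ g v) = permRep K G Ω₂ g (kernelMap c v) := by
  funext y
  change ∑ x, c x y * v (g⁻¹ • x) = ∑ x, c x (g⁻¹ • y) * v x
  refine Fintype.sum_equiv (MulAction.toPerm g⁻¹) _ _ fun x => ?_
  rw [MulAction.toPerm_apply, hc]

/-- Invariant linear maps between permutation modules are functions on the orbits of pairs. -/
noncomputable def homEquivOrbitFun (K : Type*) [Field K] (G : Type*) [Group G] (Ω₁ Ω₂ : Type*)
    [Fintype Ω₁] [MulAction G Ω₁] [MulAction G Ω₂] :
    ((permRep K G Ω₁).linHom (permRep K G Ω₂)).invariants ≃ₗ[K]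
      (orbitRel.Quotient G (Ω₁ × Ω₂) → K) := by
  classical
  exact
  { toFun := fun f q => Quotient.liftOn' q (fun z => f.1 (Pi.single z.1 1) z.2) (by
      rintro u v ⟨g, rfl⟩
      have h := congrArg (fun F : (Ω₁ → K) →ₗ[K] (Ω₂ → K) => F (Pi.single (g • v.1) 1) (g • v.2))
        (f.2 g)
      simp only [Representation.linHom_apply, LinearMap.coe_comp, Function.comp_apply,
        permRep_single, permRep_apply, inv_smul_smul] at h
      exact h.symm)
    map_add' := fun f f' => funext fun q => Quotient.inductionOn' q fun z => rfl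
    map_smul' := fun r f => funext fun q => Quotient.inductionOn' q fun z => rfl
    invFun := fun c => ⟨kernelMap fun x y => c (Quotient.mk'' (x, y)), fun g => by
      refine LinearMap.ext fun v => ?_
      have hc : ∀ (g : G) (x : Ω₁) (y : Ω₂),
          c (Quotient.mk'' (g • x, g • y)) = c (Quotient.mk'' (x, y)) :=
        fun g x y => congrArg c (Quotient.sound' ⟨g, rfl⟩)
      simp only [Representation.linHom_apply, LinearMap.coe_comp, Function.comp_apply]
      rw [← kernelMap_comm (c := fun x y => c (Quotient.mk'' (x, y))) hc,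
        Representation.self_inv_apply]⟩
    left_inv := fun f => by
      apply Subtype.ext
      refine (Pi.basisFun K Ω₁).ext fun x => funext fun y => ?_
      rw [Pi.basisFun_apply, kernelMap_single]
      rfl
    right_inv := fun c => funext fun q => Quotient.inductionOn' q fun z => by
      change kernelMap _ (Pi.single z.1 1) z.2 = _
      rw [kernelMap_single] }

variable {p : ℕ}

/-- A `p`-group acting linearly in characteristic `p` fixes a non-zero vector in every non-zero
invariant submodule. -/
theorem exists_fixed_ne_zero [Fact p.Prime] [CharP K p] {P : Type*} [Group P] [Finite P]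
    (hP : IsPGroup p P) {V : Type*} [AddCommGroup V] [Module K V] (ρ : Representation K P V)
    (W : Submodule K V) (hinv : ∀ (g : P), ∀ v ∈ W, ρ g v ∈ W) (hW : W ≠ ⊥) :
    ∃ v ∈ W, v ≠ 0 ∧ ∀ g, ρ g v = v := by
  classical
  have := Fintype.ofFinite P
  obtain ⟨w, hw, hw0⟩ := (Submodule.ne_bot_iff W).mp hW
  let Φ : (P → ZMod p) →+ V :=
    { toFun := fun c => ∑ g, ZMod.castHom (dvd_refl p) K (c g) • ρ g w
      map_zero' := by simp
      map_add' := fun c d => by simp [add_smul, Finset.sum_add_distrib] }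
  have hΦmem : ∀ c, Φ c ∈ W := fun c =>
    W.sum_mem fun g _ => W.smul_mem _ (hinv g w hw)
  have hΦρ : ∀ h c, ρ h (Φ c) = Φ (fun g => c (h⁻¹ * g)) := by
    intro h c
    change ρ h (∑ g, ZMod.castHom (dvd_refl p) K (c g) • ρ g w) =
      ∑ g, ZMod.castHom (dvd_refl p) K (c (h⁻¹ * g)) • ρ g w
    rw [map_sum]
    simp only [map_smul]
    refine Fintype.sum_equiv (Equiv.mulLeft h) _ _ fun g => ?_
    simp [map_mul]
  let _ : MulAction P Φ.range :=
    { smul := fun h v => ⟨ρ h v.1, by obtain ⟨c, hc⟩ := v.2; exact ⟨_, by rw [← hc, hΦρ]⟩⟩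
      one_smul := fun v => Subtype.ext (by
        change ρ 1 v.1 = v.1
        rw [map_one]; rfl)
      mul_smul := fun g h v => Subtype.ext (by
        change ρ (g * h) v.1 = ρ g (ρ h v.1)
        rw [map_mul]; rfl) }
  have hw' : Φ (Pi.single 1 1) = w := by
    change ∑ g, ZMod.castHom (dvd_refl p) K ((Pi.single 1 1 : P → ZMod p) g) • ρ g w = w
    rw [Finset.sum_eq_single 1 (fun g _ hg => by simp [Pi.single_eq_of_ne hg]) (by simp)]
    simp
  have : Nontrivial Φ.range :=
    ⟨0, ⟨w, _, hw'⟩, fun h => hw0 (congrArg Subtype.val h).symm⟩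
  have hdvd : p ∣ Nat.card Φ.range := by
    have hpp : Nat.card Φ.range ∣ p ^ Fintype.card P := by
      have := AddSubgroup.card_range_dvd Φ
      rw [Nat.card_fun, Nat.card_zmod] at this
      rwa [← Nat.card_eq_fintype_card]
    obtain ⟨k, -, hk⟩ := (Nat.dvd_prime_pow Fact.out).mp hpp
    rcases k with _ | k
    · have h1 : 1 < Nat.card Φ.range := Finite.one_lt_card
      rw [hk, pow_zero] at h1
      exact absurd h1 (lt_irrefl 1)
    · exact hk ▸ dvd_pow_self p k.succ_ne_zero
  have h0 : (0 : Φ.range) ∈ fixedPoints P Φ.range := fun h => Subtype.ext (map_zero (ρ h))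
  obtain ⟨v, hv, hv0⟩ := hP.exists_fixed_point_of_prime_dvd_card_of_fixed_point _ hdvd h0
  obtain ⟨c, hc⟩ := v.2
  exact ⟨v.1, hc ▸ hΦmem c, fun h => hv0 (Subtype.ext h.symm),
    fun g => congrArg Subtype.val (hv g)⟩

/-- A Sylow `p`-subgroup of a transitive group of degree `p ^ f` is transitive. -/
theorem sylow_isPretransitive [Finite G] [Fact p.Prime] [Finite Ω] [IsPretransitive G Ω] {f : ℕ}
    (hcard : Nat.card Ω = p ^ f) (P : Sylow p G) : IsPretransitive (P : Subgroup G) Ω := by
  refine ⟨fun a b => ?_⟩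
  obtain ⟨j, hj⟩ := (P.isPGroup'.to_subgroup (stabilizer (P : Subgroup G) a)).exists_card_eq
  obtain ⟨i, hi⟩ := P.isPGroup'.card_orbit a
  have h1 : Nat.card G = p ^ f * Nat.card (stabilizer G a) := by
    rw [← hcard, Basic.card_eq_card_mul_card_stabilizer a]
  have h2 : Nat.card (stabilizer (P : Subgroup G) a) ∣ Nat.card (stabilizer G a) :=
    Subgroup.card_dvd_of_injective
      ((((P : Subgroup G).subtype).comp (stabilizer (P : Subgroup G) a).subtype).codRestrict
        (stabilizer G a) fun x => x.2)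
      (fun x y h => Subtype.ext (Subtype.ext (congrArg (fun z : stabilizer G a => (z : G)) h)))
  have h3 : Nat.card (P : Subgroup G) = p ^ i * p ^ j := by
    rw [← hi, ← hj, Nat.card_coe_set_eq, ← index_stabilizer, mul_comm, Subgroup.card_mul_index]
  have hpos : Nat.card (stabilizer G a) ≠ 0 := Nat.card_pos.ne'
  have h4 : i + j = f + (Nat.card (stabilizer G a)).factorization p := by
    have h5 := P.card_eq_multiplicity
    have hp : p.Prime := Fact.out
    have h6 : p ^ (i + j) = p ^ (Nat.card G).factorization p := by rw [pow_add, ← h3, ← h5]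
    rw [h1, Nat.factorization_mul (pow_ne_zero _ hp.ne_zero) hpos] at h6
    simp only [Finsupp.add_apply, hp.factorization_pow, Finsupp.single_eq_same] at h6
    exact Nat.pow_right_injective hp.two_le h6
  have hjle : j ≤ (Nat.card (stabilizer G a)).factorization p := by
    rw [← (Fact.out : p.Prime).pow_dvd_iff_le_factorization hpos, ← hj]
    exact h2
  have hle : p ^ i ≤ p ^ f := by
    rw [← hcard, ← hi]
    exact Finite.card_subtype_le _
  have hif : i = f := le_antisymm
    ((Nat.pow_le_pow_iff_right (Fact.out : p.Prime).one_lt).mp hle) (by omega)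
  have huniv : orbit (P : Subgroup G) a = Set.univ := by
    rw [Set.eq_univ_iff_ncard, ← Nat.card_coe_set_eq, hi, hcard, hif]
  exact (huniv.symm ▸ Set.mem_univ b : b ∈ orbit (P : Subgroup G) a)

variable [Finite G] [Fact p.Prime] [CharP K p] [Fintype Ω] [IsPretransitive G Ω]

/-- Every non-zero invariant subspace of a transitive permutation module of degree `p ^ f`
contains the constants. -/
theorem constants_mem_of_ne_bot {f : ℕ} (hcard : Fintype.card Ω = p ^ f)
    (W : Subrepresentation (permRep K G Ω)) (hW : W.toSubmodule ≠ ⊥) :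
    (permConstants K G Ω).toSubmodule ≤ W.toSubmodule := by
  obtain ⟨P⟩ : Nonempty (Sylow p G) := inferInstance
  have := sylow_isPretransitive (by rw [Nat.card_eq_fintype_card, hcard]) P (Ω := Ω) (f := f)
  obtain ⟨v, hv, hv0, hfix⟩ := exists_fixed_ne_zero P.isPGroup'
    ((permRep K G Ω).comp (P : Subgroup G).subtype) W.toSubmodule
    (fun g v hv => W.apply_mem_toSubmodule _ hv) hW
  obtain ⟨x₀, hx₀⟩ := Function.ne_iff.mp hv0
  have hconst : v = fun _ => v x₀ := funext fun x => by
    obtain ⟨g, rfl⟩ := exists_smul_eq (P : Subgroup G) x x₀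
    have := congrFun (hfix g) (g • x)
    simp only [MonoidHom.coe_comp, Function.comp_apply, permRep_apply] at this
    rw [← this]
    exact (congrArg v (inv_smul_smul (g : G) x)).symm
  intro u hu
  obtain ⟨c, rfl⟩ := mem_permConstants.mp hu
  have : (fun _ : Ω => c) = (c * (v x₀)⁻¹) • v := by
    funext x
    rw [hconst]
    simp [mul_assoc, inv_mul_cancel₀ hx₀]
  rw [this]
  exact W.toSubmodule.smul_mem _ hv

/-- Every proper invariant subspace of such a module consists of sum-zero functions. -/
theorem le_sumZero_of_ne_top {f : ℕ} (hcard : Fintype.card Ω = p ^ f)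
    (W : Subrepresentation (permRep K G Ω)) (hW : W.toSubmodule ≠ ⊤) :
    W.toSubmodule ≤ (permSumZero K G Ω).toSubmodule := by
  classical
  let T : Subrepresentation (permRep K G Ω) :=
    { toSubmodule :=
        { carrier := {u | ∀ w ∈ W.toSubmodule, ∑ x, u x * w x = 0}
          add_mem' := fun hu hv w hw => by
            simp [add_mul, Finset.sum_add_distrib, hu w hw, hv w hw]
          zero_mem' := fun w hw => by simp
          smul_mem' := fun c u hu w hw => by
            simp [mul_assoc, ← Finset.mul_sum, hu w hw] }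
      apply_mem_toSubmodule := fun g u hu w hw => by
        refine Eq.trans ?_ (hu _ (W.apply_mem_toSubmodule g⁻¹ hw))
        refine Fintype.sum_equiv (MulAction.toPerm g⁻¹) _ _ fun x => ?_
        simp [permRep_apply] }
  have hT : T.toSubmodule ≠ ⊥ := by
    obtain ⟨φ, hφ0, hφ⟩ := Submodule.exists_le_ker_of_lt_top W.toSubmodule hW.lt_top
    rw [Submodule.ne_bot_iff]
    refine ⟨fun x => φ (Pi.single x 1), fun w hw => ?_, fun h => hφ0 ?_⟩
    · have hw0 : φ w = 0 := hφ hw
      rw [pi_eq_sum_univ' w, map_sum] at hw0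
      simpa [mul_comm, Pi.single_apply] using hw0
    · refine (Pi.basisFun K Ω).ext fun x => ?_
      rw [Pi.basisFun_apply]
      simpa using congrFun h x
  have h1 : (fun _ => (1 : K)) ∈ T.toSubmodule :=
    constants_mem_of_ne_bot hcard T hT (mem_permConstants.mpr ⟨1, rfl⟩)
  intro w hw
  have := h1 w hw
  simpa [mem_permSumZero] using this

end Cfsg.Agent.Lib.Perm.Modules
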