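import Cfsg.Agent.Lib.Perm.Basic
import Mathlib.GroupTheory.PGroup
import Mathlib.GroupTheory.Sylow

/-!
Regular normal subgroups of multiply transitive and multiply primitive groups.
-/

namespace Cfsg.Agent.Lib.Perm.Regular

open MulAction SubMulAction Cfsg.Agent.Lib.Perm
open scoped Pointwise

variable {G : Type*} [Group G] {α : Type*} [MulAction G α]

theorem conj_eq_of_smul (N : Subgroup G) [hN : N.Normal] [IsPretransitive N α] {a : α}
    (hreg : stabilizer N a = ⊥) {g : G} (hga : g • a = a) {n m : N} (h : g • (n • a) = m • a) :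
    g * (n : G) * g⁻¹ = m := by
  rw [Basic.smul_smul_of_mem_stabilizer N hga n] at h
  exact congrArg Subtype.val ((Basic.smul_bijective_of_regular a hreg).1 h)

/-- A regular normal subgroup of a doubly transitive group is elementary abelian. -/
theorem elementary_of_two_transitive [Finite α] (h2 : IsMultiplyPretransitive G α 2)
    (hα : 2 ≤ Nat.card α) (N : Subgroup G) [hN : N.Normal] [IsPretransitive N α]
    (hreg : ∀ a : α, stabilizer N a = ⊥) :
    ∃ p : ℕ, p.Prime ∧ IsMulCommutative N ∧ ∀ n ∈ N, n ^ p = 1 := by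
  have hne : Nonempty α := (Nat.card_pos_iff.mp (by omega : 0 < Nat.card α)).1
  obtain ⟨a⟩ := hne
  have : Finite N := Finite.of_equiv _ (Basic.regularEquiv a (hreg a)).symm
  have hcard := Basic.card_eq_of_regular (H := N) a (hreg a)
  have hconj : ∀ n m : N, n ≠ 1 → m ≠ 1 → ∃ g : G, g * (n : G) * g⁻¹ = m := by
    intro n m hn hm
    have hinj := (Basic.smul_bijective_of_regular a (hreg a)).1
    have h1 : a ≠ n • a := fun e => hn (hinj (a₁ := n) (a₂ := 1) (by simp [← e]))
    have h2' : a ≠ m • a := fun e => hm (hinj (a₁ := m) (a₂ := 1) (by simp [← e]))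
    obtain ⟨g, hga, hgn⟩ := is_two_pretransitive_iff.mp h2 h1 h2'
    exact ⟨g, conj_eq_of_smul N (hreg a) hga hgn⟩
  obtain ⟨p, hp, hdvd⟩ := Nat.exists_prime_and_dvd (n := Nat.card N) (by omega)
  have := Fact.mk hp
  obtain ⟨x, hx⟩ := exists_prime_orderOf_dvd_card' (G := N) p hdvd
  have hx1 : x ≠ 1 := fun h => hp.one_lt.ne' (by rw [← hx, h, orderOf_one])
  have hexp : ∀ n ∈ N, n ^ p = 1 := by
    intro n hn
    by_cases h1 : n = 1
    · rw [h1, one_pow]
    obtain ⟨g, hg⟩ := hconj x ⟨n, hn⟩ hx1 fun e => h1 (congrArg Subtype.val e)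
    rw [show n = g * (x : G) * g⁻¹ from hg.symm, conj_pow,
      ← Subgroup.coe_pow, ← hx, pow_orderOf_eq_one, Subgroup.coe_one, mul_one, mul_inv_cancel]
  refine ⟨p, hp, ?_, hexp⟩
  have hP : IsPGroup p N := fun n => ⟨1, Subtype.ext (by simpa using hexp n n.2)⟩
  have : Nontrivial N := ⟨x, 1, hx1⟩
  have hc := hP.center_nontrivial
  obtain ⟨⟨z, hz⟩, hz1⟩ := exists_ne (1 : Subgroup.center N)
  refine ⟨⟨fun m n => ?_⟩⟩
  by_cases hm : m = 1
  · rw [hm, one_mul, mul_one]
  obtain ⟨g, hg⟩ := hconj z m (fun e => hz1 (Subtype.ext e)) hm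
  have h := congrArg (fun y : N => g * (y : G) * g⁻¹)
    (Subgroup.mem_center_iff.mp hz ⟨g⁻¹ * n * g, by simpa using hN.conj_mem n n.2 g⁻¹⟩)
  simp only [Subgroup.coe_mul] at h
  apply Subtype.ext
  rw [Subgroup.coe_mul, Subgroup.coe_mul, ← hg]
  calc g * (z : G) * g⁻¹ * n = g * ((z : G) * (g⁻¹ * n * g)) * g⁻¹ := by group
    _ = g * (g⁻¹ * n * g * (z : G)) * g⁻¹ := h.symm
    _ = n * (g * (z : G) * g⁻¹) := by group

/-- A doubly primitive group with a regular normal subgroup. -/
theorem two_primitive [Finite α] (hα : 2 ≤ Nat.card α) (h2 : IsMultiplyPreprimitive G α 2)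
    (N : Subgroup G) [hN : N.Normal] [hNt : IsPretransitive N α]
    (hreg : ∀ a : α, stabilizer N a = ⊥) :
    Nat.card α = 3 ∨ (IsMulCommutative N ∧ (∀ n ∈ N, n ^ 2 = 1) ∧
      ∃ m, Nat.card α = 2 ^ m) := by
  classical
  have hne : Nonempty α := (Nat.card_pos_iff.mp (by omega : 0 < Nat.card α)).1
  obtain ⟨a⟩ := hne
  have : IsPretransitive G α :=
    ⟨fun x y => let ⟨n, hn⟩ := exists_smul_eq N x y; ⟨n, hn⟩⟩
  have : Finite N := Finite.of_equiv _ (Basic.regularEquiv a (hreg a)).symm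
  have hinj := (Basic.smul_bijective_of_regular a (hreg a)).1
  by_cases hexp : ∀ n ∈ N, n ^ 2 = 1
  · refine Or.inr ⟨⟨⟨fun x y => ?_⟩⟩, hexp, ?_⟩
    · have h1 : ∀ z : N, z⁻¹ = z := fun z => inv_eq_of_mul_eq_one_right
        (Subtype.ext (by simpa [sq] using hexp z z.2))
      calc x * y = (x * y)⁻¹ := (h1 _).symm
        _ = y⁻¹ * x⁻¹ := mul_inv_rev x y
        _ = y * x := by rw [h1, h1]
    · have := Fact.mk Nat.prime_two
      have hP : IsPGroup 2 N := fun n => ⟨1, Subtype.ext (by simpa using hexp n n.2)⟩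
      obtain ⟨m, hm⟩ := hP.exists_card_eq
      exact ⟨m, (Basic.card_eq_of_regular a (hreg a)).symm.trans hm⟩
  push Not at hexp
  obtain ⟨n, hn, hn2⟩ := hexp
  set x : N := ⟨n, hn⟩ with hx
  have hx2 : x * x ≠ 1 := fun e => hn2 (by rw [sq]; exact congrArg Subtype.val e)
  have hx1 : x ≠ 1 := fun e => hx2 (by rw [e, one_mul])
  have hxi : x⁻¹ ≠ x := fun e => hx2 (by nth_rw 1 [← e]; rw [inv_mul_cancel])
  have hne1 : x • a ≠ a := fun e => hx1 (hinj (a₁ := x) (a₂ := 1) (by simpa using! e))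
  have hne2 : x⁻¹ • a ≠ a := fun e => hx1 (inv_eq_one.mp (hinj (a₁ := x⁻¹) (a₂ := 1)
    (by simpa using! e)))
  have hne3 : x • a ≠ x⁻¹ • a := fun e => hxi (hinj (a₁ := x⁻¹) (a₂ := x) e.symm)
  have hprim : IsPreprimitive (stabilizer G a) (ofStabilizer G a) :=
    (is_one_preprimitive_iff _ _).mp (isMultiplyPreprimitive_ofStabilizer (n := 1) G α)
  let B : Set (ofStabilizer G a) := {y | (y : α) = x • a ∨ (y : α) = x⁻¹ • a}
  have hgB : ∀ (g : stabilizer G a) (y : ofStabilizer G a), y ∈ g • B ↔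
      ((y : α) = (g : G) • (x • a) ∨ (y : α) = (g : G) • (x⁻¹ • a)) := by
    intro g y
    rw [Set.mem_smul_set_iff_inv_smul_mem]
    change ((g : G)⁻¹ • (y : α) = x • a ∨ (g : G)⁻¹ • (y : α) = x⁻¹ • a) ↔ _
    rw [inv_smul_eq_iff, inv_smul_eq_iff]
  have hblock : IsBlock (stabilizer G a) B := by
    rw [isBlock_iff_smul_eq_of_nonempty]
    intro g hne
    obtain ⟨y, hy, hy'⟩ := hne
    set m : N := ⟨(g : G) * x * (g : G)⁻¹, hN.conj_mem _ x.2 _⟩ with hm
    have hm1 : (g : G) • (x • a) = m • a := Basic.smul_smul_of_mem_stabilizer N g.2 x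
    have hm2 : (g : G) • (x⁻¹ • a) = m⁻¹ • a := by
      rw [Basic.smul_smul_of_mem_stabilizer N g.2 x⁻¹]
      congr 1
      apply Subtype.ext
      simp [hm, mul_assoc]
    have hmx : m = x ∨ m = x⁻¹ := by
      rcases (hgB g y).mp hy with e1 | e1 <;> rcases hy' with e2 | e2
      · exact Or.inl (hinj (hm1.symm.trans (e1.symm.trans e2)))
      · exact Or.inr (hinj (hm1.symm.trans (e1.symm.trans e2)))
      · exact Or.inr (inv_eq_iff_eq_inv.mp (hinj (hm2.symm.trans (e1.symm.trans e2))))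
      · exact Or.inl (inv_inj.mp (hinj (hm2.symm.trans (e1.symm.trans e2))))
    ext z
    rw [hgB, hm1, hm2]
    rcases hmx with e | e <;> simp [B, e, or_comm]
  refine Or.inl ?_
  rcases IsPreprimitive.isTrivialBlock_of_isBlock hblock with hs | hu
  · exact absurd (congrArg Subtype.val (hs (x := ⟨x • a, hne1⟩) (y := ⟨x⁻¹ • a, hne2⟩)
      (Or.inl rfl) (Or.inr rfl))) hne3
  · have hall : (Set.univ : Set α) = {a, x • a, x⁻¹ • a} := by
      refine Set.eq_of_subset_of_subset (fun y _ => ?_) (fun y _ => trivial)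
      by_cases hy : y = a
      · exact Or.inl hy
      · have : (⟨y, hy⟩ : ofStabilizer G a) ∈ B := hu ▸ Set.mem_univ _
        rcases this with e | e
        · exact Or.inr (Or.inl e)
        · exact Or.inr (Or.inr e)
    rw [← Set.ncard_univ α, hall, Set.ncard_eq_three]
    exact ⟨a, x • a, x⁻¹ • a, hne1.symm, hne2.symm, hne3, rfl⟩

/-- A triply primitive group with a regular normal subgroup has degree 3 or 4. -/
theorem three_primitive [Finite α] (hα : 3 ≤ Nat.card α) (h3 : IsMultiplyPreprimitive G α 3)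
    (N : Subgroup G) [hN : N.Normal] [hNt : IsPretransitive N α]
    (hreg : ∀ a : α, stabilizer N a = ⊥) : Nat.card α = 3 ∨ Nat.card α = 4 := by
  classical
  have h2 : IsMultiplyPreprimitive G α 2 :=
    isMultiplyPreprimitive_of_le G α h3 (by norm_num) (by
      rw [ENat.card_eq_coe_natCard]; exact_mod_cast hα)
  refine (two_primitive (by omega) h2 N hreg).imp id fun ⟨_, hexp, _⟩ => ?_
  have hne : Nonempty α := (Nat.card_pos_iff.mp (by omega : 0 < Nat.card α)).1
  obtain ⟨a⟩ := hne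
  obtain ⟨b, hb⟩ : ∃ b : α, b ≠ a := by
    by_contra! hall
    have : Nat.card α ≤ 1 := Finite.card_le_one_iff_subsingleton.mpr
      ⟨fun x y => (hall x).trans (hall y).symm⟩
    omega
  obtain ⟨c, hca, hcb⟩ : ∃ c : α, c ≠ a ∧ c ≠ b := by
    by_contra! hall
    have : (Set.univ : Set α) ⊆ {a, b} := fun y _ => by
      by_cases hy : y = a
      · exact Or.inl hy
      · exact Or.inr (hall y hy)
    have := Set.ncard_le_ncard this
    rw [Set.ncard_univ, Set.ncard_pair hb.symm] at this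
    omega
  have hinj := (Basic.smul_bijective_of_regular a (hreg a)).1
  obtain ⟨n0, rfl⟩ := exists_smul_eq N a b
  obtain ⟨m, rfl⟩ := exists_smul_eq N a c
  set d := (n0 * m) • a with hd
  have hsq : ∀ z : N, z * z = 1 := fun z => Subtype.ext (by simpa [sq] using hexp z z.2)
  have hn01 : n0 ≠ 1 := fun e => hb (by rw [e, one_smul])
  have hm1 : m ≠ 1 := fun e => hca (by rw [e, one_smul])
  have hmn : m ≠ n0 := fun e => hcb (by rw [e])
  have hda : d ≠ a := fun e => hmn (by
    have := hinj (a₁ := n0 * m) (a₂ := 1) (by simpa using! e)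
    rw [← inv_eq_of_mul_eq_one_right this, inv_eq_of_mul_eq_one_right (hsq n0)])
  have hdb : d ≠ n0 • a := fun e => hm1 (mul_eq_left.mp (hinj e))
  have hdc : d ≠ m • a := fun e => hn01 (mul_eq_right.mp (hinj e))
  set s : Set α := {a, n0 • a} with hs
  have hprim : IsPreprimitive (fixingSubgroup G s) (ofFixingSubgroup G s) :=
    IsMultiplyPreprimitive.isPreprimitive_ofFixingSubgroup G 3 (by
      rw [hs, Set.encard_pair hb.symm]; rfl)
  let B : Set (ofFixingSubgroup G s) := {y | (y : α) = m • a ∨ (y : α) = (n0 * m) • a}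
  have hgB : ∀ (g : fixingSubgroup G s) (y : ofFixingSubgroup G s), y ∈ g • B ↔
      ((y : α) = (g : G) • (m • a) ∨ (y : α) = (g : G) • ((n0 * m) • a)) := by
    intro g y
    rw [Set.mem_smul_set_iff_inv_smul_mem]
    change ((g : G)⁻¹ • (y : α) = m • a ∨ (g : G)⁻¹ • (y : α) = (n0 * m) • a) ↔ _
    rw [inv_smul_eq_iff, inv_smul_eq_iff]
  have hblock : IsBlock (fixingSubgroup G s) B := by
    rw [isBlock_iff_smul_eq_of_nonempty]
    intro g hne
    obtain ⟨y, hy, hy'⟩ := hne
    have hga : (g : G) • a = a := (mem_fixingSubgroup_iff G).mp g.2 a (Or.inl rfl)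
    have hgb : (g : G) • (n0 • a) = n0 • a := (mem_fixingSubgroup_iff G).mp g.2 _ (Or.inr rfl)
    have hgn : (g : G) * n0 * (g : G)⁻¹ = n0 := conj_eq_of_smul N (hreg a) hga hgb
    set m' : N := ⟨(g : G) * m * (g : G)⁻¹, hN.conj_mem _ m.2 _⟩ with hm'
    have e1' : (g : G) • (m • a) = m' • a := Basic.smul_smul_of_mem_stabilizer N hga m
    have e2' : (g : G) • ((n0 * m) • a) = (n0 * m') • a := by
      rw [Basic.smul_smul_of_mem_stabilizer N hga]
      congr 1
      apply Subtype.ext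
      simp only [hm', Subgroup.coe_mul]
      nth_rw 2 [← hgn]
      group
    have hmx : m' = m ∨ m' = n0 * m := by
      rcases (hgB g y).mp hy with e1 | e1 <;> rcases hy' with e2 | e2
      · exact Or.inl (hinj (e1'.symm.trans (e1.symm.trans e2)))
      · exact Or.inr (hinj (e1'.symm.trans (e1.symm.trans e2)))
      · refine Or.inr ?_
        rw [← hinj (e2'.symm.trans (e1.symm.trans e2)), ← mul_assoc, hsq, one_mul]
      · exact Or.inl (mul_left_cancel (hinj (e2'.symm.trans (e1.symm.trans e2))))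
    ext z
    rw [hgB, e1', e2']
    rcases hmx with e | e <;> rw [e]
    · rfl
    · rw [← mul_assoc, hsq, one_mul]
      exact or_comm
  have hmem : ∀ y : α, y ≠ a → y ≠ n0 • a → y ∈ ofFixingSubgroup G s := fun y h1 h2 => by
    rw [mem_ofFixingSubgroup_iff]; rintro (e | e)
    · exact h1 e
    · exact h2 e
  rcases IsPreprimitive.isTrivialBlock_of_isBlock hblock with hss | hu
  · exact absurd (congrArg Subtype.val (hss (x := ⟨m • a, hmem _ hca hcb⟩)
      (y := ⟨d, hmem _ hda hdb⟩) (Or.inl rfl) (Or.inr rfl))) hdc.symm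
  · have hall : (Set.univ : Set α) = {a, n0 • a, m • a, d} := by
      refine Set.eq_of_subset_of_subset (fun y _ => ?_) (fun y _ => trivial)
      by_cases hy : y = a
      · exact Or.inl hy
      by_cases hy' : y = n0 • a
      · exact Or.inr (Or.inl hy')
      have : (⟨y, hmem y hy hy'⟩ : ofFixingSubgroup G s) ∈ B := hu ▸ Set.mem_univ _
      rcases this with e | e
      · exact Or.inr (Or.inr (Or.inl e))
      · exact Or.inr (Or.inr (Or.inr e))
    rw [← Set.ncard_univ α, hall, Set.ncard_eq_four]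
    exact ⟨a, n0 • a, m • a, d, hb.symm, hca.symm, hda.symm, hcb.symm, hdb.symm, hdc.symm, rfl⟩

end Cfsg.Agent.Lib.Perm.Regular
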