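import Cfsg.Agent.Lib.Perm.Regular
import Cfsg.Agent.Lib.Induced.FrobeniusKernel
import Cfsg.Agent.Lib.Cores.MinNormal
import Mathlib.GroupTheory.GroupAction.MultipleTransitivity

/-!
Burnside's theorem on minimal normal subgroups of doubly transitive groups.
-/

namespace Cfsg.Agent.Lib.Perm.Burnside

open MulAction Cfsg.Agent.Lib.Perm
open scoped Pointwise

variable {G : Type*} [Group G] {α : Type*} [MulAction G α]

/-- Translates of blocks of a normal subgroup are blocks. -/
theorem isBlock_smul (N : Subgroup G) [hN : N.Normal] {B : Set α} (hB : IsBlock N B) (g : G) :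
    IsBlock N (g • B) := by
  rw [isBlock_iff_smul_eq_of_nonempty] at hB ⊢
  intro n hne
  set n' : N := ⟨g⁻¹ * n * g, by simpa using hN.conj_mem n n.2 g⁻¹⟩ with hn'
  have hkey : n • g • B = g • n' • B := by
    change (n : G) • g • B = g • (n' : G) • B
    rw [smul_smul, smul_smul, hn']
    congr 1
    simp only
    group
  rw [hkey] at hne ⊢
  rw [hB (by rw [← Set.smul_set_inter, Set.smul_set_nonempty] at hne; exact hne)]

/-- A transitive, imprimitive normal subgroup of a doubly transitive group has trivial two-point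
stabilisers. -/
theorem two_point_trivial [Finite α] [FaithfulSMul G α] (h2 : IsMultiplyPretransitive G α 2)
    (N : Subgroup G) [hN : N.Normal] [IsPretransitive N α] (hnp : ¬ IsPreprimitive N α)
    {g : N} {a b : α} (hab : a ≠ b) (ha : g • a = a) (hb : g • b = b) : g = 1 := by
  classical
  let 𝔅 : Set (Set α) := {B | IsBlock N B ∧ B.Nontrivial}
  have hne : 𝔅.Nonempty := ⟨Set.univ, IsBlock.univ, a, trivial, b, trivial, hab⟩
  obtain ⟨B, hB, hBmin⟩ := Set.exists_min_image 𝔅 Set.ncard (Set.toFinite _) hne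
  have hBlt : B.ncard < Nat.card α := by
    have hle : B.ncard ≤ Nat.card α := Set.ncard_univ α ▸ Set.ncard_le_ncard (Set.subset_univ B)
    refine lt_of_le_of_ne hle fun heq => hnp ⟨fun {C} hC => ?_⟩
    refine C.subsingleton_or_nontrivial.imp id fun hC' => ?_
    have h1 := hBmin C ⟨hC, hC'⟩
    rw [Set.eq_univ_iff_ncard]
    have h3 : C.ncard ≤ Nat.card α := Set.ncard_univ α ▸ Set.ncard_le_ncard (Set.subset_univ C)
    omega
  -- lines
  have hblk : ∀ k : G, IsBlock N (k • B) := fun k => isBlock_smul N hB.1 k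
  have hcard : ∀ k : G, (k • B).ncard = B.ncard := fun k =>
    Set.ncard_image_of_injective B (MulAction.injective k)
  have huniq : ∀ (k l : G) (x y : α), x ≠ y → x ∈ k • B → y ∈ k • B → x ∈ l • B → y ∈ l • B →
      k • B = l • B := by
    intro k l x y hxy hxk hyk hxl hyl
    have hint : IsBlock N (k • B ∩ l • B) := (hblk k).inter (hblk l)
    have h1 := hBmin _ ⟨hint, x, ⟨hxk, hxl⟩, y, ⟨hyk, hyl⟩, hxy⟩
    have e1 : k • B ∩ l • B = k • B :=
      Set.eq_of_subset_of_ncard_le Set.inter_subset_left (by rw [hcard]; exact h1)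
    have e2 : k • B ∩ l • B = l • B :=
      Set.eq_of_subset_of_ncard_le Set.inter_subset_right (by rw [hcard]; exact h1)
    exact e1.symm.trans e2
  have hline : ∀ x y : α, x ≠ y → ∃ k : G, x ∈ k • B ∧ y ∈ k • B := by
    intro x y hxy
    obtain ⟨u, hu, v, hv, huv⟩ := hB.2
    obtain ⟨k, rfl, rfl⟩ := is_two_pretransitive_iff.mp h2 huv hxy
    exact ⟨k, Set.smul_mem_smul_set hu, Set.smul_mem_smul_set hv⟩
  have hfixline : ∀ (k : G) (x : α), x ∈ k • B → g • x = x → g • (k • B) = k • B := by
    intro k x hx hgx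
    exact (isBlock_iff_smul_eq_of_nonempty.mp (hblk k)) ⟨x, by
      rw [← hgx]; exact Set.smul_mem_smul_set hx, hx⟩
  -- a point off a line through two fixed points is fixed
  have hoff : ∀ u v x : α, u ≠ v → g • u = u → g • v = v → u ≠ x → v ≠ x →
      (∀ k : G, u ∈ k • B → v ∈ k • B → x ∉ k • B) → g • x = x := by
    intro u v x huv hu hv hux hvx hnot
    obtain ⟨k, huk, hxk⟩ := hline u x hux
    obtain ⟨l, hvl, hxl⟩ := hline v x hvx
    by_contra hgx
    have h1 : g • x ∈ k • B := hfixline k u huk hu ▸ Set.smul_mem_smul_set hxk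
    have h2' : g • x ∈ l • B := hfixline l v hvl hv ▸ Set.smul_mem_smul_set hxl
    have := huniq k l _ _ hgx h1 hxk h2' hxl
    exact hnot k huk (this ▸ hvl) hxk
  obtain ⟨L, haL, hbL⟩ := hline a b hab
  obtain ⟨c, hc⟩ : ∃ c, c ∉ L • B := by
    by_contra! hall
    have h := hcard L
    rw [Set.eq_univ_of_forall hall, Set.ncard_univ] at h
    omega
  have hca : a ≠ c := fun e => hc (e ▸ haL)
  have hcb : b ≠ c := fun e => hc (e ▸ hbL)
  have hgc : g • c = c := hoff a b c hab ha hb hca hcb fun k hak hbk hck =>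
    hc (huniq k L a b hab hak hbk haL hbL ▸ hck)
  have hall : ∀ x : α, g • x = x := by
    intro x
    by_cases hxa : x = a
    · rw [hxa, ha]
    by_cases hxb : x = b
    · rw [hxb, hb]
    by_cases hxc : x = c
    · rw [hxc, hgc]
    by_cases hxL : x ∈ L • B
    · refine hoff a c x hca ha hgc (Ne.symm hxa) (Ne.symm hxc) fun k hak hck hxk => hc ?_
      rw [huniq L k a x (Ne.symm hxa) haL hxL hak hxk]
      exact hck
    · exact hoff a b x hab ha hb (Ne.symm hxa) (Ne.symm hxb) fun k hak hbk hxk =>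
        hxL (huniq k L a b hab hak hbk haL hbL ▸ hxk)
  exact Subtype.ext (eq_of_smul_eq_smul fun x : α => by
    rw [Subgroup.coe_one, one_smul]; exact hall x)

/-- A transitive normal subgroup with trivial two-point stabilisers which is minimal normal is
regular. -/
theorem regular_of_frobenius [Finite α] [FaithfulSMul G α]
    (N : Subgroup G) [hN : N.Normal] [IsPretransitive N α]
    (hmin : ∀ M : Subgroup G, M.Normal → M ≤ N → M = ⊥ ∨ M = N)
    (h2pt : ∀ (g : N) (a b : α), a ≠ b → g • a = a → g • b = b → g = 1) (a : α)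
    (hα : 2 ≤ Nat.card α) : stabilizer N a = ⊥ := by
  classical
  have : Finite G := Finite.of_injective (MulAction.toPerm : G → Equiv.Perm α)
    MulAction.toPerm_injective
  set H := stabilizer N a with hH
  have hTI : ∀ g : N, g ∉ H → ∀ h ∈ H, g * h * g⁻¹ ∈ H → h = 1 := by
    intro g hg h hh hc
    refine h2pt h a (g⁻¹ • a) (fun e => hg ?_) hh ?_
    · exact mem_stabilizer_iff.mpr (inv_smul_eq_iff.mp e.symm).symm
    · rw [hH, mem_stabilizer_iff, mul_smul, mul_smul] at hc
      rw [eq_inv_smul_iff]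
      exact hc
  obtain ⟨K, hKn, hKc, hKm⟩ :=
    Cfsg.Agent.Lib.Induced.FrobeniusKernel.exists_normal_complement (H := H) hTI
  have hKfix : ∀ x : N, x ∈ K ↔ x = 1 ∨ ∀ y : α, x • y ≠ y := by
    intro x
    rw [hKm]
    refine or_congr Iff.rfl ⟨fun h y hy => ?_, fun h g hg => ?_⟩
    · obtain ⟨g, hg⟩ := exists_smul_eq N y a
      apply h g
      rw [hH, mem_stabilizer_iff, mul_smul, mul_smul, ← hg, inv_smul_smul, hy]
    · apply h (g⁻¹ • a)
      rw [hH, mem_stabilizer_iff, mul_smul, mul_smul] at hg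
      rw [eq_inv_smul_iff]
      exact hg
  have hKnG : (K.map N.subtype).Normal := by
    refine ⟨?_⟩
    rintro _ ⟨x, hx, rfl⟩ g
    refine ⟨⟨g * x * g⁻¹, hN.conj_mem _ x.2 g⟩, (hKfix _).mpr ?_, rfl⟩
    rcases (hKfix x).mp hx with rfl | h
    · left; exact Subtype.ext (by simp)
    · right
      intro y hy
      apply h (g⁻¹ • y)
      apply smul_left_cancel g
      change g • (x : G) • g⁻¹ • y = g • g⁻¹ • y
      rw [smul_smul, smul_smul, smul_inv_smul]
      exact hy
  have hKne : K.map N.subtype ≠ ⊥ := by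
    intro h
    rw [Subgroup.map_eq_bot_iff_of_injective K N.subtype_injective] at h
    subst h
    have h1 : Nat.card (⊥ : Subgroup N) * Nat.card H = Nat.card N := hKc.card_mul
    rw [Subgroup.card_bot, one_mul] at h1
    rw [hH, Basic.card_eq_card_mul_card_stabilizer (G := N) a] at h1
    have : 0 < Nat.card (stabilizer N a) := Nat.card_pos
    have h3 := Nat.mul_le_mul_right (Nat.card (stabilizer N a)) hα
    omega
  have hKN : K.map N.subtype = N :=
    (hmin _ hKnG (Subgroup.map_subtype_le K)).resolve_left hKne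
  rw [hH, Subgroup.eq_bot_iff_forall]
  intro x hx
  have hmem : (x : G) ∈ K.map N.subtype := hKN.symm ▸ x.2
  obtain ⟨x', hx', e⟩ := hmem
  obtain rfl : x' = x := Subtype.ext e
  exact ((hKfix x').mp hx').resolve_right fun h => h a hx

theorem pow_smul_eq_of_commute {x y : G} (hxy : x * y = y * x) {a : α} (h : x • a = y • a) :
    ∀ k : ℕ, (x ^ k) • a = (y ^ k) • a
  | 0 => by simp
  | k + 1 => by
    rw [pow_succ, mul_smul, h, ← mul_smul, ((show Commute x y from hxy).pow_left k).eq, mul_smul,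
      pow_smul_eq_of_commute hxy h k, ← mul_smul, ← pow_succ']

/-- A primitive non-regular minimal normal subgroup of a doubly transitive group is simple. -/
theorem simple_of_primitive [Finite α] [FaithfulSMul G α] (h2 : IsMultiplyPretransitive G α 2)
    (N : Subgroup G) [hN : N.Normal] (hNne : N ≠ ⊥)
    (hmin : ∀ M : Subgroup G, M.Normal → M ≤ N → M = ⊥ ∨ M = N)
    [IsPreprimitive N α] (a : α) : IsSimpleGroup N := by
  classical
  have : Finite G := Finite.of_injective (MulAction.toPerm : G → Equiv.Perm α)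
    MulAction.toPerm_injective
  have : Nontrivial N := (Subgroup.nontrivial_iff_ne_bot N).mpr hNne
  by_contra hns
  obtain ⟨M₀, hM₀n, hM₀b, hM₀t⟩ : ∃ M : Subgroup N, M.Normal ∧ M ≠ ⊥ ∧ M ≠ ⊤ := by
    by_contra! hall
    exact hns ⟨fun M hM => or_iff_not_imp_left.mpr (hall M hM)⟩
  obtain ⟨M, hMn, hMle, hMne, hMmin⟩ :=
    Cfsg.Agent.Lib.Cores.MinNormal.exists_minimal_le (hK := hM₀n) hM₀b
  -- conjugates of `M` under `G`
  let cj : G → (N →* N) := fun g =>
    { toFun := fun x => ⟨g * x * g⁻¹, hN.conj_mem _ x.2 g⟩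
      map_one' := Subtype.ext (by simp)
      map_mul' := fun x y => Subtype.ext (by simp [mul_assoc]) }
  have hcjinj : ∀ g, Function.Injective (cj g) := fun g x y e =>
    Subtype.ext (mul_left_cancel (mul_right_cancel (congrArg Subtype.val e)))
  have hcjsurj : ∀ g, Function.Surjective (cj g) := fun g y =>
    ⟨⟨g⁻¹ * y * g, by simpa using hN.conj_mem _ y.2 g⁻¹⟩, Subtype.ext (by simp [cj, mul_assoc])⟩
  have hconjmin : ∀ g, (M.map (cj g)).Normal ∧ M.map (cj g) ≠ ⊥ ∧
      ∀ L : Subgroup N, L.Normal → L ≤ M.map (cj g) → L = ⊥ ∨ L = M.map (cj g) := by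
    intro g
    refine ⟨hMn.map _ (hcjsurj g), ?_, fun L hLn hL => ?_⟩
    · rwa [Ne, Subgroup.map_eq_bot_iff_of_injective M (hcjinj g)]
    · have h1 : L.comap (cj g) ≤ M := by
        intro x hx
        obtain ⟨m, hm, e⟩ := hL hx
        exact hcjinj g e ▸ hm
      have hmc := Subgroup.map_comap_eq_self_of_surjective (hcjsurj g) L
      rcases hMmin _ (hLn.comap _) h1 with h | h
      · left; rw [← hmc, h, Subgroup.map_bot]
      · right; rw [← hmc, h]
  obtain ⟨g₀, hg₀⟩ : ∃ g, M.map (cj g) ≠ M := by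
    by_contra! hall
    have hnorm : (M.map N.subtype).Normal := by
      refine ⟨?_⟩
      rintro _ ⟨m, hm, rfl⟩ g
      exact ⟨cj g m, hall g ▸ Subgroup.mem_map_of_mem _ hm, rfl⟩
    rcases hmin _ hnorm (Subgroup.map_subtype_le M) with h | h
    · exact hMne ((Subgroup.map_eq_bot_iff_of_injective M N.subtype_injective).mp h)
    · apply hM₀t
      rw [eq_top_iff]
      intro x _
      obtain ⟨m, hm, e⟩ : (x : G) ∈ M.map N.subtype := h.symm ▸ x.2
      exact Subtype.ext e ▸ hMle hm
  set M' := M.map (cj g₀) with hM'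
  obtain ⟨hM'n, hM'ne, hM'min⟩ := hconjmin g₀
  have hcommute : ∀ L : Subgroup N, L.Normal →
      (∀ J : Subgroup N, J.Normal → J ≤ L → J = ⊥ ∨ J = L) → L ≠ ⊥ → L ≠ M →
      ∀ x ∈ L, ∀ m ∈ M, m * x = x * m := by
    intro L hLn hLmin hLne hLM x hx m hm
    refine (Subgroup.commute_of_normal_of_disjoint M L hMn hLn ?_ m x hm hx).eq
    rw [disjoint_iff]
    rcases hMmin (M ⊓ L) inferInstance inf_le_left with h | h
    · exact h
    · rcases hLmin M hMn (h ▸ inf_le_right) with h' | h'
      · exact absurd h' hMne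
      · exact absurd h'.symm hLM
  have hcomm := hcommute M' hM'n hM'min hM'ne hg₀
  have hMt : IsPretransitive M α := Basic.isPretransitive_of_normal_ne_bot M hMne
  have hM't : IsPretransitive M' α := Basic.isPretransitive_of_normal_ne_bot M' hM'ne
  have hregM : ∀ b : α, stabilizer M b = ⊥ := fun b =>
    (Basic.regular_of_commuting_transitive M M' (fun m hm x hx => hcomm x hx m hm) b).1
  -- everything commuting with `M` lies in `M'`
  have hcent : ∀ x : N, (∀ m ∈ M, m * x = x * m) → x ∈ M' := by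
    intro x hx
    obtain ⟨⟨m', hm'⟩, e⟩ := exists_smul_eq M' a (x • a)
    have h1 : m'⁻¹ * x = 1 := by
      refine Basic.eq_one_of_commute_transitive M (fun t ht => ?_) (a := a) ?_
      · exact ((Commute.inv_right (hcomm m' hm' t ht)).mul_right (hx t ht)).eq
      · rw [mul_smul, inv_smul_eq_iff]
        exact e.symm
    exact inv_mul_eq_one.mp h1 ▸ hm'
  have hpair : ∀ g, M.map (cj g) = M ∨ M.map (cj g) = M' := by
    intro g
    obtain ⟨h1, h2, h3⟩ := hconjmin g
    by_cases h : M.map (cj g) = M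
    · exact Or.inl h
    · refine Or.inr ((hM'min _ h1 fun x hx => ?_).resolve_left h2)
      exact hcent x (hcommute _ h1 h3 h2 h x hx)
  -- all non-trivial elements of `M` have the same order
  have hinj := (Basic.smul_bijective_of_regular a (hregM a)).1
  have horder : ∀ m n : N, m ∈ M → n ∈ M → m ≠ 1 → n ≠ 1 → orderOf m = orderOf n := by
    intro m n hm hn hm1 hn1
    have hma : a ≠ m • a := fun e => hm1 (congrArg Subtype.val
      (hinj (a₁ := ⟨m, hm⟩) (a₂ := 1) (by simpa using! e.symm)))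
    have hna : a ≠ n • a := fun e => hn1 (congrArg Subtype.val
      (hinj (a₁ := ⟨n, hn⟩) (a₂ := 1) (by simpa using! e.symm)))
    obtain ⟨g, hga, hgm⟩ := is_two_pretransitive_iff.mp h2 hma hna
    have hxa : cj g m • a = n • a := by
      have := Basic.smul_smul_of_mem_stabilizer N (mem_stabilizer_iff.mpr hga) m
      exact this.symm.trans hgm
    have hord : orderOf (cj g m) = orderOf m := orderOf_injective _ (hcjinj g) m
    rw [← hord]
    have hx : cj g m ∈ M.map (cj g) := Subgroup.mem_map_of_mem _ hm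
    rcases hpair g with h | h <;> rw [h] at hx
    · have := hinj (a₁ := ⟨_, hx⟩) (a₂ := ⟨n, hn⟩) hxa
      rw [show cj g m = n from congrArg Subtype.val this]
    · have hc := (hcomm _ hx n hn).symm
      have hiff : ∀ k, (cj g m) ^ k = 1 ↔ n ^ k = 1 := by
        intro k
        have hk := pow_smul_eq_of_commute hc hxa k
        constructor
        · intro h1
          rw [h1, one_smul] at hk
          exact congrArg Subtype.val
            (hinj (a₁ := ⟨n ^ k, pow_mem hn k⟩) (a₂ := 1) (by simpa using! hk.symm))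
        · intro h1
          rw [h1, one_smul] at hk
          exact Basic.eq_one_of_commute_transitive M
            (fun t ht => hcomm _ (pow_mem hx k) t ht) (a := a) hk
      exact orderOf_eq_orderOf_iff.mpr hiff
  obtain ⟨p, hp, hdvd⟩ := Nat.exists_prime_and_dvd (mt Subgroup.card_eq_one.mp hMne)
  have := Fact.mk hp
  obtain ⟨x₀, hx₀⟩ := exists_prime_orderOf_dvd_card' (G := M) p hdvd
  have hx₀1 : (x₀ : N) ≠ 1 := fun h => hp.one_lt.ne' (by
    rw [← hx₀, ← Subgroup.orderOf_coe, h, orderOf_one])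
  have hP : IsPGroup p M := fun m => by
    by_cases hm1 : m = 1
    · exact ⟨0, by simp [hm1]⟩
    · refine ⟨1, ?_⟩
      have := horder m x₀ m.2 x₀.2 (fun e => hm1 (Subtype.ext e)) hx₀1
      rw [Subgroup.orderOf_coe, Subgroup.orderOf_coe, hx₀] at this
      rw [pow_one, ← this, pow_orderOf_eq_one]
  have hntM : Nontrivial M := (Subgroup.nontrivial_iff_ne_bot M).mpr hMne
  have hz := hP.center_nontrivial
  obtain ⟨⟨⟨z, hzM⟩, hzc⟩, hz1⟩ := exists_ne (1 : Subgroup.center M)
  let Z : Subgroup N := M ⊓ Subgroup.centralizer (M : Set N)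
  have hZn : Z.Normal := inferInstanceAs (M ⊓ Subgroup.centralizer (M : Set N)).Normal
  rcases hMmin Z hZn inf_le_left with h | h
  · apply hz1
    have hzZ : z ∈ Z := ⟨hzM, Subgroup.mem_centralizer_iff.mpr fun m hm =>
      congrArg Subtype.val (Subgroup.mem_center_iff.mp hzc ⟨m, hm⟩)⟩
    rw [h, Subgroup.mem_bot] at hzZ
    exact Subtype.ext (Subtype.ext hzZ)
  · have hsub : M ≤ M' := by
      intro x hx
      have hxZ : x ∈ Z := h.symm ▸ hx
      exact hcent x fun m hm => Subgroup.mem_centralizer_iff.mp hxZ.2 m hm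
    rcases hM'min M hMn hsub with h' | h'
    · exact hMne h'
    · exact hg₀ h'.symm

/-- Burnside's theorem. -/
theorem minimal_normal [Finite α] [FaithfulSMul G α] (h2 : IsMultiplyPretransitive G α 2)
    (N : Subgroup G) [N.Normal] (hNne : N ≠ ⊥)
    (hmin : ∀ M : Subgroup G, M.Normal → M ≤ N → M = ⊥ ∨ M = N) :
    (IsMulCommutative N ∧ (∃ p : ℕ, p.Prime ∧ ∀ n ∈ N, n ^ p = 1) ∧
      ∀ a : α, stabilizer N a = ⊥) ∨ (IsSimpleGroup N ∧ IsPreprimitive N α) := by
  have := isPreprimitive_of_is_two_pretransitive h2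
  have : IsPretransitive N α := Basic.isPretransitive_of_normal_ne_bot N hNne
  obtain ⟨n, hn, hn1⟩ : ∃ n ∈ N, n ≠ 1 := by
    by_contra! hall
    exact hNne ((Subgroup.eq_bot_iff_forall N).mpr hall)
  obtain ⟨a, ha⟩ : ∃ a : α, n • a ≠ a := by
    by_contra! hall
    exact hn1 (eq_of_smul_eq_smul fun x : α => by rw [one_smul]; exact hall x)
  have hα : 2 ≤ Nat.card α := by
    have : Nontrivial α := ⟨n • a, a, ha⟩
    exact Finite.one_lt_card
  by_cases hreg : ∀ b : α, stabilizer N b = ⊥
  · obtain ⟨p, hp, hc, he⟩ := Regular.elementary_of_two_transitive h2 hα N hreg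
    exact Or.inl ⟨hc, ⟨p, hp, he⟩, hreg⟩
  · have hprim : IsPreprimitive N α := by
      by_contra hnp
      exact hreg fun b => regular_of_frobenius N hmin
        (fun g x y hxy hx hy => two_point_trivial h2 N hnp hxy hx hy) b hα
    exact Or.inr ⟨simple_of_primitive h2 N hNne hmin a, hprim⟩

end Cfsg.Agent.Lib.Perm.Burnside
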