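import Cfsg.Agent.Lib.Perm.Basic
import Mathlib.GroupTheory.QuotientGroup.Basic

/-!
The centraliser in the symmetric group of a transitive permutation group.
-/

namespace Cfsg.Agent.Lib.Perm.Centralizer

open MulAction

variable {α : Type*}

/-- A centraliser element fixing-point description: fixed points of a stabiliser are images of the
base point under equivariant bijections. -/
theorem exists_mem_centralizer_of_fixed [Finite α] (G : Subgroup (Equiv.Perm α))
    [IsPretransitive G α] (a b : α) (hb : stabilizer G a ≤ stabilizer G b) :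
    ∃ c ∈ Subgroup.centralizer (G : Set (Equiv.Perm α)), c a = b := by
  classical
  choose γ hγ using fun x : α => exists_smul_eq G a x
  have key : ∀ (g : G) (x : α), g • a = x → γ x • b = g • b := by
    intro g x hx
    have hmem : (γ x)⁻¹ * g ∈ stabilizer G a := by
      rw [mem_stabilizer_iff, mul_smul, hx, inv_smul_eq_iff, hγ]
    have := hb hmem
    rw [mem_stabilizer_iff, mul_smul, inv_smul_eq_iff] at this
    exact this.symm
  let f : α → α := fun x => γ x • b
  have hsurj : Function.Surjective f := fun y => by
    obtain ⟨g, rfl⟩ := exists_smul_eq G b y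
    exact ⟨g • a, key g _ rfl⟩
  have hbij : Function.Bijective f := ⟨(Finite.injective_iff_surjective.mpr hsurj), hsurj⟩
  refine ⟨Equiv.ofBijective f hbij, ?_, ?_⟩
  · rw [Subgroup.mem_centralizer_iff]
    intro t ht
    ext x
    simp only [Equiv.Perm.coe_mul, Function.comp_apply, Equiv.ofBijective_apply, f]
    have h1 : ((⟨t, ht⟩ : G) * γ x) • a = t x := by rw [mul_smul, hγ]; rfl
    rw [key _ _ h1, mul_smul]
    rfl
  · have := key 1 a (one_smul _ _)
    rw [one_smul] at this
    exact this

theorem commute_apply (G : Subgroup (Equiv.Perm α)) {c : Equiv.Perm α}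
    (hc : c ∈ Subgroup.centralizer (G : Set (Equiv.Perm α))) (g : G) (x : α) :
    c (g • x) = g • c x := by
  have := Subgroup.mem_centralizer_iff.mp hc (g : Equiv.Perm α) g.2
  exact (congrArg (fun σ : Equiv.Perm α => σ x) this).symm

/-- The orbit of the centraliser through `a` is the fixed point set of the stabiliser of `a`. -/
theorem centralizer_orbit [Finite α] (G : Subgroup (Equiv.Perm α)) [IsPretransitive G α] (a : α) :
    orbit (Subgroup.centralizer (G : Set (Equiv.Perm α))) a = fixedPoints (stabilizer G a) α := by
  ext b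
  constructor
  · rintro ⟨⟨c, hc⟩, rfl⟩ ⟨g, hg⟩
    change g • c a = c a
    rw [← commute_apply G hc, mem_stabilizer_iff.mp hg]
  · intro hb
    obtain ⟨c, hc, hca⟩ := exists_mem_centralizer_of_fixed G a b (fun g hg => hb ⟨g, hg⟩)
    exact ⟨⟨c, hc⟩, hca⟩

/-- The centraliser of a transitive group `G` is `N_G(G_a)/G_a`. -/
theorem centralizer_iso [Finite α] (G : Subgroup (Equiv.Perm α)) [IsPretransitive G α] (a : α) :
    Nonempty (Subgroup.centralizer (G : Set (Equiv.Perm α)) ≃*
      Subgroup.normalizer ((stabilizer G a : Subgroup G) : Set G) ⧸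
        (stabilizer G a).subgroupOf
          (Subgroup.normalizer ((stabilizer G a : Subgroup G) : Set G))) := by
  classical
  set N := Subgroup.normalizer ((stabilizer G a : Subgroup G) : Set G) with hN
  set C := Subgroup.centralizer (G : Set (Equiv.Perm α)) with hC
  have hfix : ∀ n : N, stabilizer G a ≤ stabilizer G ((n : G)⁻¹ • a) := by
    intro n h hh
    rw [Basic.mem_stabilizer_smul_iff]
    have h2 := Subgroup.mem_normalizer_iff.mp n.2 h
    simpa using h2.mp hh
  choose φ hφC hφ using fun n : N => exists_mem_centralizer_of_fixed G a _ (hfix n)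
  have huniq : ∀ c d : C, (c : Equiv.Perm α) a = (d : Equiv.Perm α) a → c = d := by
    intro c d h
    apply Subtype.ext
    ext x
    obtain ⟨g, rfl⟩ := exists_smul_eq G a x
    rw [commute_apply G c.2, commute_apply G d.2, h]
  let Φ : N →* C :=
    { toFun := fun n => ⟨φ n, hφC n⟩
      map_one' := huniq _ _ (by simp [hφ])
      map_mul' := fun m n => huniq _ _ (by
        simp only [hφ, Subgroup.coe_mul, Equiv.Perm.coe_mul, Function.comp_apply, mul_inv_rev,
          commute_apply G (hφC m), mul_smul]) }
  have hsurj : Function.Surjective Φ := by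
    rintro ⟨c, hc⟩
    obtain ⟨g, hg⟩ := exists_smul_eq G a (c a)
    have hle : stabilizer G a ≤ stabilizer G (c a) := fun h hh => by
      rw [mem_stabilizer_iff, ← commute_apply G hc, mem_stabilizer_iff.mp hh]
    have hge : stabilizer G (c a) ≤ stabilizer G a := fun h hh => by
      rw [mem_stabilizer_iff] at hh ⊢
      apply c.injective
      rw [commute_apply G hc, hh]
    have heq : ∀ h : G, h ∈ stabilizer G a ↔ g⁻¹ * h * g ∈ stabilizer G a := by
      intro h
      rw [← Basic.mem_stabilizer_smul_iff, hg]
      exact ⟨fun x => hle x, fun x => hge x⟩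
    have hgN : g⁻¹ ∈ N := by
      rw [hN, Subgroup.mem_normalizer_iff]
      intro h
      simpa using heq h
    refine ⟨⟨g⁻¹, hgN⟩, huniq _ _ ?_⟩
    simp [Φ, hφ, hg]
  have hker : Φ.ker = (stabilizer G a).subgroupOf N := by
    ext n
    rw [MonoidHom.mem_ker, Subgroup.mem_subgroupOf, mem_stabilizer_iff]
    constructor
    · intro h
      have h1 : φ n a = a := by
        rw [show φ n = 1 from congrArg Subtype.val h, Equiv.Perm.one_apply]
      rw [hφ] at h1
      exact (inv_smul_eq_iff.mp h1).symm
    · intro h
      apply huniq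
      change φ n a = a
      rw [hφ, inv_smul_eq_iff, h]
  exact ⟨((QuotientGroup.quotientMulEquivOfEq hker.symm).trans
    (QuotientGroup.quotientKerEquivOfSurjective Φ hsurj)).symm⟩

end Cfsg.Agent.Lib.Perm.Centralizer
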