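import Mathlib.Data.ZMod.Basic
import Mathlib.Data.Fin.VecNotation
import Mathlib.Logic.Function.Iterate

/-!
# Word tables for permutation groups of degree eleven

Every map normalising `x ↦ 4 * x` in a group containing `x ↦ x + 1` is a table `F m a b`.  The
word lists show that all but the intended choices produce a map of order seven, and for the two
remaining choices give elements realising a fourfold transitive chain.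
-/

namespace Cfsg.Agent.Lib.Perm.DegreeEleven

abbrev Pt := ZMod 11

/-- The map `f` with `f 0 = 0`, `f 1 = a`, `f 2 = b` and `f (4 * j) = m * f j`. -/
def F (m a b : Pt) (j : Pt) : Pt :=
  [0, a, b, m ^ 4 * a, m * a, m ^ 2 * a, m ^ 4 * b, m ^ 3 * b, m * b, m ^ 3 * a, m ^ 2 * b].getD
    j.val 0

/-- Composition of the maps `gens` along a word. -/
def evalW (gens : Fin 3 → Pt → Pt) : List (Fin 3) → Pt → Pt
  | [] => id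
  | i :: w => fun j => gens i (evalW gens w j)

/-- `f` is a map of order seven. -/
abbrev Seven (f : Pt → Pt) : Prop := (∀ j, f^[7] j = j) ∧ ∃ j, f j ≠ j

/-- Generators: translation, multiplication by `r`, and `f`. -/
def gens (r : Pt) (f : Pt → Pt) : Fin 3 → Pt → Pt := ![fun j => j + 1, fun j => r * j, f]

/-- The words in `ch` give a transitive chain on the first four points. -/
abbrev ChainOK (g : Fin 3 → Pt → Pt) (ch : List (List (List (Fin 3)))) : Prop :=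
  ∀ L : Fin 4, ∀ t : Pt, L.val ≤ t.val →
    (∀ s : Fin 4, s < L → evalW g ((ch.getD L.val []).getD t.val []) (s.val : Pt) = (s.val : Pt)) ∧
      evalW g ((ch.getD L.val []).getD t.val []) (L.val : Pt) = t

def wordsC : List (List (Fin 3)) :=
  [ [1, 0, 2, 0, 2, 0, 0, 0],
    [2, 0, 2, 0, 1, 1, 0],
    [2, 1, 1, 1, 0, 2, 1, 0, 0],
    [2, 0, 2, 0, 2, 0],
    [2, 0, 2, 0, 1, 0, 0],
    [2, 0, 0, 2, 0, 0],
    [2, 1, 0, 2, 1, 0],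
    [2, 0, 2, 0, 1, 0, 0] ]

def wordsI : List (List (Fin 3)) :=
  [ [2, 1, 2, 0, 0, 2, 1, 2, 0, 0],
    [2, 0, 2, 0, 2, 0, 0, 0, 0, 0],
    [2, 1, 2, 0, 2, 1, 2, 0],
    [2, 1, 0, 2, 1, 0, 0, 0],
    [2, 1, 2, 0, 2, 1, 0] ]

def wordsS : List (List (Fin 3)) :=
  [ [1, 2, 0, 0, 2, 0, 0, 0],
    [2, 0, 2, 0, 1, 0],
    [2, 0, 0, 2, 0, 0, 0],
    [2, 0, 2, 0],
    [2, 1, 1, 0, 2, 0, 0],
    [2, 0, 2, 0, 2, 0, 2, 0, 1, 0, 0],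
    [2, 1, 1, 0, 2, 0, 2, 0, 2, 0, 0],
    [2, 0, 2, 1, 0] ]

def chains : List (List (List (List (Fin 3)))) :=
  [ [[[], [0], [0, 0], [0, 0, 0], [1, 0], [0, 1, 0], [2, 0, 0], [0, 2, 0, 0], [1, 0, 0], [2, 0, 0, 0], [1, 1, 0, 0]], [[], [], [2, 0, 0, 2, 0, 0, 0], [2, 1, 1], [1], [1, 1], [1, 0, 0, 2, 0, 0, 0], [0, 0, 2, 0, 0, 0], [0, 2, 0, 0, 1, 0], [1, 1, 1], [1, 0, 2, 0, 0, 1, 0]], [[], [], [], [1, 1, 1, 0, 2, 2, 0, 0], [0, 2, 0, 1, 1, 0], [2, 0, 2, 0, 1, 1, 0], [2], [2, 2, 2], [1, 2, 0, 2, 0, 2, 1, 0], [1, 2, 0, 2, 2, 0, 0], [2, 2]], [[], [], [], [], [0, 2, 2, 0, 2, 0, 1, 1], [2, 2, 2, 0, 0, 1, 2, 1, 0], [0, 2, 0, 1, 1, 0, 2, 2], [1, 2, 0, 1, 2, 1, 0, 0], [0, 2, 2, 0, 0, 1, 2, 1], [0, 0, 1, 2, 2, 2, 0, 0, 2, 0], [1, 2, 0, 2, 2, 0, 0, 2, 2]]],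
    [[[], [0], [0, 0], [0, 0, 0], [1, 0], [0, 1, 0], [2, 1, 0, 0], [1, 2, 0, 0], [1, 0, 0], [2, 0, 0, 0], [2, 0, 0]], [[], [], [0, 2, 2, 2, 1, 0, 0], [2, 1, 1], [1], [1, 1], [1, 1, 0, 2, 0, 0], [1, 0, 2, 0, 0], [2, 0, 2, 0, 0], [1, 1, 1], [0, 2, 0, 0]], [[], [], [], [1, 0, 2, 0, 0, 1], [2, 0, 2, 0, 2, 0], [0, 2, 1, 0, 1, 1, 0], [2, 2, 2], [0, 1, 1, 0, 2, 0], [2, 2], [0, 2, 0, 2, 0], [2]], [[], [], [], [], [1, 0, 2, 0, 0, 1, 2, 2, 2], [0, 2, 0, 2, 0, 2], [2, 2, 1, 0, 2, 0, 0, 1, 2, 2], [2, 2, 2, 0, 2, 2, 0, 1, 1, 0], [0, 2, 2, 0, 1, 1, 0, 2], [0, 2, 0, 2, 2, 0, 1, 1], [0, 2, 0, 0, 2, 2, 2, 1]]] ]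

theorem classify_centralizer : ∀ a b : Pt, (∀ i j, F 4 a b i = F 4 a b j → i = j) →
    ∃ i : Fin 5, (∀ j, F 4 (4 ^ i.val * a) (4 ^ i.val * b) j = j) ∨
      (∀ j, F 4 (4 ^ i.val * a) (4 ^ i.val * b) j = 2 * j) ∨
      ∃ w ∈ wordsC, Seven (evalW (gens 4 (F 4 (4 ^ i.val * a) (4 ^ i.val * b))) w) := by
  decide +kernel

theorem classify_inverting : ∀ a b : Pt, (∀ i j, F 3 a b i = F 3 a b j → i = j) →
    ∃ n : Fin 10, ∃ w ∈ wordsI,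
      Seven (evalW (gens 2 (F 3 (2 ^ n.val * a) (2 ^ n.val * b))) w) := by
  decide +kernel

theorem classify_squaring : ∀ a b : Pt, (∀ i j, F 5 a b i = F 5 a b j → i = j) →
    ∃ i : Fin 5, (∃ w ∈ wordsS, Seven (evalW (gens 4 (F 5 (4 ^ i.val * a) (4 ^ i.val * b))) w)) ∨
      ∃ ch ∈ chains, ChainOK (gens 4 (F 5 (4 ^ i.val * a) (4 ^ i.val * b))) ch := by
  decide +kernel

end Cfsg.Agent.Lib.Perm.DegreeEleven
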