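import Cfsg.Agent.Lib.Perm.Basic
import Mathlib.GroupTheory.Transfer
import Mathlib.GroupTheory.Solvable
import Mathlib.GroupTheory.SpecificGroups.Cyclic
import Mathlib.GroupTheory.GroupAction.Jordan
import Mathlib.GroupTheory.Sylow

/-!
# Sylow data of a transitive group of prime degree

The Sylow `p`-subgroup has order `p`, it is self-centralising, and the order of the group is
`k * (p * e)` with `k ≡ 1 (mod p)` and `e ∣ p - 1`. Also a large Sylow `q`-subgroup forces every
`q`-element of the symmetric group to have a conjugate in the group.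
-/

namespace Cfsg.Agent.Lib.Perm.PrimeDegreeSylow

open MulAction

/-- A subgroup with full Sylow `q`-order contains a conjugate of every `q`-element. -/
theorem exists_conj_mem {Γ : Type*} [Group Γ] [Finite Γ] {q v a : ℕ} [Fact q.Prime]
    (H : Subgroup Γ) (hv : q ^ v ∣ Nat.card H) (hmax : ¬ q ^ (v + 1) ∣ Nat.card Γ)
    {σ : Γ} (hσ : σ ^ q ^ a = 1) : ∃ g : Γ, g * σ * g⁻¹ ∈ H := by
  obtain ⟨R⟩ : Nonempty (Sylow q H) := inferInstance
  have hR : IsPGroup q ((R : Subgroup H).map H.subtype) := R.isPGroup'.map _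
  obtain ⟨S, hRS⟩ := hR.exists_le_sylow
  have hcard : q ^ v ≤ Nat.card ((R : Subgroup H).map H.subtype) := by
    rw [Subgroup.card_map_of_injective H.subtype_injective, R.card_eq_multiplicity]
    exact Nat.pow_le_pow_right (Nat.Prime.pos Fact.out)
      ((Nat.Prime.pow_dvd_iff_le_factorization Fact.out Nat.card_pos.ne').mp hv)
  have hS : Nat.card (S : Subgroup Γ) ≤ q ^ v := by
    rw [S.card_eq_multiplicity]
    refine Nat.pow_le_pow_right (Nat.Prime.pos Fact.out) (Nat.lt_succ_iff.mp ?_)
    by_contra h
    exact hmax ((Nat.Prime.pow_dvd_iff_le_factorization Fact.out Nat.card_pos.ne').mpr (not_lt.mp h))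
  have hSH : (S : Subgroup Γ) ≤ H := by
    rw [← Subgroup.eq_of_le_of_card_ge hRS (hS.trans hcard)]
    exact Subgroup.map_subtype_le _
  have hz : IsPGroup q (Subgroup.zpowers σ) := by
    obtain ⟨b, -, hb⟩ := (Nat.dvd_prime_pow Fact.out).mp (orderOf_dvd_of_pow_eq_one hσ)
    exact IsPGroup.of_card (n := b) (by rw [Nat.card_zpowers, hb])
  obtain ⟨T, hT⟩ := hz.exists_le_sylow
  obtain ⟨g, hg⟩ := MulAction.exists_smul_eq Γ T S
  refine ⟨g, hSH ?_⟩
  rw [← hg, Sylow.coe_subgroup_smul]
  exact Subgroup.smul_mem_pointwise_smul _ (MulAut.conj g) _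
    (hT (Subgroup.mem_zpowers σ))

variable {α : Type*} [Fintype α] {p : ℕ} [hp : Fact p.Prime]
variable (hα : Fintype.card α = p) (G : Subgroup (Equiv.Perm α))

include hα

theorem isPreprimitive [IsPretransitive G α] : IsPreprimitive G α :=
  IsPreprimitive.of_prime_card (by rw [Nat.card_eq_fintype_card, hα]; exact hp.out)

theorem dvd_card [IsPretransitive G α] : p ∣ Nat.card G := by
  have : Nonempty α := Fintype.card_pos_iff.mp (hα ▸ hp.out.pos)
  obtain ⟨a⟩ := this
  rw [Basic.card_eq_card_mul_card_stabilizer (α := α) a, Nat.card_eq_fintype_card (α := α), hα]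
  exact dvd_mul_right p _

omit hp in
theorem card_dvd_factorial : Nat.card G ∣ p.factorial := by
  classical
  have h : Nat.card (Equiv.Perm α) = p.factorial := by
    rw [Nat.card_perm, Nat.card_eq_fintype_card, hα]
  rw [← h]
  exact G.card_subgroup_dvd_card

theorem not_sq_dvd_card : ¬ p ^ 2 ∣ Nat.card G := fun h => by
  have h2 := h.trans (card_dvd_factorial hα G)
  obtain ⟨m, rfl⟩ := Nat.exists_eq_succ_of_ne_zero hp.out.ne_zero
  rw [Nat.factorial_succ, pow_two] at h2
  have h3 := (hp.out.dvd_factorial).mp (Nat.dvd_of_mul_dvd_mul_left m.succ_pos h2)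
  omega

variable [IsPretransitive G α] (P : Sylow p G)

theorem card_sylow : Nat.card (P : Subgroup G) = p := by
  rw [P.card_eq_multiplicity]
  have h1 : 1 ≤ (Nat.card G).factorization p :=
    (hp.out.dvd_iff_one_le_factorization Nat.card_pos.ne').mp (dvd_card hα G)
  have h2 : ¬ 2 ≤ (Nat.card G).factorization p := fun h =>
    not_sq_dvd_card hα G ((hp.out.pow_dvd_iff_le_factorization Nat.card_pos.ne').mpr h)
  rw [show (Nat.card G).factorization p = 1 by omega, pow_one]

theorem isCyclic_sylow : IsCyclic (P : Subgroup G) := isCyclic_of_prime_card (card_sylow hα G P)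

theorem sylow_transitive : IsPretransitive (P : Subgroup G) α := by
  obtain ⟨b, hb⟩ : ∃ b : α, ¬ ∀ x : (P : Subgroup G), x • b = b := by
    by_contra! h
    have : (P : Subgroup G) = ⊥ := (Subgroup.eq_bot_iff_forall _).mpr fun x hx =>
      Subtype.ext (Equiv.ext fun b => h b ⟨x, hx⟩)
    have hc := card_sylow hα G P
    rw [this, Subgroup.card_bot] at hc
    exact hp.out.one_lt.ne hc
  have hdvd : Nat.card (orbit (P : Subgroup G) b) ∣ p := by
    have := Subgroup.index_dvd_card (stabilizer (P : Subgroup G) b)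
    rwa [index_stabilizer, card_sylow hα G P, ← Nat.card_coe_set_eq] at this
  have hne : Nat.card (orbit (P : Subgroup G) b) ≠ 1 := by
    intro h
    refine hb fun x => ?_
    have h1 := (Nat.card_eq_one_iff_unique.mp h).1
    exact congrArg Subtype.val (Subsingleton.elim (⟨x • b, mem_orbit b x⟩ : orbit (P : Subgroup G) b)
      ⟨b, mem_orbit_self b⟩)
  have hfull : orbit (P : Subgroup G) b = Set.univ := by
    refine Set.eq_of_subset_of_ncard_le (Set.subset_univ _) ?_ Set.finite_univ
    rw [Set.ncard_univ, Nat.card_eq_fintype_card, hα, ← Nat.card_coe_set_eq,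
      (hp.out.eq_one_or_self_of_dvd _ hdvd).resolve_left hne]
  exact MulAction.isPretransitive_iff_orbit_eq_univ b |>.mpr hfull

theorem centralizer_sylow : Subgroup.centralizer ((P : Subgroup G) : Set G) = P := by
  have : Nonempty α := Fintype.card_pos_iff.mp (hα ▸ hp.out.pos)
  obtain ⟨a⟩ := this
  have := sylow_transitive hα G P
  have hle : (P : Subgroup G) ≤ Subgroup.centralizer ((P : Subgroup G) : Set G) := by
    have := isCyclic_sylow hα G P
    exact Subgroup.le_centralizer_iff_isMulCommutative.mpr inferInstance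
  refine (Subgroup.eq_of_le_of_card_ge hle ?_).symm
  have h := Nat.card_le_card_of_injective _
    (Basic.orbit_map_injective_of_le_centralizer (α := α) (P : Subgroup G) le_rfl a)
  rw [card_sylow hα G P]
  exact h.trans_eq (by rw [Nat.card_eq_fintype_card, hα])

/-- The order of the normaliser of a Sylow `p`-subgroup. -/
theorem card_normalizer : ∃ e, e ∣ p - 1 ∧
    Nat.card (Subgroup.normalizer ((P : Subgroup G) : Set G)) = p * e := by
  have := isCyclic_sylow hα G P
  let φ := (P : Subgroup G).normalizerMonoidHom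
  refine ⟨Nat.card φ.range, ?_, ?_⟩
  · have h := φ.range.card_subgroup_dvd_card
    rwa [IsCyclic.card_mulAut, card_sylow hα G P, Nat.totient_prime hp.out] at h
  · rw [← φ.ker.card_mul_index, Subgroup.index_ker, Subgroup.normalizerMonoidHom_ker,
      centralizer_sylow hα G P,
      Nat.card_congr (Subgroup.subgroupOfEquivOfLe Subgroup.le_normalizer).toEquiv,
      card_sylow hα G P]

theorem sylow_number : ∃ k, k % p = 1 ∧
    k = (Subgroup.normalizer ((P : Subgroup G) : Set G)).index := by
  refine ⟨_, ?_, rfl⟩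
  have h := card_sylow_modEq_one p G
  rw [Sylow.card_eq_index_normalizer P] at h
  exact (show _ % p = 1 % p from h).trans (Nat.mod_eq_of_lt hp.out.one_lt)

/-- `|G| = k * (p * e)`. -/
theorem card_decomposition : ∃ k e, Nat.card G = k * (p * e) ∧ k % p = 1 ∧ e ∣ p - 1 ∧
    Nat.card (Subgroup.normalizer ((P : Subgroup G) : Set G)) = p * e := by
  obtain ⟨e, he, hN⟩ := card_normalizer hα G P
  obtain ⟨k, hk, hkN⟩ := sylow_number hα G P
  refine ⟨k, e, ?_, hk, he, hN⟩
  rw [hkN, ← hN, mul_comm, Subgroup.card_mul_index]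

/-- A non-trivial normal subgroup contains every Sylow `p`-subgroup. -/
theorem sylow_le_normal (N : Subgroup G) [hN : N.Normal] (hne : N ≠ ⊥) : (P : Subgroup G) ≤ N := by
  have := isPreprimitive hα G
  have hNtr := Basic.isPretransitive_of_normal_ne_bot (α := α) N hne
  have hdvd : p ∣ Nat.card N := by
    have : Nonempty α := Fintype.card_pos_iff.mp (hα ▸ hp.out.pos)
    obtain ⟨a⟩ := this
    rw [Basic.card_eq_card_mul_card_stabilizer (α := α) a, Nat.card_eq_fintype_card (α := α), hα]
    exact dvd_mul_right p _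
  obtain ⟨x, hx⟩ := exists_prime_orderOf_dvd_card' p hdvd
  let Q : Subgroup G := Subgroup.zpowers (x : G)
  have hQc : Nat.card Q = p := by rw [Nat.card_zpowers, Subgroup.orderOf_coe, hx]
  have hQ : IsPGroup p Q := IsPGroup.of_card (n := 1) (by rw [hQc, pow_one])
  obtain ⟨S, hS⟩ := hQ.exists_le_sylow
  have hSQ : (S : Subgroup G) = Q :=
    (Subgroup.eq_of_le_of_card_ge hS (by rw [card_sylow hα G S, hQc])).symm
  obtain ⟨g, hg⟩ := MulAction.exists_smul_eq G S P
  rw [← hg, Sylow.coe_subgroup_smul, hSQ]
  rintro y ⟨z, hz, rfl⟩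
  obtain ⟨i, rfl⟩ := hz
  exact hN.conj_mem _ (zpow_mem x.2 i) g

/-- A normal subgroup in which the Sylow `p`-subgroup is self-normalising is that subgroup. -/
theorem normal_eq_sylow (N : Subgroup G) [hN : N.Normal] (hne : N ≠ ⊥)
    (hself : N ⊓ Subgroup.normalizer ((P : Subgroup G) : Set G) ≤ P) : N = P := by
  have hPN := sylow_le_normal hα G P N hne
  let PN : Sylow p N := P.subtype hPN
  have hPNc : (PN : Subgroup N) = (P : Subgroup G).subgroupOf N := P.coe_subtype hPN
  have hle : Subgroup.normalizer ((PN : Subgroup N) : Set N) ≤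
      Subgroup.centralizer ((PN : Subgroup N) : Set N) := by
    intro x hx
    have hxP : (x : G) ∈ (P : Subgroup G) := by
      refine hself ⟨x.2, ?_⟩
      rw [Subgroup.mem_normalizer_iff] at hx
      refine Subgroup.mem_normalizer_iff.mpr fun h => ?_
      by_cases hh : h ∈ N
      · have := hx ⟨h, hh⟩
        simpa [hPNc, Subgroup.mem_subgroupOf] using this
      · refine ⟨fun h' => absurd (hPN h') hh, fun h' => absurd ?_ hh⟩
        have := hN.conj_mem _ (hPN h') (x : G)⁻¹
        simpa [mul_assoc] using this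
    have := isCyclic_sylow hα G P
    rw [Subgroup.mem_centralizer_iff]
    intro y hy
    rw [SetLike.mem_coe, hPNc, Subgroup.mem_subgroupOf] at hy
    refine Subtype.ext ?_
    simpa using congrArg (fun z : (P : Subgroup G) => (z : G))
      (mul_comm' (⟨(y : G), hy⟩ : (P : Subgroup G)) ⟨(x : G), hxP⟩)
  let K := (MonoidHom.transferSylow PN hle).ker
  have hK := MonoidHom.ker_transferSylow_isComplement' PN hle
  have hKp : ¬ p ∣ Nat.card K := MonoidHom.not_dvd_card_ker_transferSylow PN hle
  have hKbot : K.map N.subtype = ⊥ := by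
    have hnormal : (K.map N.subtype).Normal := by
      refine ⟨?_⟩
      rintro _ ⟨x, hx, rfl⟩ g
      refine ⟨⟨g * x * g⁻¹, hN.conj_mem _ x.2 g⟩, ?_, rfl⟩
      have hord : orderOf (⟨g * x * g⁻¹, hN.conj_mem _ x.2 g⟩ : N) = orderOf x := by
        rw [← Subgroup.orderOf_coe, ← Subgroup.orderOf_coe x]
        exact orderOf_injective (MulAut.conj g).toMonoidHom (MulAut.conj g).injective (x : G)
      have hco : ¬ p ∣ orderOf x := fun h => hKp <| h.trans <| by
        rw [← Nat.card_zpowers]
        exact Subgroup.card_dvd_of_le (by simpa using hx)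
      have himg := orderOf_map_dvd (MonoidHom.transferSylow PN hle)
        (⟨g * x * g⁻¹, hN.conj_mem _ x.2 g⟩ : N)
      rw [hord] at himg
      have hdp := (orderOf_dvd_natCard (MonoidHom.transferSylow PN hle
        ⟨g * x * g⁻¹, hN.conj_mem _ x.2 g⟩))
      rw [show Nat.card (PN : Subgroup N) = p by
        rw [hPNc, Nat.card_congr (Subgroup.subgroupOfEquivOfLe hPN).toEquiv,
          card_sylow hα G P]] at hdp
      rcases hp.out.eq_one_or_self_of_dvd _ hdp with h | h
      · exact orderOf_eq_one_iff.mp h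
      · exact absurd (h ▸ himg) hco
    by_contra hb
    apply hKp
    have := Subgroup.card_dvd_of_le (sylow_le_normal hα G P _ hb)
    rwa [card_sylow hα G P, Subgroup.card_map_of_injective N.subtype_injective] at this
  rw [Subgroup.map_eq_bot_iff_of_injective _ N.subtype_injective] at hKbot
  replace hK : Subgroup.IsComplement' (⊥ : Subgroup N) PN := hKbot ▸ hK
  have := hK.sup_eq_top
  rw [bot_sup_eq, hPNc, Subgroup.subgroupOf_eq_top] at this
  exact le_antisymm this hPN

theorem solvable_of_sylow_normal (h : Subgroup.normalizer ((P : Subgroup G) : Set G) = ⊤) :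
    Group.IsSolvable G := by
  have := isCyclic_sylow hα G P
  let φ := (P : Subgroup G).normalizerMonoidHom
  have hker : Group.IsSolvable φ.ker := by
    rw [Subgroup.normalizerMonoidHom_ker, centralizer_sylow hα G P]
    refine Group.isSolvable_of_comm fun a b => Subtype.ext (Subtype.ext ?_)
    simpa using congrArg (fun z : (P : Subgroup G) => (z : G))
      (mul_comm' (⟨a.1.1, a.2⟩ : (P : Subgroup G)) ⟨b.1.1, b.2⟩)
  have hr : Group.IsSolvable (MulAut (P : Subgroup G)) :=
    Group.isSolvable_of_isSolvable_injective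
      (f := (IsCyclic.mulAutMulEquiv (G := (P : Subgroup G))).toMonoidHom)
      (MulEquiv.injective _)
  have hN : Group.IsSolvable (Subgroup.normalizer ((P : Subgroup G) : Set G)) :=
    (Group.isSolvable_iff_subgroup_quotient φ.ker).mpr
      ⟨hker, Group.isSolvable_of_isSolvable_injective (QuotientGroup.kerLift_injective φ)⟩
  rw [h] at hN
  exact Group.isSolvable_of_surjective (f := (Subgroup.topEquiv (G := G)).toMonoidHom)
    (MulEquiv.surjective _)

theorem e_ne_one (hG : ¬ Group.IsSolvable G) :
    Nat.card (Subgroup.normalizer ((P : Subgroup G) : Set G)) ≠ p := fun h => by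
  have hPN : (P : Subgroup G) = Subgroup.normalizer ((P : Subgroup G) : Set G) :=
    Subgroup.eq_of_le_of_card_ge Subgroup.le_normalizer (by rw [h, card_sylow hα G P])
  have hne : (⊤ : Subgroup G) ≠ ⊥ := fun ht => by
    have h2 := dvd_card hα G
    rw [← Subgroup.card_top, ht, Subgroup.card_bot] at h2
    exact hp.out.not_dvd_one h2
  have := normal_eq_sylow hα G P ⊤ hne (by rw [top_inf_eq]; exact hPN.symm.le)
  refine hG (solvable_of_sylow_normal hα G P ?_)
  rw [← hPN, ← this]

/-- If the index of the Sylow subgroup in its normaliser is prime, the group is simple. -/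
theorem isSimpleGroup (hG : ¬ Group.IsSolvable G) {e : ℕ} (he : e.Prime)
    (hN : Nat.card (Subgroup.normalizer ((P : Subgroup G) : Set G)) = p * e) :
    IsSimpleGroup G := by
  have hnt : Nontrivial G := by
    by_contra h
    exact hG (by
      have := not_nontrivial_iff_subsingleton.mp h
      infer_instance)
  refine ⟨fun N hNn => ?_⟩
  by_cases hne : N = ⊥
  · exact Or.inl hne
  refine Or.inr ?_
  have hPN := sylow_le_normal hα G P N hne
  let N' := Subgroup.normalizer ((P : Subgroup G) : Set G)
  have h1 : Nat.card (N ⊓ N' : Subgroup G) ∣ p * e :=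
    hN ▸ Subgroup.card_dvd_of_le inf_le_right
  have h2 : p ∣ Nat.card (N ⊓ N' : Subgroup G) :=
    card_sylow hα G P ▸ Subgroup.card_dvd_of_le (le_inf hPN Subgroup.le_normalizer)
  obtain ⟨d, hd⟩ := h2
  rw [hd] at h1
  rcases he.eq_one_or_self_of_dvd d (Nat.dvd_of_mul_dvd_mul_left hp.out.pos h1) with rfl | rfl
  · exfalso
    have heq : (N ⊓ N' : Subgroup G) ≤ P := le_of_eq
      (Subgroup.eq_of_le_of_card_ge (le_inf hPN Subgroup.le_normalizer)
        (by rw [hd, mul_one, card_sylow hα G P])).symm
    have := normal_eq_sylow hα G P N hne heq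
    exact hG (solvable_of_sylow_normal hα G P (Subgroup.normalizer_eq_top_iff.mpr (this ▸ hNn)))
  · have hle : N' ≤ N := by
      rw [← inf_eq_right]
      exact Subgroup.eq_of_le_of_card_ge inf_le_right (by rw [hd, hN])
    have hF := Sylow.normalizer_sup_eq_top' (N := N) P hPN
    exact top_le_iff.mp (hF.ge.trans (sup_le hle le_rfl))

end Cfsg.Agent.Lib.Perm.PrimeDegreeSylow
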