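import Cfsg.Agent.Lib.Perm.DegreeElevenMaps
import Cfsg.Agent.Lib.Perm.PrimeDegreeSylow
import Cfsg.Agent.S0713
import Mathlib.GroupTheory.Perm.Cycle.Concrete

/-!
# Non-solvable transitive groups of degree eleven

A group containing `x ↦ x + 1` that is not solvable and does not contain the alternating group is
either simple of order 660 or sharply fourfold transitive of order 7920.
-/

namespace Cfsg.Agent.Lib.Perm.DegreeEleven

open MulAction Cfsg.Agent.Lib.Perm

variable {G : Subgroup (Equiv.Perm Pt)} [IsPretransitive G Pt]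

theorem not_pow_dvd (hA : ¬ alternatingGroup Pt ≤ G) (q v : ℕ) [Fact q.Prime] (hq : q ≤ 8)
    (hmax : ¬ q ^ (v + 1) ∣ Nat.card (Equiv.Perm Pt)) : ¬ q ^ v ∣ Nat.card G := by
  intro h
  have hq2 := (Fact.out : q.Prime).two_le
  let l : List Pt := List.map (fun n : ℕ => (n : Pt)) (List.range q)
  have hlen : l.length = q := by simp [l]
  have hnd : l.Nodup := by
    refine List.Nodup.map_on ?_ List.nodup_range
    intro i hi j hj hij
    rw [List.mem_range] at hi hj
    have := congrArg ZMod.val hij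
    rwa [ZMod.val_natCast_of_lt (by omega), ZMod.val_natCast_of_lt (by omega)] at this
  have hcyc : l.formPerm.IsCycle := List.isCycle_formPerm hnd (by omega)
  have hsupp : l.formPerm.support.card = q := by
    rw [List.support_formPerm_of_nodup l hnd (fun x hx => by rw [hx] at hlen; simp at hlen; omega),
      List.toFinset_card_of_nodup hnd, hlen]
  have hσ : l.formPerm ^ q ^ 1 = 1 := by
    have := pow_orderOf_eq_one l.formPerm
    rw [hcyc.orderOf, hsupp] at this
    rwa [pow_one]
  obtain ⟨g, hg⟩ := PrimeDegreeSylow.exists_conj_mem G h hmax hσ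
  exact hA (Cfsg.Agent.S0713.result G (PrimeDegreeSylow.isPreprimitive (p := 11) (ZMod.card 11) G)
    (p := q) Fact.out (by rw [ZMod.card]; norm_num) (by rw [ZMod.card]; omega) hcyc.conj
    (by rw [Equiv.Perm.card_support_conj]; exact hsupp) hg)

theorem card_dvd (hA : ¬ alternatingGroup Pt ≤ G) : Nat.card G ∣ 190080 := by
  have hperm : Nat.card (Equiv.Perm Pt) = 39916800 := by
    rw [Nat.card_perm, Nat.card_eq_fintype_card, ZMod.card]; rfl
  have f2 : Fact (Nat.Prime 2) := ⟨by decide⟩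
  have f3 : Fact (Nat.Prime 3) := ⟨by decide⟩
  have f5 : Fact (Nat.Prime 5) := ⟨by decide⟩
  have f7 : Fact (Nat.Prime 7) := ⟨by decide⟩
  have h2 := not_pow_dvd hA 2 8 (by norm_num) (by rw [hperm]; norm_num)
  have h3 := not_pow_dvd hA 3 4 (by norm_num) (by rw [hperm]; norm_num)
  have h5 := not_pow_dvd hA 5 2 (by norm_num) (by rw [hperm]; norm_num)
  have h7 := not_pow_dvd hA 7 1 (by norm_num) (by rw [hperm]; norm_num)
  have hd : Nat.card G ∣ 2 ^ 8 * 3 ^ 4 * 5 ^ 2 * 7 ^ 1 * 11 := by
    norm_num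
    rw [← hperm]
    exact G.card_subgroup_dvd_card
  -- remove one factor at a time
  have step : ∀ {n q v m : ℕ}, q.Prime → n ∣ q ^ v * m → ¬ q ^ v ∣ n → n ∣ q ^ (v - 1) * m := by
    intro n q v m hq hn hnot
    obtain ⟨a, b, ha, hb, rfl⟩ := exists_dvd_and_dvd_of_dvd_mul hn
    obtain ⟨i, hi, rfl⟩ := (Nat.dvd_prime_pow hq).mp ha
    have : i ≠ v := fun h => hnot (h ▸ dvd_mul_right _ _)
    exact mul_dvd_mul (pow_dvd_pow q (by omega)) hb
  have e2 := step f2.out (m := 3 ^ 4 * 5 ^ 2 * 7 ^ 1 * 11) (by simpa [mul_assoc] using hd) h2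
  have e3 := step f3.out (m := 2 ^ (8 - 1) * 5 ^ 2 * 7 ^ 1 * 11) (e2.trans (by norm_num)) h3
  have e5 := step f5.out (m := 3 ^ (4 - 1) * 2 ^ (8 - 1) * 7 ^ 1 * 11) (e3.trans (by norm_num)) h5
  have e7 := step f7.out (m := 5 ^ (2 - 1) * 3 ^ (4 - 1) * 2 ^ (8 - 1) * 11)
    (e5.trans (by norm_num)) h7
  exact e7.trans (by norm_num)

omit [IsPretransitive G Pt] in
/-- An element normalising the translations is affine. -/
theorem affine_of_normalizes {c : G} (hc : ∀ j, (c : Equiv.Perm Pt) j = j + 1) {g : G}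
    (hg : g ∈ Subgroup.normalizer ((Subgroup.zpowers c : Subgroup G) : Set G)) :
    ∃ n : Pt, ∀ j, (g : Equiv.Perm Pt) j = n * j + (g : Equiv.Perm Pt) 0 := by
  have hconj := (Subgroup.mem_normalizer_iff.mp hg c).mp (Subgroup.mem_zpowers c)
  rw [← mem_powers_iff_mem_zpowers] at hconj
  obtain ⟨n, hn⟩ := hconj
  have hcn : ∀ (k : ℕ) (j : Pt), ((c : Equiv.Perm Pt) ^ k) j = j + k := by
    intro k
    induction k with
    | zero => simp
    | succ k ih =>
      intro j
      rw [pow_succ, Equiv.Perm.mul_apply, hc, ih]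
      push_cast
      ring
  have h1 : ∀ j, (g : Equiv.Perm Pt) (j + 1) = (g : Equiv.Perm Pt) j + n := by
    intro j
    have := congrArg (fun z : G => (z : Equiv.Perm Pt) ((g : Equiv.Perm Pt) j)) hn
    simpa [hcn, hc] using this.symm
  refine ⟨n, fun j => ?_⟩
  rw [← ZMod.natCast_zmod_val j]
  induction j.val with
  | zero => simp
  | succ k ih => push_cast; rw [h1, ih]; ring

omit [IsPretransitive G Pt] in
theorem mul_mem_normalizer {c : G} (hc : ∀ j, (c : Equiv.Perm Pt) j = j + 1) {g : G} {r : Pt}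
    (hg : ∀ j, (g : Equiv.Perm Pt) j = r * j) :
    g ∈ Subgroup.normalizer ((Subgroup.zpowers c : Subgroup G) : Set G) := by
  have hcn : ∀ (k : ℕ) (j : Pt), ((c : Equiv.Perm Pt) ^ k) j = j + k := by
    intro k
    induction k with
    | zero => simp
    | succ k ih =>
      intro j
      rw [pow_succ, Equiv.Perm.mul_apply, hc, ih]
      push_cast
      ring
  have h : g * c * g⁻¹ = c ^ r.val := by
    rw [mul_inv_eq_iff_eq_mul]
    refine Subtype.ext (Equiv.ext fun j => ?_)
    simp [hcn, hc, hg, mul_add]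
  refine Subgroup.mem_normalizer_fintype fun z hz => ?_
  obtain ⟨k, rfl⟩ := hz
  change g * c ^ k * g⁻¹ ∈ Subgroup.zpowers c
  rw [← conj_zpow, h]
  exact zpow_mem (pow_mem (Subgroup.mem_zpowers c) _) _

omit [IsPretransitive G Pt] in
theorem has_elem {f : Pt → Pt} (h : Has G f) : ∃ g : G, ∀ j, (g : Equiv.Perm Pt) j = f j := by
  obtain ⟨g, hg, rfl⟩ := h
  exact ⟨⟨g, hg⟩, fun j => rfl⟩

omit [IsPretransitive G Pt] in
theorem has_of_elem (g : G) {f : Pt → Pt} (h : ∀ j, (g : Equiv.Perm Pt) j = f j) : Has G f :=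
  ⟨g, g.2, funext h⟩

/-- The normaliser of the translations: its multipliers are the roots of `r ^ e = 1`. -/
theorem multipliers {c : G} (hc : ∀ j, (c : Equiv.Perm Pt) j = j + 1)
    {e : ℕ} (he : e = 2 ∨ e = 5 ∨ e = 10)
    (hN : Nat.card (Subgroup.normalizer ((Subgroup.zpowers c : Subgroup G) : Set G)) = 11 * e) :
    ∀ r : Pt, r ^ e = 1 ↔ Has G fun j => r * j := by
  classical
  set N := Subgroup.normalizer ((Subgroup.zpowers c : Subgroup G) : Set G)
  choose n hn using fun g : N => affine_of_normalizes hc g.2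
  have hroot : ∀ g : N, n g ^ e = 1 := by
    intro g
    have hpow : ∀ k : ℕ, ((g : G) : Equiv.Perm Pt)^[k] 1 - ((g : G) : Equiv.Perm Pt)^[k] 0 =
        n g ^ k := by
      intro k
      induction k with
      | zero => simp
      | succ k ih =>
        rw [Function.iterate_succ_apply', Function.iterate_succ_apply',
          hn g (((g : G) : Equiv.Perm Pt)^[k] 1), hn g (((g : G) : Equiv.Perm Pt)^[k] 0), pow_succ',
          ← ih]
        ring
    have h1 : (((g : G) : Equiv.Perm Pt)) ^ (11 * e) = 1 := by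
      rw [← hN, ← SubmonoidClass.coe_pow, ← SubmonoidClass.coe_pow, pow_card_eq_one']
      rfl
    have h2 := hpow (11 * e)
    rw [← Equiv.Perm.coe_pow, h1] at h2
    simp only [Equiv.Perm.coe_one, id_eq, sub_zero] at h2
    have hne : n g ≠ 0 := by
      intro h0
      rw [h0, zero_pow (by omega)] at h2
      exact one_ne_zero h2
    rw [show 11 * e = 10 * e + e by ring, pow_add, pow_mul, ZMod.pow_card_sub_one_eq_one hne,
      one_pow, one_mul] at h2
    exact h2.symm
  let ψ : N → {x : Pt × Pt // x.1 ^ e = 1} := fun g =>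
    ⟨(n g, ((g : G) : Equiv.Perm Pt) 0), hroot g⟩
  have hinj : Function.Injective ψ := by
    intro g g' h
    simp only [ψ, Subtype.mk.injEq, Prod.mk.injEq] at h
    exact Subtype.ext (Subtype.ext (Equiv.ext fun j => by rw [hn g, hn g', h.1, h.2]))
  have hsurj : Function.Surjective ψ := by
    refine ((Nat.bijective_iff_injective_and_card ψ).mpr ⟨hinj, ?_⟩).2
    rw [hN, Nat.card_eq_fintype_card]
    rcases he with rfl | rfl | rfl <;> decide +kernel
  intro r
  constructor
  · intro hr
    obtain ⟨g, hg⟩ := hsurj ⟨(r, 0), hr⟩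
    simp only [ψ, Subtype.mk.injEq, Prod.mk.injEq] at hg
    exact has_of_elem (g : G) fun j => by rw [hn g, hg.1, hg.2, add_zero]
  · intro hr
    obtain ⟨g, hg⟩ := has_elem hr
    have h := hn ⟨g, mul_mem_normalizer hc hg⟩ 1
    rw [hg, hg, mul_one, mul_one, mul_zero, add_zero] at h
    exact h ▸ hroot _

omit [IsPretransitive G Pt] in
/-- The centraliser of `x ↦ 4 * x` consists of multiplications. -/
theorem centralizer_four (h7 : ¬ 7 ∣ Nat.card G) (ht : Has G fun j => j + 1)
    (h4 : Has G fun j => 4 * j) {g : G}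
    (hg : ∀ j, (g : Equiv.Perm Pt) (4 * j) = 4 * (g : Equiv.Perm Pt) j) :
    ∃ r : Pt, ∀ j, (g : Equiv.Perm Pt) j = r * j := by
  have hF := F_eq (m := 4) (by decide) hg
  obtain ⟨i, hi⟩ := classify_centralizer _ _ (F_injective hF)
  have hmul : ∀ j, F 4 (4 ^ i.val * (g : Equiv.Perm Pt) 1) (4 ^ i.val * (g : Equiv.Perm Pt) 2) j =
      4 ^ i.val * (g : Equiv.Perm Pt) j := fun j => by rw [← F_smul, ← hF]
  have hu : (4 : Pt) ^ i.val * 4 ^ (5 - i.val) = 1 := by
    rw [← pow_add, Nat.add_sub_cancel' i.isLt.le]; decide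
  rcases hi with hi | hi | ⟨w, -, hw⟩
  · refine ⟨4 ^ (5 - i.val), fun j => ?_⟩
    have h := hi j
    rw [hmul] at h
    conv_rhs => rw [← h, ← mul_assoc, mul_comm (4 ^ (5 - i.val)), hu, one_mul]
  · refine ⟨4 ^ (5 - i.val) * 2, fun j => ?_⟩
    have h := hi j
    rw [hmul] at h
    rw [mul_assoc, ← h, ← mul_assoc, mul_comm (4 ^ (5 - i.val)), hu, one_mul]
  · refine (no_seven h7 (Has.evalW (has_gens ht h4 ?_) w) hw).elim
    have := (h4.pow_mul i.val).comp (has_of_elem g (f := (g : Equiv.Perm Pt)) fun j => rfl)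
    rwa [← funext hmul] at this

omit [IsPretransitive G Pt] in
/-- The normaliser of `⟨x ↦ 4 * x⟩`: its index and the exponents it realises. -/
theorem normalizer_four (h25 : ¬ 25 ∣ Nat.card G) {x ρ : G}
    (hx : ∀ j, (x : Equiv.Perm Pt) j = 4 * j)
    (hC : Subgroup.centralizer ((Subgroup.zpowers x : Subgroup G) : Set G) = Subgroup.zpowers ρ) :
    ∃ i idx, (i = 1 ∨ i = 2 ∨ i = 4) ∧ idx % 5 = 1 ∧ Nat.card G = idx * (orderOf ρ * i) ∧
      ∃ S : Finset (Fin 5), i ≤ S.card ∧ ∀ r ∈ S, ∃ g : G,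
        ∀ j, (g : Equiv.Perm Pt) (4 * j) = 4 ^ r.val * (g : Equiv.Perm Pt) j := by
  classical
  have : Fact (Nat.Prime 5) := ⟨by decide⟩
  have hxn : ∀ (k : ℕ) (j : Pt), ((x : Equiv.Perm Pt) ^ k) j = 4 ^ k * j := by
    intro k
    induction k with
    | zero => simp
    | succ k ih => intro j; rw [pow_succ, Equiv.Perm.mul_apply, hx, ih, pow_succ]; ring
  have hord : orderOf x = 5 := by
    refine orderOf_eq_prime (Subtype.ext (Equiv.ext fun j => ?_)) fun h => ?_
    · rw [SubmonoidClass.coe_pow, hxn, show (4 : Pt) ^ 5 = 1 by decide, one_mul]; rfl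
    · have := hx 1
      rw [h] at this
      exact absurd (show (1 : Pt) = 4 * 1 from this) (by decide)
  set Q := Subgroup.zpowers x with hQ
  have hQc : Nat.card Q = 5 := by rw [hQ, Nat.card_zpowers, hord]
  have hfac : (Nat.card G).factorization 5 = 1 := by
    have h1 : 1 ≤ (Nat.card G).factorization 5 :=
      ((Fact.out : Nat.Prime 5).dvd_iff_one_le_factorization Nat.card_pos.ne').mp
        (hQc ▸ Q.card_subgroup_dvd_card)
    have h2 : ¬ 2 ≤ (Nat.card G).factorization 5 := fun h => h25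
      (((Fact.out : Nat.Prime 5).pow_dvd_iff_le_factorization (k := 2) Nat.card_pos.ne').mpr h)
    omega
  let S₅ : Sylow 5 G := Sylow.ofCard Q (by rw [hQc, hfac, pow_one])
  have hmod := card_sylow_modEq_one 5 G
  rw [Sylow.card_eq_index_normalizer S₅] at hmod
  let φ := Q.normalizerMonoidHom
  have : IsCyclic Q := isCyclic_of_prime_card hQc
  have hi4 : Nat.card φ.range ∣ 4 := by
    have := φ.range.card_subgroup_dvd_card
    rwa [IsCyclic.card_mulAut, hQc, Nat.totient_prime Fact.out] at this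
  have hi : Nat.card φ.range = 1 ∨ Nat.card φ.range = 2 ∨ Nat.card φ.range = 4 := by
    have h := Nat.le_of_dvd (by norm_num) hi4
    interval_cases hd : Nat.card φ.range <;> simp_all
  have hN : Nat.card (Subgroup.normalizer (Q : Set G)) = orderOf ρ * Nat.card φ.range := by
    rw [← φ.ker.card_mul_index, Subgroup.index_ker, Subgroup.normalizerMonoidHom_ker, hC,
      Nat.card_congr (Subgroup.subgroupOfEquivOfLe
        (hC ▸ Subgroup.centralizer_le_normalizer _)).toEquiv, Nat.card_zpowers]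
  refine ⟨_, (Subgroup.normalizer (Q : Set G)).index, hi, ?_, ?_, ?_⟩
  · exact (show _ % 5 = 1 % 5 from hmod)
  · rw [← hN, mul_comm, Subgroup.card_mul_index]
  · have hr : ∀ g : Subgroup.normalizer (Q : Set G), ∃ r : Fin 5,
        (g : G) * x = x ^ r.val * g := by
      intro g
      have h := (Subgroup.mem_normalizer_iff.mp g.2 x).mp (Subgroup.mem_zpowers x)
      obtain ⟨k, hk⟩ := mem_powers_iff_mem_zpowers.mpr (show _ ∈ Subgroup.zpowers x from h)
      refine ⟨⟨k % 5, Nat.mod_lt _ (by norm_num)⟩, ?_⟩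
      have h5 : x ^ (k % 5) = x ^ k := hord ▸ (pow_mod_orderOf x k)
      simp only [h5, hk, inv_mul_cancel_right]
    choose r hr using hr
    choose g hg using fun σ : φ.range => MonoidHom.mem_range.mp σ.2
    refine ⟨Finset.univ.image fun σ => r (g σ), ?_, fun s hs => ?_⟩
    · rw [Finset.card_image_of_injective _ ?_, Finset.card_univ, Nat.card_eq_fintype_card]
      intro σ τ hστ
      change r (g σ) = r (g τ) at hστ
      apply Subtype.ext
      rw [← hg σ, ← hg τ]
      refine MulEquiv.ext fun ⟨z, hz⟩ => Subtype.ext ?_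
      obtain ⟨k, rfl⟩ := Subgroup.mem_zpowers_iff.mp hz
      simp only [φ, Subgroup.normalizerMonoidHom_apply_apply_coe]
      have e1 := hr (g σ)
      have e2 := hr (g τ)
      rw [hστ] at e1
      rw [← conj_zpow, ← conj_zpow, e1, e2, mul_inv_cancel_right, mul_inv_cancel_right]
    · obtain ⟨σ, -, rfl⟩ := Finset.mem_image.mp hs
      refine ⟨g σ, fun j => ?_⟩
      have := congrArg (fun z : G => (z : Equiv.Perm Pt) j) (hr (g σ))
      simpa [hx, hxn] using this

/-- The possible numbers of Sylow subgroups. -/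
theorem arith {k e : ℕ} (hk : k % 11 = 1) (hk1 : k ≠ 1) (he : e = 5 ∨ e = 10)
    (hd : k * e ∣ 17280) : k = 12 ∨ k = 144 ∨ k = 1728 := by
  have h : k ∣ 2 ^ 7 * 3 ^ 3 := by
    rcases he with rfl | rfl
    · exact Nat.dvd_of_mul_dvd_mul_right (show 0 < 5 by norm_num) (hd.trans (by norm_num))
    · exact (dvd_mul_right k 2).trans (Nat.dvd_of_mul_dvd_mul_right (show 0 < 5 by norm_num)
        (show k * 2 * 5 ∣ 2 ^ 7 * 3 ^ 3 * 5 by rw [mul_assoc k]; exact hd.trans (by norm_num)))
  obtain ⟨a, b, ha, hb, rfl⟩ := exists_dvd_and_dvd_of_dvd_mul h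
  obtain ⟨i, hi, rfl⟩ := (Nat.dvd_prime_pow Nat.prime_two).mp ha
  obtain ⟨j, hj, rfl⟩ := (Nat.dvd_prime_pow Nat.prime_three).mp hb
  have key : ∀ i : Fin 8, ∀ j : Fin 4, (2 ^ i.val * 3 ^ j.val) % 11 = 1 →
      2 ^ i.val * 3 ^ j.val ≠ 1 → (2 ^ i.val * 3 ^ j.val = 12 ∨ 2 ^ i.val * 3 ^ j.val = 144 ∨
        2 ^ i.val * 3 ^ j.val = 1728) := by decide
  exact key ⟨i, by omega⟩ ⟨j, by omega⟩ hk hk1

/-- The main dichotomy in labelled form. -/
theorem core (ht : Has G fun j => j + 1) (hG : ¬ Group.IsSolvable G)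
    (hA : ¬ alternatingGroup Pt ≤ G) :
    (Nat.card G = 660 ∧ IsSimpleGroup G) ∨ (Nat.card G = 7920 ∧
      ∀ x : Fin 4 ↪ Pt, ∃ σ ∈ G, ∀ s : Fin 4, σ (s.val : Pt) = x s) := by
  classical
  have hα : Fintype.card Pt = 11 := ZMod.card 11
  have hd := card_dvd hA
  have h7 : ¬ 7 ∣ Nat.card G := fun h => absurd (h.trans hd) (by norm_num)
  have h25 : ¬ 25 ∣ Nat.card G := fun h => absurd (h.trans hd) (by norm_num)
  obtain ⟨c, hc⟩ := has_elem ht
  have hord : orderOf c = 11 := by
    refine orderOf_eq_prime (Subtype.ext (Equiv.ext fun j => ?_)) fun h => ?_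
    · have : ∀ k : ℕ, ((c : Equiv.Perm Pt) ^ k) j = j + k := by
        intro k
        induction k with
        | zero => simp
        | succ k ih => rw [pow_succ', Equiv.Perm.mul_apply, ih, hc]; push_cast; ring
      rw [SubmonoidClass.coe_pow, this, ZMod.natCast_self, add_zero]; rfl
    · have := hc 0
      rw [h] at this
      exact absurd (show (0 : Pt) = 0 + 1 from this) (by decide)
  obtain ⟨P₀⟩ : Nonempty (Sylow 11 G) := inferInstance
  let P : Sylow 11 G := Sylow.ofCard (Subgroup.zpowers c) (by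
    rw [Nat.card_zpowers, hord, ← P₀.card_eq_multiplicity, PrimeDegreeSylow.card_sylow hα G P₀])
  obtain ⟨k, e, hcard, hk, hed, hN⟩ := PrimeDegreeSylow.card_decomposition hα G P
  have he1 : e ≠ 1 := fun h =>
    PrimeDegreeSylow.e_ne_one hα G P hG (by rw [hN, h, mul_one])
  have hk1 : k ≠ 1 := fun h => hG <| PrimeDegreeSylow.solvable_of_sylow_normal hα G P <|
    Subgroup.eq_top_of_card_eq _ (by rw [hN, hcard, h, one_mul])
  have he : e = 2 ∨ e = 5 ∨ e = 10 := by
    have h10 : e ∈ Nat.divisors 10 := Nat.mem_divisors.mpr ⟨hed, by norm_num⟩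
    rw [show Nat.divisors 10 = {1, 2, 5, 10} by decide +kernel] at h10
    simp only [Finset.mem_insert, Finset.mem_singleton] at h10
    omega
  have hmult := multipliers hc he hN
  -- the case of dihedral normaliser
  have he2 : e ≠ 2 := by
    rintro rfl
    have hsimple := PrimeDegreeSylow.isSimpleGroup hα G P hG Nat.prime_two hN
    obtain ⟨g, hg⟩ := has_elem ((hmult 10).mp (by decide))
    have hsign : Equiv.Perm.sign (g : Equiv.Perm Pt) = -1 := by
      have : (g : Equiv.Perm Pt) = Equiv.swap 1 10 * Equiv.swap 2 9 * Equiv.swap 3 8 *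
          Equiv.swap 4 7 * Equiv.swap 5 6 := by
        refine Equiv.ext fun j => ?_
        rw [hg]
        revert j
        decide
      rw [this]
      simp only [map_mul, Equiv.Perm.sign_swap', show (1 : Pt) ≠ 10 by decide,
        show (2 : Pt) ≠ 9 by decide, show (3 : Pt) ≠ 8 by decide, show (4 : Pt) ≠ 7 by decide,
        show (5 : Pt) ≠ 6 by decide, if_false]
      decide
    let χ := Equiv.Perm.sign.comp G.subtype
    rcases hsimple.eq_bot_or_eq_top_of_normal χ.ker inferInstance with h | h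
    · have hinj : Function.Injective χ := (MonoidHom.ker_eq_bot_iff χ).mp h
      exact hG (Group.isSolvable_of_isSolvable_injective hinj)
    · have : g ∈ χ.ker := h ▸ Subgroup.mem_top g
      rw [MonoidHom.mem_ker, MonoidHom.comp_apply] at this
      rw [show G.subtype g = (g : Equiv.Perm Pt) from rfl, hsign] at this
      exact absurd this (by decide)
  have he510 : e = 5 ∨ e = 10 := by omega
  have hke : k * e ∣ 17280 := by
    refine Nat.dvd_of_mul_dvd_mul_left (show 0 < 11 by norm_num) ?_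
    rw [show 11 * (k * e) = k * (11 * e) by ring, ← hcard]
    exact hd
  have hk3 := arith hk hk1 he510 hke
  -- the element `4` and the generator of the multipliers
  have h4 : Has G fun j => (4 : Pt) * j :=
    (hmult 4).mp (by rcases he510 with rfl | rfl <;> decide)
  obtain ⟨x, hx⟩ := has_elem h4
  obtain ⟨u, hu, hgen⟩ : ∃ u : Pt, (u ^ e = 1 ∧ ∀ m : Fin e, u ^ m.val = 1 → m.val = 0) ∧
      ∀ r : Pt, r ^ e = 1 → ∃ m : Fin 10, r = u ^ m.val := by
    rcases he510 with rfl | rfl
    · exact ⟨4, by decide +kernel, by decide +kernel⟩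
    · exact ⟨2, by decide +kernel, by decide +kernel⟩
  obtain ⟨ρ, hρ⟩ := has_elem ((hmult u).mp hu.1)
  have hρn : ∀ (m : ℕ) (j : Pt), ((ρ : Equiv.Perm Pt) ^ m) j = u ^ m * j := by
    intro m
    induction m with
    | zero => simp
    | succ m ih => intro j; rw [pow_succ, Equiv.Perm.mul_apply, hρ, ih, pow_succ]; ring
  have hρo : orderOf ρ = e := by
    refine (orderOf_eq_iff (by omega)).mpr ⟨Subtype.ext (Equiv.ext fun j => ?_), ?_⟩
    · rw [SubmonoidClass.coe_pow, hρn, hu.1, one_mul]; rfl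
    · intro m hm hm0 h
      have h1 := congrArg (fun z : G => (z : Equiv.Perm Pt) 1) h
      simp only [SubmonoidClass.coe_pow, hρn, mul_one, OneMemClass.coe_one,
        Equiv.Perm.coe_one, id_eq] at h1
      have := hu.2 ⟨m, hm⟩ h1
      simp only at this
      omega
  have hC : Subgroup.centralizer ((Subgroup.zpowers x : Subgroup G) : Set G) =
      Subgroup.zpowers ρ := by
    refine le_antisymm (fun g hg => ?_) ?_
    · have hcomm := Subgroup.mem_centralizer_iff.mp hg x (Subgroup.mem_zpowers x)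
      obtain ⟨r, hr⟩ := centralizer_four h7 ht h4 (g := g) fun j => by
        have := congrArg (fun z : G => (z : Equiv.Perm Pt) j) hcomm
        simpa [hx] using this.symm
      obtain ⟨m, hm⟩ := hgen r ((hmult r).mpr (has_of_elem g hr))
      have : g = ρ ^ m.val := Subtype.ext (Equiv.ext fun j => by
        rw [hr, SubmonoidClass.coe_pow, hρn, hm])
      rw [this]
      exact pow_mem (Subgroup.mem_zpowers ρ) _
    · rw [Subgroup.zpowers_le, Subgroup.mem_centralizer_iff]
      rintro _ ⟨m, rfl⟩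
      refine (Commute.zpow_left (Subtype.ext (Equiv.ext fun j => ?_)) m)
      simp only [Subgroup.coe_mul, Equiv.Perm.mul_apply, hx, hρ]
      ring
  obtain ⟨i, idx, hi, hidx, hidxc, S, hScard, hS⟩ := normalizer_four h25 hx hC
  rw [hρo] at hidxc
  have hki : k * 11 = idx * i := by
    have he0 : 0 < e := by omega
    refine Nat.eq_of_mul_eq_mul_right he0 ?_
    rw [mul_assoc, ← hcard, hidxc]
    ring
  have hSnz : (0 : Fin 5) ∉ S := by
    intro h0
    obtain ⟨g, hg⟩ := hS 0 h0
    have := (g : Equiv.Perm Pt).injective (show (g : Equiv.Perm Pt) (4 * 1) = (g : Equiv.Perm Pt) 1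
      by rw [hg 1]; simp)
    exact absurd this (by decide)
  have hsq : ∀ r ∈ S, ∃ g : G, ∀ j,
      (g : Equiv.Perm Pt) (4 * j) = 4 ^ (r * r).val * (g : Equiv.Perm Pt) j := by
    intro r hr
    obtain ⟨g, hg⟩ := hS r hr
    have hit : ∀ (m : ℕ) (j : Pt),
        (g : Equiv.Perm Pt) (4 ^ m * j) = 4 ^ (r.val * m) * (g : Equiv.Perm Pt) j := by
      intro m
      induction m with
      | zero => simp
      | succ m ih =>
        intro j
        rw [pow_succ', mul_assoc, hg, ih, ← mul_assoc, ← pow_add]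
        congr 2
        ring
    refine ⟨g * g, fun j => ?_⟩
    have h5 : ∀ a b : Fin 5, (4 : Pt) ^ (a * b).val = 4 ^ (a.val * b.val) := by decide
    rw [h5, Subgroup.coe_mul, Equiv.Perm.mul_apply, Equiv.Perm.mul_apply, hg, hit]
  rcases he510 with rfl | rfl
  · rcases hk3 with rfl | rfl | rfl
    · exact Or.inl ⟨hcard, PrimeDegreeSylow.isSimpleGroup hα G P hG Nat.prime_five hN⟩
    · refine Or.inr ⟨hcard, fun z => ?_⟩
      have hi' : i = 4 := by rcases hi with rfl | rfl | rfl <;> omega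
      subst hi'
      have hSall : (2 : Fin 5) ∈ S := by
        have hsub : S ⊆ Finset.univ.erase 0 := fun r hr =>
          Finset.mem_erase.mpr ⟨fun h => hSnz (h ▸ hr), Finset.mem_univ r⟩
        rw [Finset.eq_of_subset_of_card_le hsub (by simpa using hScard)]
        simp
      obtain ⟨g, hg⟩ := hS 2 hSall
      have hF := F_eq (g := (g : Equiv.Perm Pt)) (m := 5) (by decide)
        (fun j => by rw [hg j]; congr 1)
      obtain ⟨m, hm⟩ := classify_squaring _ _ (F_injective hF)
      have hf : Has G (F 5 (4 ^ m.val * (g : Equiv.Perm Pt) 1)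
          (4 ^ m.val * (g : Equiv.Perm Pt) 2)) := by
        have := (h4.pow_mul m.val).comp (has_of_elem g (f := F 5 _ _) (congrFun hF))
        simpa only [F_smul] using this
      rcases hm with ⟨w, -, hw⟩ | ⟨ch, -, hch⟩
      · exact (no_seven h7 (Has.evalW (has_gens ht h4 hf) w) hw).elim
      · exact chain_transitive (has_gens ht h4 hf) hch z
    · exfalso
      rcases hi with rfl | rfl | rfl <;> omega
  · exfalso
    have hi' : 2 ≤ i := by rcases hk3 with rfl | rfl | rfl <;> rcases hi with rfl | rfl | rfl <;> omega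
    obtain ⟨r, hr, hr1⟩ := Finset.exists_mem_ne (s := S) (by omega) 1
    have h4S : ∃ g : G, ∀ j,
        (g : Equiv.Perm Pt) (4 * j) = 4 ^ (4 : Fin 5).val * (g : Equiv.Perm Pt) j := by
      rcases (show r = 0 ∨ r = 1 ∨ r = 2 ∨ r = 3 ∨ r = 4 by omega) with rfl | rfl | rfl | rfl | rfl
      · exact absurd hr hSnz
      · exact absurd rfl hr1
      · exact hsq 2 hr
      · exact hsq 3 hr
      · exact hS 4 hr
    obtain ⟨g, hg⟩ := h4S
    have hF := F_eq (g := (g : Equiv.Perm Pt)) (m := 3) (by decide)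
      (fun j => by rw [hg j]; congr 1)
    obtain ⟨m, w, -, hw⟩ := classify_inverting _ _ (F_injective hF)
    have h2 : Has G fun j => (2 : Pt) * j := (hmult 2).mp (by decide)
    have hf := (h2.pow_mul m.val).comp (has_of_elem g (f := F 3 _ _) (congrFun hF))
    simp only [F_smul] at hf
    refine no_seven h7 ?_ hw
    refine Has.evalW ?_ w
    refine has_gens ht h2 ?_
    exact hf

end Cfsg.Agent.Lib.Perm.DegreeEleven
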