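import Cfsg.Agent.Lib.Perm.DegreeEleven
import Mathlib.GroupTheory.Perm.Basic
import Mathlib.GroupTheory.OrderOfElement
import Mathlib.GroupTheory.GroupAction.MultipleTransitivity
import Mathlib.Data.Fintype.CardEmbedding
import Mathlib.Tactic.IntervalCases
import Mathlib.Algebra.Field.ZMod

/-!
# Maps realised in a permutation group of the eleven points
-/

namespace Cfsg.Agent.Lib.Perm.DegreeEleven

instance fact_prime_eleven : Fact (Nat.Prime 11) := ⟨by decide⟩

/-- `f` is the map of some element of `G`. -/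
def Has (G : Subgroup (Equiv.Perm Pt)) (f : Pt → Pt) : Prop := ∃ g ∈ G, ⇑g = f

variable {G : Subgroup (Equiv.Perm Pt)}

theorem Has.id : Has G id := ⟨1, one_mem G, rfl⟩

theorem Has.comp {f f' : Pt → Pt} (h : Has G f) (h' : Has G f') : Has G (fun j => f (f' j)) := by
  obtain ⟨g, hg, rfl⟩ := h
  obtain ⟨g', hg', rfl⟩ := h'
  exact ⟨g * g', mul_mem hg hg', rfl⟩

theorem Has.pow_mul {r : Pt} (h : Has G fun j => r * j) (n : ℕ) :
    Has G fun j => r ^ n * j := by
  induction n with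
  | zero => exact ⟨1, one_mem G, by funext j; simp⟩
  | succ n ih =>
    have := ih.comp h
    simpa [pow_succ, mul_assoc] using this

theorem Has.evalW {g : Fin 3 → Pt → Pt} (hg : ∀ i, Has G (g i)) (w : List (Fin 3)) :
    Has G (evalW g w) := by
  induction w with
  | nil => exact Has.id
  | cons i w ih => exact (hg i).comp ih

theorem has_gens {r : Pt} {f : Pt → Pt} (ht : Has G fun j => j + 1) (hr : Has G fun j => r * j)
    (hf : Has G f) : ∀ i, Has G (gens r f i) := by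
  intro i
  fin_cases i
  · exact ht
  · exact hr
  · exact hf

theorem no_seven (h7 : ¬ 7 ∣ Nat.card G) {f : Pt → Pt} (hf : Has G f) (hs : Seven f) : False := by
  obtain ⟨g, hg, rfl⟩ := hf
  obtain ⟨j, hj⟩ := hs.2
  have h1 : g ^ 7 = 1 := Equiv.ext fun j => by
    rw [Equiv.Perm.coe_pow, hs.1 j]; rfl
  have hne : g ≠ 1 := fun h => hj (by rw [h]; rfl)
  have : Fact (Nat.Prime 7) := ⟨by decide⟩
  apply h7
  rw [← orderOf_eq_prime h1 hne, ← Subgroup.orderOf_mk g hg]
  exact orderOf_dvd_natCard _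

theorem F_smul (c m a b j : Pt) : c * F m a b j = F m (c * a) (c * b) j := by
  have h : j.val < 11 := ZMod.val_lt j
  unfold F
  generalize j.val = n at h
  interval_cases n <;> simp [mul_left_comm]

theorem F_eq {g : Equiv.Perm Pt} {m : Pt} (hm : m ≠ 1) (h : ∀ j, g (4 * j) = m * g j) :
    ⇑g = F m (g 1) (g 2) := by
  have h0 : g 0 = 0 := by
    have := h 0
    rw [mul_zero] at this
    by_contra h0
    exact hm (mul_right_cancel₀ h0 (this.symm.trans (one_mul _).symm))
  have h4 : g 4 = m * g 1 := h 1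
  have h5 : g 5 = m ^ 2 * g 1 := by
    have := h 4; rw [h4, show (4 : Pt) * 4 = 5 by decide] at this; rw [this]; ring
  have h9 : g 9 = m ^ 3 * g 1 := by
    have := h 5; rw [h5, show (4 : Pt) * 5 = 9 by decide] at this; rw [this]; ring
  have h3 : g 3 = m ^ 4 * g 1 := by
    have := h 9; rw [h9, show (4 : Pt) * 9 = 3 by decide] at this; rw [this]; ring
  have h8 : g 8 = m * g 2 := by
    have := h 2; rwa [show (4 : Pt) * 2 = 8 by decide] at this
  have h10 : g 10 = m ^ 2 * g 2 := by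
    have := h 8; rw [h8, show (4 : Pt) * 8 = 10 by decide] at this; rw [this]; ring
  have h7 : g 7 = m ^ 3 * g 2 := by
    have := h 10; rw [h10, show (4 : Pt) * 10 = 7 by decide] at this; rw [this]; ring
  have h6 : g 6 = m ^ 4 * g 2 := by
    have := h 7; rw [h7, show (4 : Pt) * 7 = 6 by decide] at this; rw [this]; ring
  funext j
  fin_cases j
  exacts [h0, rfl, rfl, h3, h4, h5, h6, h7, h8, h9, h10]

theorem F_injective {g : Equiv.Perm Pt} {m a b : Pt} (h : ⇑g = F m a b) :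
    ∀ i j, F m a b i = F m a b j → i = j := fun _ _ hij => g.injective (by rw [h]; exact hij)

/-- A chain gives fourfold transitivity. -/
theorem chain_transitive {g : Fin 3 → Pt → Pt} (hg : ∀ i, Has G (g i))
    {ch : List (List (List (Fin 3)))} (hch : ChainOK g ch) (x : Fin 4 ↪ Pt) :
    ∃ σ ∈ G, ∀ s : Fin 4, σ (s.val : Pt) = x s := by
  suffices ∀ L : ℕ, L ≤ 4 → ∃ σ ∈ G, ∀ s : Fin 4, s.val < L → σ (s.val : Pt) = x s by
    obtain ⟨σ, hσ, h⟩ := this 4 le_rfl
    exact ⟨σ, hσ, fun s => h s s.isLt⟩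
  intro L
  induction L with
  | zero => exact fun _ => ⟨1, one_mem G, fun s hs => absurd hs (Nat.not_lt_zero _)⟩
  | succ L ih =>
    intro hL
    obtain ⟨σ, hσ, h⟩ := ih (Nat.le_of_succ_le hL)
    let L' : Fin 4 := ⟨L, hL⟩
    have ht : L ≤ (σ⁻¹ (x L')).val := by
      by_contra hlt
      have hlt' : (σ⁻¹ (x L')).val < L := not_le.mp hlt
      have := h ⟨(σ⁻¹ (x L')).val, by omega⟩ hlt'
      simp only [ZMod.natCast_zmod_val, Equiv.Perm.coe_inv, Equiv.apply_symm_apply] at this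
      have h2 := congrArg Fin.val (x.injective this)
      simp [L'] at h2 hlt'
      omega
    obtain ⟨h1, h2⟩ := hch L' (σ⁻¹ (x L')) ht
    obtain ⟨τ, hτ, hτe⟩ := Has.evalW hg ((ch.getD L'.val []).getD (σ⁻¹ (x L')).val [])
    refine ⟨σ * τ, mul_mem hσ hτ, fun s hs => ?_⟩
    rw [Equiv.Perm.mul_apply, hτe]
    rcases Nat.lt_succ_iff_lt_or_eq.mp hs with hlt | heq
    · rw [h1 s hlt, h s hlt]
    · obtain rfl : s = L' := Fin.ext heq
      rw [h2, Equiv.Perm.coe_inv, Equiv.apply_symm_apply]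

theorem card_embedding : Nat.card (Fin 4 ↪ Pt) = 7920 := by
  rw [Nat.card_eq_fintype_card, Fintype.card_embedding_eq, ZMod.card, Fintype.card_fin]
  rfl

/-- Fourfold transitivity of a group of order 7920 on eleven points is sharp. -/
theorem sharply_four (hcard : Nat.card G = 7920)
    (h : ∀ x : Fin 4 ↪ Pt, ∃ σ ∈ G, ∀ s : Fin 4, σ (s.val : Pt) = x s) :
    (∀ x y : Fin 4 ↪ Pt, ∃ σ : G, ∀ s, (σ : Equiv.Perm Pt) (x s) = y s) ∧
      ∀ (x : Fin 4 ↪ Pt) (σ : G), (∀ s, (σ : Equiv.Perm Pt) (x s) = x s) → σ = 1 := by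
  have key : ∀ x y : Fin 4 ↪ Pt, ∃ σ : G, ∀ s, (σ : Equiv.Perm Pt) (x s) = y s := by
    intro x y
    obtain ⟨σ, hσ, hσe⟩ := h x
    obtain ⟨τ, hτ, hτe⟩ := h y
    refine ⟨⟨τ * σ⁻¹, mul_mem hτ (inv_mem hσ)⟩, fun s => ?_⟩
    simp only [Equiv.Perm.mul_apply]
    rw [← hσe s, Equiv.Perm.coe_inv, Equiv.symm_apply_apply, hτe]
  refine ⟨key, fun x σ hσ => ?_⟩
  have hsurj : Function.Surjective fun σ : G => x.trans (σ : Equiv.Perm Pt).toEmbedding := by
    intro y
    obtain ⟨σ, hσ⟩ := key x y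
    exact ⟨σ, Function.Embedding.ext hσ⟩
  have hbij := (Nat.bijective_iff_surjective_and_card _).mpr
    ⟨hsurj, hcard.trans card_embedding.symm⟩
  exact hbij.1 (Function.Embedding.ext fun s => by simpa using hσ s)

end Cfsg.Agent.Lib.Perm.DegreeEleven
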