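import Cfsg.Agent.Lib.Perm.Basic
import Mathlib.GroupTheory.GroupAction.MultipleTransitivity
import Mathlib.GroupTheory.Sylow
import Mathlib.GroupTheory.Perm.Sign

/-!
Generously multiply transitive groups.
-/

namespace Cfsg.Agent.Lib.Perm.Generous

open MulAction Cfsg.Agent.Lib.Perm
open scoped Pointwise

variable {α : Type*} [Fintype α] [DecidableEq α] (G : Subgroup (Equiv.Perm α)) {k : ℕ}

/-- The hypothesis, applied to a permutation of the whole set preserving a small set. -/
theorem exists_agree_of_preserves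
    (hgen : ∀ s : Finset α, s.card = k + 1 → ∀ σ : Equiv.Perm ↥s, ∃ g ∈ G, ∀ x : ↥s, g (x : α) = σ x)
    (s : Finset α) (hs : s.card = k + 1) (π : Equiv.Perm α) (hπ : ∀ x, x ∈ s ↔ π x ∈ s) :
    ∃ g ∈ G, ∀ x ∈ s, g x = π x := by
  obtain ⟨g, hg, hgx⟩ := hgen s hs (π.subtypePerm fun x => (hπ x).symm)
  exact ⟨g, hg, fun x hx => hgx ⟨x, hx⟩⟩

theorem exists_agree (hk : k < Fintype.card α)
    (hgen : ∀ s : Finset α, s.card = k + 1 → ∀ σ : Equiv.Perm ↥s, ∃ g ∈ G, ∀ x : ↥s, g (x : α) = σ x)
    (σ : Equiv.Perm α) :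
    ∀ t : Finset α, t.card = k → ∃ g ∈ G, ∀ x ∈ t, g x = σ x := by
  induction σ using Equiv.Perm.swap_induction_on with
  | one => exact fun t _ => ⟨1, one_mem G, fun x _ => rfl⟩
  | swap_mul τ u v huv ih =>
    intro t ht
    obtain ⟨g, hg, hgt⟩ := ih t ht
    have hstep : ∀ r : Finset α, r.card = k →
        ∃ g' ∈ G, ∀ x ∈ r, g' x = Equiv.swap u v x := by
      intro r hr
      by_cases hmeet : u ∈ r ∨ v ∈ r
      · obtain ⟨s, hrs, hu, hv, hs⟩ : ∃ s : Finset α, r ⊆ s ∧ u ∈ s ∧ v ∈ s ∧ s.card = k + 1 := by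
          by_cases hu : u ∈ r
          · by_cases hv : v ∈ r
            · obtain ⟨z, -, hz⟩ := Finset.exists_mem_notMem_of_card_lt_card
                (s := r) (t := Finset.univ) (by rw [Finset.card_univ, hr]; exact hk)
              exact ⟨insert z r, Finset.subset_insert _ _, by simp [hu], by simp [hv],
                by rw [Finset.card_insert_of_notMem hz, hr]⟩
            · exact ⟨insert v r, Finset.subset_insert _ _, by simp [hu], by simp,
                by rw [Finset.card_insert_of_notMem hv, hr]⟩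
          · have hv := hmeet.resolve_left hu
            exact ⟨insert u r, Finset.subset_insert _ _, by simp, by simp [hv],
              by rw [Finset.card_insert_of_notMem hu, hr]⟩
        obtain ⟨g', hg', h'⟩ := exists_agree_of_preserves G hgen s hs (Equiv.swap u v) fun x => by
          rw [Equiv.swap_apply_def]
          split_ifs with h1 h2
          · simp [h1, hu, hv]
          · simp [h2, hu, hv]
          · rfl
        exact ⟨g', hg', fun x hx => h' x (hrs hx)⟩
      · push Not at hmeet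
        exact ⟨1, one_mem G, fun x hx => (Equiv.swap_apply_of_ne_of_ne
          (fun e => hmeet.1 (by rw [← e]; exact hx))
          (fun e => hmeet.2 (by rw [← e]; exact hx))).symm⟩
    obtain ⟨g', hg', h'⟩ := hstep (t.map τ.toEmbedding) (by rw [Finset.card_map, ht])
    refine ⟨g' * g, mul_mem hg' hg, fun x hx => ?_⟩
    rw [Equiv.Perm.mul_apply, hgt x hx, Equiv.Perm.mul_apply]
    exact h' _ (Finset.mem_map_of_mem _ hx)

theorem multiply_transitive (hk : k < Fintype.card α)
    (hgen : ∀ s : Finset α, s.card = k + 1 → ∀ σ : Equiv.Perm ↥s, ∃ g ∈ G, ∀ x : ↥s, g (x : α) = σ x) :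
    IsMultiplyPretransitive G α k := by
  refine ⟨fun x y => ?_⟩
  have := Equiv.Perm.isMultiplyPretransitive α k
  obtain ⟨σ, hσ⟩ := exists_smul_eq (Equiv.Perm α) x y
  obtain ⟨g, hg, hgx⟩ := exists_agree G hk hgen σ (Finset.univ.map x) (by simp)
  refine ⟨⟨g, hg⟩, ?_⟩
  ext i
  have h1 := hgx (x i) (Finset.mem_map_of_mem _ (Finset.mem_univ i))
  have h2 : σ (x i) = y i := DFunLike.congr_fun hσ i
  exact h1.trans h2

theorem setwise_to_pointwise
    (hgen : ∀ s : Finset α, s.card = k + 1 → ∀ σ : Equiv.Perm ↥s, ∃ g ∈ G, ∀ x : ↥s, g (x : α) = σ x)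
    (s : Finset α) (hs : s.card = k) {a b : α} (_ha : a ∉ s) (hb : b ∉ s) {g : Equiv.Perm α}
    (hg : g ∈ G) (hgs : g • s = s) (hgab : g a = b) :
    ∃ g' ∈ G, (∀ x ∈ s, g' x = x) ∧ g' a = b := by
  have hmem : ∀ x, x ∈ s ↔ g x ∈ s := fun x => by
    conv_rhs => rw [← hgs]
    exact (Finset.smul_mem_smul_finset_iff g).symm
  set π : Equiv.Perm α :=
    (g.subtypePerm fun x => (hmem x).symm : Equiv.Perm {x // x ∈ s})⁻¹.ofSubtype with hπ
  have hπs : ∀ x ∈ s, π (g x) = x := by
    intro x hx
    rw [hπ, Equiv.Perm.ofSubtype_apply_of_mem _ ((hmem x).mp hx)]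
    exact congrArg Subtype.val (Equiv.symm_apply_apply (g.subtypePerm _) ⟨x, hx⟩)
  have hπb : π b = b := Equiv.Perm.ofSubtype_apply_of_not_mem _ hb
  have hπmem : ∀ x, x ∈ s ↔ π x ∈ s := by
    intro x
    by_cases hx : x ∈ s
    · rw [hπ, Equiv.Perm.ofSubtype_apply_of_mem _ hx]
      exact iff_of_true hx (Subtype.coe_prop _)
    · rw [hπ, Equiv.Perm.ofSubtype_apply_of_not_mem _ hx]
  obtain ⟨h, hh, hhx⟩ := exists_agree_of_preserves G hgen (insert b s)
    (by rw [Finset.card_insert_of_notMem hb, hs]) π fun x => by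
      simp only [Finset.mem_insert]
      refine or_congr ?_ (hπmem x)
      constructor
      · rintro rfl; exact hπb
      · intro e; exact π.injective (e.trans hπb.symm)
  refine ⟨h * g, mul_mem hh hg, fun x hx => ?_, ?_⟩
  · rw [Equiv.Perm.mul_apply, hhx _ (Finset.mem_insert_of_mem ((hmem x).mp hx)), hπs x hx]
  · rw [Equiv.Perm.mul_apply, hgab, hhx _ (Finset.mem_insert_self _ _), hπb]

theorem coprime_orbits (hk : k < Fintype.card α)
    (hgen : ∀ s : Finset α, s.card = k + 1 → ∀ σ : Equiv.Perm ↥s, ∃ g ∈ G, ∀ x : ↥s, g (x : α) = σ x)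
    {p : ℕ} (hp : p.Prime) (hpk : p ≤ k) (Γ : Finset α) (hΓ : Γ.card = k)
    (f : Fin p → α) (hf : ∀ i, f i ∉ Γ)
    (hdist : ∀ i j, i ≠ j → f j ∉ orbit (fixingSubgroup G (Γ : Set α)) (f i)) :
    ∃ i, p ∣ Nat.card (orbit (fixingSubgroup G (Γ : Set α)) (f i)) := by
  have := Fact.mk hp
  have : NeZero p := ⟨hp.ne_zero⟩
  by_contra! hall
  set M := fixingSubgroup G (Γ : Set α) with hM
  obtain ⟨D, hDΓ, hDcard⟩ := Finset.exists_subset_card_eq (hpk.trans_eq hΓ.symm)
  set R := Γ \ D with hR
  have hRcard : R.card = k - p := by rw [hR, Finset.card_sdiff_of_subset hDΓ, hΓ, hDcard]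
  let X : Subgroup G := fixingSubgroup G (R : Set α) ⊓ stabilizer G (Γ : Set α)
  have hMX : M ≤ X := by
    intro g hg
    refine ⟨fixingSubgroup_antitone G α (Finset.coe_subset.mpr Finset.sdiff_subset) hg, ?_⟩
    exact (fixingSubgroup_le_stabilizer (G := G) (Γ : Set α) :) hg
  have hXmem : ∀ g : G, g ∈ X → (g : Equiv.Perm α) • Γ = Γ := fun g hg => by
    have h : g • (Γ : Set α) = Γ := hg.2
    apply Finset.coe_injective
    rw [Finset.coe_smul_finset]
    exact h
  have horb : ∀ i, orbit X (f i) = orbit M (f i) := by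
    intro i
    ext y
    constructor
    · rintro ⟨⟨g, hg⟩, rfl⟩
      have hyΓ : g • f i ∉ Γ := fun hy => hf i
        ((Finset.smul_mem_smul_finset_iff (g : Equiv.Perm α) (s := Γ)).mp (by rwa [hXmem g hg]))
      obtain ⟨g', hg', hfix, hgi⟩ :=
        setwise_to_pointwise G hgen Γ hΓ (hf i) hyΓ g.2 (hXmem g hg) rfl
      exact ⟨⟨⟨g', hg'⟩, (mem_fixingSubgroup_iff G).mpr fun x hx => hfix x hx⟩, hgi⟩
    · rintro ⟨⟨g, hg⟩, rfl⟩
      exact ⟨⟨g, hMX hg⟩, rfl⟩
  -- `X` induces a transitive group on `D`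
  have hDdvd : Nat.card M * p ∣ Nat.card X := by
    obtain ⟨d, hd⟩ : D.Nonempty := Finset.card_pos.mp (by rw [hDcard]; exact hp.pos)
    have hdΓ := hDΓ hd
    have horbd : orbit X d = (D : Set α) := by
      ext y
      constructor
      · rintro ⟨⟨g, hg⟩, rfl⟩
        have h1 : (g : Equiv.Perm α) d ∈ Γ := by
          rw [← hXmem g hg]; exact Finset.smul_mem_smul_finset hdΓ
        by_contra h2
        have h3 : (g : Equiv.Perm α) d ∈ R := Finset.mem_sdiff.mpr ⟨h1, h2⟩
        have h4 : (g : Equiv.Perm α) ((g : Equiv.Perm α) d) = (g : Equiv.Perm α) d :=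
          (mem_fixingSubgroup_iff G).mp hg.1 _ h3
        have h5 := (g : Equiv.Perm α).injective h4
        rw [h5] at h3
        exact (Finset.mem_sdiff.mp h3).2 hd
      · intro hy
        obtain ⟨z, -, hz⟩ := Finset.exists_mem_notMem_of_card_lt_card
          (s := Γ) (t := Finset.univ) (by rw [Finset.card_univ, hΓ]; exact hk)
        have hyΓ := hDΓ hy
        obtain ⟨g, hg, hgx⟩ := exists_agree_of_preserves G hgen (insert z Γ)
          (by rw [Finset.card_insert_of_notMem hz, hΓ]) (Equiv.swap d y) fun x => by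
            rw [Equiv.swap_apply_def]
            split_ifs with h1 h2
            · simp [h1, hdΓ, hyΓ]
            · simp [h2, hdΓ, hyΓ]
            · rfl
        have hfixo : ∀ x ∈ Γ, x ≠ d → x ≠ y → g x = x := fun x hx h1 h2 => by
          rw [hgx x (Finset.mem_insert_of_mem hx), Equiv.swap_apply_of_ne_of_ne h1 h2]
        refine ⟨⟨⟨g, hg⟩, ?_, ?_⟩, ?_⟩
        · refine (mem_fixingSubgroup_iff G).mpr fun x hx => ?_
          have hx' := Finset.mem_sdiff.mp hx
          exact hfixo x hx'.1 (fun e => hx'.2 (e ▸ hd)) (fun e => hx'.2 (e ▸ hy))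
        · show (⟨g, hg⟩ : G) • (Γ : Set α) = Γ
          have hsub : Γ.image g = Γ := by
            refine Finset.eq_of_subset_of_card_le (Finset.image_subset_iff.mpr fun x hx => ?_)
              (by rw [Finset.card_image_of_injective _ g.injective])
            rw [hgx x (Finset.mem_insert_of_mem hx), Equiv.swap_apply_def]
            split_ifs <;> assumption
          have : (g • (Γ : Set α)) = Γ := by
            conv_rhs => rw [← hsub]
            rw [Finset.coe_image]
            rfl
          exact this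
        · change g d = y
          rw [hgx d (Finset.mem_insert_of_mem hdΓ), Equiv.swap_apply_left]
    have h := (stabilizer X d).card_mul_index
    rw [index_stabilizer, horbd, Set.ncard_coe_finset, hDcard] at h
    rw [← h]
    refine Nat.mul_dvd_mul_right ?_ p
    refine Subgroup.card_dvd_of_injective
      ((Subgroup.inclusion hMX).codRestrict (stabilizer X d) fun g => ?_) ?_
    · exact (mem_fixingSubgroup_iff G).mp g.2 d hdΓ
    · intro u v h
      exact Subtype.ext (congrArg (fun z : stabilizer X d => ((z : X) : G)) h)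
  obtain ⟨Q⟩ : Nonempty (Sylow p X) := inferInstance
  have hfix : ∀ i, ∃ c ∈ orbit M (f i), ∀ g : X, g ∈ (Q : Subgroup X) → (g : G) • c = c := by
    intro i
    let _ : MulAction (Q : Subgroup X) (orbit X (f i)) :=
      MulAction.compHom _ (Q : Subgroup X).subtype
    obtain ⟨⟨c, hc⟩, hfx⟩ := Q.isPGroup'.nonempty_fixed_point_of_prime_not_dvd_card
      (orbit X (f i)) (by rw [horb]; exact hall i)
    exact ⟨c, horb i ▸ hc, fun g hg => congrArg Subtype.val (hfx ⟨g, hg⟩)⟩
  choose c hc hcfix using hfix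
  have hcinj : Function.Injective c := fun i j e => by
    by_contra hne
    apply hdist i j hne
    have h1 := hc i
    rw [e] at h1
    have : orbit M (f j) = orbit M (f i) :=
      (orbit_eq_iff.mpr (hc j)).symm.trans (orbit_eq_iff.mpr h1)
    rw [← this]
    exact mem_orbit_self _
  have hcΓ : ∀ i, c i ∉ Γ := fun i hi => by
    obtain ⟨g, hg⟩ := hc i
    have h1 : (g : G) • c i = c i := (mem_fixingSubgroup_iff G).mp g.2 _ hi
    have h2 : c i = f i := smul_left_cancel (g : G) (h1.trans hg.symm)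
    exact hf i (h2 ▸ hi)
  set Γ' := R ∪ Finset.univ.image c with hΓ'
  have hΓ'card : Γ'.card = k := by
    rw [hΓ', Finset.card_union_of_disjoint, hRcard, Finset.card_image_of_injective _ hcinj,
      Finset.card_univ, Fintype.card_fin]
    · omega
    · rw [Finset.disjoint_left]
      intro x hx hx'
      obtain ⟨i, -, rfl⟩ := Finset.mem_image.mp hx'
      exact hcΓ i (Finset.mem_sdiff.mp hx).1
  have := multiply_transitive G hk hgen
  let eΓ : Fin k ↪ α := (Γ.equivFinOfCardEq hΓ).symm.toEmbedding.trans (Function.Embedding.subtype _)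
  let eΓ' : Fin k ↪ α :=
    (Γ'.equivFinOfCardEq hΓ'card).symm.toEmbedding.trans (Function.Embedding.subtype _)
  obtain ⟨g, hg⟩ := exists_smul_eq G eΓ eΓ'
  have hdvd : Nat.card (Q : Subgroup X) ∣ Nat.card M := by
    refine Subgroup.card_dvd_of_injective
      (((MulAut.conj g⁻¹).toMonoidHom.comp (X.subtype.comp (Q : Subgroup X).subtype)).codRestrict M
        fun v => ?_) ?_
    · refine (mem_fixingSubgroup_iff G).mpr fun x hx => ?_
      have hx' : g • x ∈ Γ' := by
        have hx0 : eΓ (Γ.equivFinOfCardEq hΓ ⟨x, hx⟩) = x := by simp [eΓ]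
        have hx1 := DFunLike.congr_fun hg (Γ.equivFinOfCardEq hΓ ⟨x, hx⟩)
        rw [Function.Embedding.smul_apply, hx0] at hx1
        rw [hx1]
        exact Subtype.coe_prop _
      have hvfix : (v.1 : G) • g • x = g • x := by
        rcases Finset.mem_union.mp hx' with h | h
        · exact (mem_fixingSubgroup_iff G).mp v.1.2.1 _ h
        · obtain ⟨i, -, hi⟩ := Finset.mem_image.mp h
          rw [← hi]
          exact hcfix i v.1 v.2
      change (g⁻¹ * (v.1 : G) * g⁻¹⁻¹) • x = x
      rw [inv_inv, mul_smul, mul_smul, hvfix, inv_smul_smul]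
    · intro u v h
      have h' : g⁻¹ * (u.1 : G) * g⁻¹⁻¹ = g⁻¹ * (v.1 : G) * g⁻¹⁻¹ :=
        congrArg (fun z : M => (z : G)) h
      exact Subtype.ext (Subtype.ext (mul_left_cancel (mul_right_cancel h')))
  rw [Q.card_eq_multiplicity, hp.pow_dvd_iff_le_factorization Nat.card_pos.ne'] at hdvd
  have h2 := (Nat.factorization_le_iff_dvd (mul_ne_zero Nat.card_pos.ne' hp.ne_zero)
    Nat.card_pos.ne').mpr hDdvd p
  rw [Nat.factorization_mul Nat.card_pos.ne' hp.ne_zero, Finsupp.add_apply,
    Nat.Prime.factorization_self hp] at h2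
  omega

end Cfsg.Agent.Lib.Perm.Generous
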