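import Mathlib.LinearAlgebra.Matrix.GeneralLinearGroup.Defs
import Mathlib.Data.ZMod.Basic
import Mathlib.Algebra.Field.ZMod
import Mathlib.Data.Fintype.Pi
import Mathlib.GroupTheory.OrderOfElement
import Mathlib.Tactic.LinearCombination

/-!
Certificates that a two-generated subgroup of `GL(2,q)`, possibly times scalars, is regular on
non-zero vectors.
-/

namespace Cfsg.Agent.Lib.Perm.LinearCert

/-- A 2 × 2 matrix of natural numbers, row by row. -/
abbrev Q4 := ℕ × ℕ × ℕ × ℕ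

/-- Product modulo `q`. -/
def mulQ (q : ℕ) (x y : Q4) : Q4 :=
  ((x.1 * y.1 + x.2.1 * y.2.2.1) % q, (x.1 * y.2.1 + x.2.1 * y.2.2.2) % q,
   (x.2.2.1 * y.1 + x.2.2.2 * y.2.2.1) % q, (x.2.2.1 * y.2.1 + x.2.2.2 * y.2.2.2) % q)

/-- The list of matrices described by a certificate. -/
def build (q : ℕ) (gens : List Q4) (cert : List (ℕ × ℕ)) : List Q4 :=
  cert.foldl (fun L kj => L ++ [mulQ q (gens.getD kj.1 (1, 0, 0, 1)) (L.getD kj.2 (1, 0, 0, 1))])
    [(1, 0, 0, 1)]

variable {q : ℕ}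

/-- The matrix over `ZMod q`. -/
def toMat (q : ℕ) (x : Q4) : Matrix (Fin 2) (Fin 2) (ZMod q) :=
  !![(x.1 : ZMod q), x.2.1; x.2.2.1, x.2.2.2]

theorem toMat_one : toMat q (1, 0, 0, 1) = 1 := by
  ext i j; fin_cases i <;> fin_cases j <;> simp [toMat]

theorem toMat_mul (x y : Q4) : toMat q (mulQ q x y) = toMat q x * toMat q y := by
  ext i j
  fin_cases i <;> fin_cases j <;>
    simp [toMat, mulQ, Matrix.mul_apply, Fin.sum_univ_two, ZMod.natCast_mod]

local notation "GL2" => Matrix.GeneralLinearGroup (Fin 2) (ZMod q)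

theorem getD_mem_or (L : List Q4) (i : ℕ) (d : Q4) : L.getD i d = d ∨ L.getD i d ∈ L := by
  rw [List.getD_eq_getElem?_getD]
  cases h : L[i]? with
  | none => exact Or.inl rfl
  | some x => exact Or.inr (List.mem_of_getElem? h)

theorem one_mem_build (gens : List Q4) (cert : List (ℕ × ℕ)) :
    ((1, 0, 0, 1) : Q4) ∈ build q gens cert := by
  induction cert using List.reverseRecOn with
  | nil => simp [build]
  | append_singleton cert kj ih =>
    simp only [build, List.foldl_append, List.foldl_cons, List.foldl_nil] at ih ⊢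
    exact List.mem_append_left _ ih

theorem mem_closure_of_mem_build (gens : List Q4) (cert : List (ℕ × ℕ)) (S : Set GL2)
    (hgen : ∀ g ∈ gens, ∃ s ∈ S, ((s : GL2) : Matrix (Fin 2) (Fin 2) (ZMod q)) = toMat q g) :
    ∀ l ∈ build q gens cert, ∃ k ∈ Subgroup.closure S,
      ((k : GL2) : Matrix (Fin 2) (Fin 2) (ZMod q)) = toMat q l := by
  induction cert using List.reverseRecOn with
  | nil =>
    intro l hl
    simp only [build, List.foldl_nil, List.mem_singleton] at hl
    exact ⟨1, one_mem _, by rw [hl, toMat_one]; rfl⟩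
  | append_singleton cert kj ih =>
    intro l hl
    simp only [build, List.foldl_append, List.foldl_cons, List.foldl_nil, List.mem_append,
      List.mem_singleton] at hl
    rcases hl with hl | rfl
    · exact ih l hl
    rw [toMat_mul]
    have h1 : ∃ k ∈ Subgroup.closure S, ((k : GL2) : Matrix (Fin 2) (Fin 2) (ZMod q)) =
        toMat q (gens.getD kj.1 (1, 0, 0, 1)) := by
      rcases getD_mem_or gens kj.1 (1, 0, 0, 1) with h | h
      · exact ⟨1, one_mem _, by rw [h, toMat_one]; rfl⟩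
      · obtain ⟨s, hs, hse⟩ := hgen _ h
        exact ⟨s, Subgroup.subset_closure hs, hse⟩
    have h2 : ∃ k ∈ Subgroup.closure S, ((k : GL2) : Matrix (Fin 2) (Fin 2) (ZMod q)) =
        toMat q ((build q gens cert).getD kj.2 (1, 0, 0, 1)) := by
      rcases getD_mem_or (build q gens cert) kj.2 (1, 0, 0, 1) with h | h
      · exact ⟨1, one_mem _, by rw [h, toMat_one]; rfl⟩
      · exact ih _ h
    obtain ⟨a, ha, hae⟩ := h1
    obtain ⟨b, hb, hbe⟩ := h2
    exact ⟨a * b, mul_mem ha hb, by rw [Units.val_mul, hae, hbe]; rfl⟩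

theorem closure_induction_finite {G : Type*} [Group G] [Finite G] (S : Set G) (P : G → Prop)
    (h1 : P 1) (hmul : ∀ s ∈ S, ∀ g, P g → P (s * g)) : ∀ k ∈ Subgroup.closure S, P k := by
  intro k hk
  induction hk using Subgroup.closure_induction_left with
  | one => exact h1
  | mul_left s hs g _ ih => exact hmul s hs g ih
  | inv_mul_cancel s hs g _ ih =>
    have hpow : ∀ n : ℕ, P (s ^ n * g) := by
      intro n
      induction n with
      | zero => simpa using ih
      | succ n ihn => rw [pow_succ', mul_assoc]; exact hmul s hs _ ihn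
    have hinv : s⁻¹ = s ^ (orderOf s - 1) := by
      refine inv_eq_of_mul_eq_one_right ?_
      rw [← pow_succ', Nat.sub_add_cancel (orderOf_pos s), pow_orderOf_eq_one]
    rw [hinv]
    exact hpow _

theorem regular_of_cert [Fact q.Prime] (gens : List Q4) (cert : List (ℕ × ℕ)) (lam m : ℕ)
    (S : Set GL2)
    (hgen : ∀ g ∈ gens, ∃ s ∈ S, ((s : GL2) : Matrix (Fin 2) (Fin 2) (ZMod q)) = toMat q g)
    (hS : ∀ s ∈ S, (∃ g ∈ gens, ((s : GL2) : Matrix (Fin 2) (Fin 2) (ZMod q)) = toMat q g) ∨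
      ((s : GL2) : Matrix (Fin 2) (Fin 2) (ZMod q)) = (lam : ZMod q) • 1)
    (hlamS : lam % q = 1 ∨ ∃ s ∈ S, ((s : GL2) : Matrix (Fin 2) (Fin 2) (ZMod q)) =
      (lam : ZMod q) • 1)
    (hlam : lam ^ m % q = 1) (hord : ∀ i < m, lam ^ i % q = 1 → i = 0)
    (hclosed : ∀ g ∈ gens, ∀ l ∈ build q gens cert, mulQ q g l ∈ build q gens cert)
    (hfree : ∀ l ∈ build q gens cert, l.2.2.1 % q = 0 → l.1 ^ m % q = 1 → l = (1, 0, 0, 1))
    (hnodup : ((build q gens cert).map fun l =>
      ((l.1 % q, l.2.1 % q, l.2.2.1 % q, l.2.2.2 % q) : Q4)).Nodup)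
    (hlen : (build q gens cert).length * m = q * q - 1) :
    Nat.card (Subgroup.closure S) = q * q - 1 ∧
      ∀ v w : Fin 2 → ZMod q, v ≠ 0 → w ≠ 0 → ∃! h : Subgroup.closure S,
        Matrix.mulVec ((h : GL2) : Matrix (Fin 2) (Fin 2) (ZMod q)) v = w := by
  classical
  have hq : 1 < q := (Fact.out : q.Prime).one_lt
  have hm : 0 < m := by
    rcases Nat.eq_zero_or_pos m with rfl | h
    · rw [Nat.mul_zero] at hlen
      have := Nat.mul_le_mul hq.le hq.le
      have : 2 * 2 ≤ q * q := Nat.mul_le_mul hq hq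
      omega
    · exact h
  set μ : ZMod q := (lam : ZMod q) with hμ
  have hcast : ∀ a : ℕ, a % q = 1 → (a : ZMod q) = 1 := fun a ha => by
    rw [← ZMod.natCast_mod, ha, Nat.cast_one]
  have hcast' : ∀ a : ℕ, (a : ZMod q) = 1 → a % q = 1 := fun a ha => by
    have := congrArg ZMod.val ha
    rwa [ZMod.val_natCast, ZMod.val_one] at this
  have hμm : μ ^ m = 1 := by rw [hμ, ← Nat.cast_pow]; exact hcast _ hlam
  have hμ0 : μ ≠ 0 := fun h => by rw [h, zero_pow hm.ne'] at hμm; exact zero_ne_one hμm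
  set L := build q gens cert with hL
  have hone : ((1, 0, 0, 1) : Q4) ∈ L := one_mem_build gens cert
  -- membership
  have hform : ∀ k ∈ Subgroup.closure S, ∃ l ∈ L, ∃ i : ℕ,
      ((k : GL2) : Matrix (Fin 2) (Fin 2) (ZMod q)) = μ ^ i • toMat q l := by
    refine closure_induction_finite S _ ⟨_, hone, 0, by simp [toMat_one]⟩ ?_
    rintro s hs g ⟨l, hl, i, hg⟩
    rcases hS s hs with ⟨g', hg', hse⟩ | hse
    · exact ⟨_, hclosed g' hg' l hl, i, by
        rw [Units.val_mul, hse, hg, toMat_mul, mul_smul_comm]⟩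
    · exact ⟨l, hl, i + 1, by
        rw [Units.val_mul, hse, hg, smul_mul_assoc, one_mul, smul_smul, pow_succ']⟩
  set S₀ : Set GL2 := {s | ∃ g ∈ gens, ((s : GL2) : Matrix (Fin 2) (Fin 2) (ZMod q)) = toMat q g}
  have hform₀ : ∀ k ∈ Subgroup.closure S₀, ∃ l ∈ L,
      ((k : GL2) : Matrix (Fin 2) (Fin 2) (ZMod q)) = toMat q l := by
    refine closure_induction_finite S₀ _ ⟨_, hone, by simp [toMat_one]⟩ ?_
    rintro s ⟨g', hg', hse⟩ g ⟨l, hl, hg⟩
    exact ⟨_, hclosed g' hg' l hl, by rw [Units.val_mul, hse, hg, toMat_mul]⟩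
  have hfree' : ∀ l ∈ L, (toMat q l) 1 0 = 0 → (toMat q l) 0 0 ^ m = 1 → l = (1, 0, 0, 1) := by
    intro l hl h10 h00
    refine hfree l hl ?_ ?_
    · have h : ((l.2.2.1 : ℕ) : ZMod q) = 0 := h10
      exact Nat.mod_eq_zero_of_dvd ((ZMod.natCast_eq_zero_iff _ q).mp h) |>.trans rfl
    · have h : ((l.1 : ℕ) : ZMod q) ^ m = 1 := h00
      rw [← Nat.cast_pow] at h
      exact hcast' _ h
  let e1 : Fin 2 → ZMod q := ![1, 0]
  have hcol : ∀ (M : Matrix (Fin 2) (Fin 2) (ZMod q)) i, Matrix.mulVec M e1 i = M i 0 := by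
    intro M i; simp [Matrix.mulVec, dotProduct, Fin.sum_univ_two, e1]
  have hfix : ∀ k ∈ Subgroup.closure S,
      Matrix.mulVec ((k : GL2) : Matrix (Fin 2) (Fin 2) (ZMod q)) e1 = e1 → k = 1 := by
    intro k hk hke
    obtain ⟨l, hl, i, hki⟩ := hform k hk
    have h0 := congrFun hke 0
    have h1 := congrFun hke 1
    simp only [hcol, hki, Matrix.smul_apply, smul_eq_mul] at h0 h1
    simp [e1] at h0 h1
    have hl10 : toMat q l 1 0 = 0 := h1.resolve_left fun h => hμ0 h.1
    have hl1 : l = (1, 0, 0, 1) := hfree' l hl hl10 (by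
      have h := congrArg (· ^ m) h0
      simp only [mul_pow, one_pow, ← pow_mul] at h
      rwa [mul_comm i m, pow_mul, hμm, one_pow, one_mul] at h)
    rw [hl1, toMat_one] at h0
    simp at h0
    exact Units.ext (by rw [hki, hl1, toMat_one, h0, one_smul]; rfl)
  -- the scalar is in the group
  obtain ⟨c, hc, hce⟩ : ∃ c ∈ Subgroup.closure S,
      ((c : GL2) : Matrix (Fin 2) (Fin 2) (ZMod q)) = μ • 1 := by
    rcases hlamS with h | ⟨s, hs, hse⟩
    · exact ⟨1, one_mem _, by rw [hμ, hcast _ h, one_smul]; rfl⟩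
    · exact ⟨s, Subgroup.subset_closure hs, hse⟩
  have hmem : ∀ l : Fin L.length, ∃ k ∈ Subgroup.closure S₀,
      ((k : GL2) : Matrix (Fin 2) (Fin 2) (ZMod q)) = toMat q (L.get l) := fun l =>
    mem_closure_of_mem_build gens cert S₀ (fun g hg => by
      obtain ⟨s, -, hse⟩ := hgen g hg
      exact ⟨s, ⟨g, hg, hse⟩, hse⟩) _ (List.get_mem _ _)
  choose κ hκ₀ hκ using hmem
  have hκS : ∀ l, κ l ∈ Subgroup.closure S := fun l => by
    obtain ⟨k, hk, hke⟩ := mem_closure_of_mem_build gens cert S hgen _ (List.get_mem L l)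
    rwa [show κ l = k from Units.ext ((hκ l).trans hke.symm)]
  let ψ : Fin L.length × Fin m → Subgroup.closure S := fun li =>
    ⟨c ^ (li.2 : ℕ) * κ li.1, mul_mem (pow_mem hc _) (hκS _)⟩
  have hcpow : ∀ i : ℕ, ((c ^ i : GL2) : Matrix (Fin 2) (Fin 2) (ZMod q)) = μ ^ i • 1 := by
    intro i
    induction i with
    | zero => simp
    | succ i ih =>
      rw [pow_succ, Units.val_mul, ih, hce, smul_mul_smul_comm, one_mul, pow_succ]
  have hψ : Function.Injective ψ := by
    rintro ⟨l, i⟩ ⟨l', i'⟩ h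
    have h' : c ^ (i : ℕ) * κ l = c ^ (i' : ℕ) * κ l' := congrArg Subtype.val h
    have key : κ l * (κ l')⁻¹ = c⁻¹ ^ (i : ℕ) * c ^ (i' : ℕ) := by
      rw [mul_inv_eq_iff_eq_mul, mul_assoc, ← h', inv_pow, inv_mul_cancel_left]
    obtain ⟨n, hn⟩ : ∃ n : ℕ, c⁻¹ ^ (i : ℕ) * c ^ (i' : ℕ) = c ^ n := by
      refine ⟨(m - i) + i', ?_⟩
      rw [pow_add]
      congr 1
      refine inv_pow c _ ▸ inv_eq_of_mul_eq_one_right ?_
      rw [← pow_add, Nat.add_sub_cancel' i.2.le]
      exact Units.ext (by rw [hcpow, hμm, one_smul]; rfl)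
    obtain ⟨l₀, hl₀, hl₀e⟩ := hform₀ _ (mul_mem (hκ₀ l) (inv_mem (hκ₀ l')))
    rw [key, hn, hcpow] at hl₀e
    have h1 : l₀ = (1, 0, 0, 1) := hfree' l₀ hl₀ (by rw [← hl₀e]; simp) (by
      rw [← hl₀e]
      simp only [Matrix.smul_apply, Matrix.one_apply_eq, smul_eq_mul, mul_one]
      rw [← pow_mul, mul_comm, pow_mul, hμm, one_pow])
    have hκeq : κ l = κ l' := by
      rw [← mul_inv_eq_one, key, hn]
      exact Units.ext (by rw [hcpow, hl₀e, h1, toMat_one]; rfl)
    have hll : l = l' := by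
      have he : toMat q (L.get l) = toMat q (L.get l') := by rw [← hκ, ← hκ, hκeq]
      have hf : ∀ r s, (toMat q (L.get l) r s).val = (toMat q (L.get l') r s).val :=
        fun r s => by rw [he]
      have a := hf 0 0
      have b := hf 0 1
      have c' := hf 1 0
      have d := hf 1 1
      simp [toMat, ZMod.val_natCast] at a b c' d
      apply Fin.ext
      refine (List.Nodup.getElem_inj_iff hnodup (hi := by simp) (hj := by simp)).mp ?_
      simp [a, b, c', d]
    subst hll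
    have hci : μ ^ (i : ℕ) = μ ^ (i' : ℕ) := by
      have e := congrArg (fun k : GL2 => (k : Matrix (Fin 2) (Fin 2) (ZMod q)) 0 0)
        (mul_right_cancel h')
      simpa [hcpow] using e
    have hii : ∀ x y : ℕ, x ≤ y → y < m → μ ^ x = μ ^ y → x = y := fun x y hxy hy hxe => by
      have h2 : μ ^ (y - x) = 1 := by
        have h3 : μ ^ x * μ ^ (y - x) = μ ^ x * 1 := by
          rw [← pow_add, Nat.add_sub_cancel' hxy, mul_one, hxe]
        exact mul_left_cancel₀ (pow_ne_zero _ hμ0) h3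
      rw [hμ, ← Nat.cast_pow] at h2
      have := hord (y - x) (by omega) (hcast' _ h2)
      omega
    refine Prod.ext rfl (Fin.ext ?_)
    rcases le_total (i : ℕ) i' with hle | hle
    · exact hii _ _ hle i'.2 hci
    · exact (hii _ _ hle i.2 hci.symm).symm
  have hinvmul : ∀ (k : GL2) (v : Fin 2 → ZMod q),
      Matrix.mulVec ((k⁻¹ : GL2) : Matrix (Fin 2) (Fin 2) (ZMod q))
        (Matrix.mulVec (k : Matrix (Fin 2) (Fin 2) (ZMod q)) v) = v := fun k v => by
    rw [Matrix.mulVec_mulVec, ← Units.val_mul, inv_mul_cancel, Units.val_one, Matrix.one_mulVec]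
  have he1 : e1 ≠ 0 := fun h => by simpa [e1] using congrFun h 0
  let φ : Subgroup.closure S → {v : Fin 2 → ZMod q // v ≠ 0} := fun k =>
    ⟨Matrix.mulVec ((k : GL2) : Matrix (Fin 2) (Fin 2) (ZMod q)) e1, fun h => he1 (by
      have := hinvmul (k : GL2) e1
      rwa [h, Matrix.mulVec_zero, eq_comm] at this)⟩
  have hφ : Function.Injective φ := by
    intro k k' h
    have h' := congrArg Subtype.val h
    simp only [φ] at h'
    apply Subtype.ext
    refine (inv_mul_eq_one.mp (hfix _ (mul_mem (inv_mem k'.2) k.2) ?_)).symm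
    rw [Units.val_mul, ← Matrix.mulVec_mulVec, h']
    exact hinvmul _ _
  have hcardV : Nat.card {v : Fin 2 → ZMod q // v ≠ 0} = q * q - 1 := by
    rw [Nat.card_eq_fintype_card, Fintype.card_subtype_compl, Fintype.card_fun, ZMod.card,
      Fintype.card_subtype_eq, Fintype.card_fin, sq]
  have hle := Nat.card_le_card_of_injective φ hφ
  have hge := Nat.card_le_card_of_injective ψ hψ
  rw [hcardV] at hle
  rw [Nat.card_prod, Nat.card_fin, Nat.card_fin, hlen] at hge
  have hcardK : Nat.card (Subgroup.closure S) = q * q - 1 := le_antisymm hle hge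
  refine ⟨hcardK, fun v w hv hw => ?_⟩
  have hbij : Function.Bijective φ :=
    hφ.bijective_of_nat_card_le (le_of_eq (hcardV.trans hcardK.symm))
  obtain ⟨a, ha⟩ := hbij.2 ⟨v, hv⟩
  obtain ⟨b, hb⟩ := hbij.2 ⟨w, hw⟩
  have ha' : Matrix.mulVec ((a : GL2) : Matrix (Fin 2) (Fin 2) (ZMod q)) e1 = v :=
    congrArg Subtype.val ha
  have hb' : Matrix.mulVec ((b : GL2) : Matrix (Fin 2) (Fin 2) (ZMod q)) e1 = w :=
    congrArg Subtype.val hb
  refine ⟨b * a⁻¹, ?_, fun h hh => ?_⟩
  · simp only [Subgroup.coe_mul, Subgroup.coe_inv, Units.val_mul, ← Matrix.mulVec_mulVec]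
    rw [← ha', hinvmul, hb']
  · refine eq_mul_inv_of_mul_eq (hφ (Subtype.ext ?_))
    simp only [φ, Subgroup.coe_mul, Units.val_mul, ← Matrix.mulVec_mulVec, ha']
    rw [hh, hb']

end Cfsg.Agent.Lib.Perm.LinearCert
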