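import Cfsg.Agent.Lib.Perm.Regular
import Cfsg.Agent.Lib.Perm.Sharply2
import Cfsg.Agent.Lib.PermTrans.Basic
import Mathlib.GroupTheory.GroupAction.MultiplePrimitivity

/-!
Normal subgroups of multiply transitive and multiply primitive groups.
-/

namespace Cfsg.Agent.Lib.Perm.Multiple

open MulAction SubMulAction Cfsg.Agent.Lib.Perm
open scoped Pointwise

universe u v

section Stab

variable {G : Type u} [Group G] {α : Type v} [MulAction G α]

instance ofStabilizer_faithful [FaithfulSMul G α] (a : α) :
    FaithfulSMul (stabilizer G a) (ofStabilizer G a) := by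
  constructor
  intro g h hgh
  refine Subtype.ext (eq_of_smul_eq_smul fun x : α => ?_)
  by_cases hx : x = a
  · exact (hx ▸ g.2 : (g : G) • x = x).trans (hx ▸ h.2 : (h : G) • x = x).symm
  · exact congrArg Subtype.val (hgh ⟨x, hx⟩)

theorem finite_group [Finite α] [FaithfulSMul G α] : Finite G :=
  Finite.of_injective (MulAction.toPerm : G → Equiv.Perm α) MulAction.toPerm_injective

/-- Lifting transitivity of the stabiliser of a normal subgroup. -/
theorem succ_of_stabilizer {k : ℕ} (H : Subgroup G) [IsPretransitive H α] (a : α)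
    (h : IsMultiplyPretransitive (H.subgroupOf (stabilizer G a)) (ofStabilizer G a) k) :
    IsMultiplyPretransitive H α (k + 1) := by
  rw [ofStabilizer.isMultiplyPretransitive (a := a)]
  refine ⟨fun x y => ?_⟩
  have := h
  obtain ⟨⟨⟨g, hga⟩, hgH⟩, hg⟩ := exists_smul_eq (H.subgroupOf (stabilizer G a))
    (⟨fun i => ⟨(x i : α), (x i).2⟩, fun i j e => x.injective (Subtype.ext (congrArg Subtype.val e :)) ⟩ :
      Fin k ↪ ofStabilizer G a)
    (⟨fun i => ⟨(y i : α), (y i).2⟩, fun i j e => y.injective (Subtype.ext (congrArg Subtype.val e :)) ⟩ :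
      Fin k ↪ ofStabilizer G a)
  refine ⟨⟨⟨g, hgH⟩, hga⟩, ?_⟩
  ext i
  exact congrArg Subtype.val (DFunLike.congr_fun hg i)

end Stab

/-- A non-regular normal subgroup of a `k`-primitive group of degree at least `k + 2` is
`k`-transitive. -/
theorem normal_multiply_transitive (k : ℕ) (hk : 1 ≤ k) :
    ∀ {G : Type u} [Group G] {α : Type v} [MulAction G α] [Finite α] [FaithfulSMul G α],
      IsMultiplyPreprimitive G α k → k + 2 ≤ Nat.card α →
      ∀ (H : Subgroup G) [H.Normal], (∃ a : α, stabilizer H a ≠ ⊥) →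
        IsMultiplyPretransitive H α k := by
  induction k, hk using Nat.le_induction with
  | base =>
    intro G _ α _ _ _ hG _ H _ ⟨a, ha⟩
    have := (is_one_preprimitive_iff G α).mp hG
    have hH : H ≠ ⊥ := by
      rintro rfl
      exact ha (Subgroup.eq_bot_iff_forall _ |>.mpr fun g _ => Subsingleton.elim _ _)
    exact is_one_pretransitive_iff.mpr (Basic.isPretransitive_of_normal_ne_bot H hH)
  | succ k hk ih =>
    intro G _ α _ _ _ hG hn H hHn hnr
    classical
    have := Fintype.ofFinite α
    have hG1 : IsPreprimitive G α := (is_one_preprimitive_iff G α).mp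
      (isMultiplyPreprimitive_of_le G α hG (by omega) (by
        rw [ENat.card_eq_coe_natCard]; exact_mod_cast (by omega : k + 1 ≤ Nat.card α)))
    obtain ⟨a₀, ha₀⟩ := hnr
    have hHne : H ≠ ⊥ := by
      rintro rfl
      exact ha₀ (Subgroup.eq_bot_iff_forall _ |>.mpr fun g _ => Subsingleton.elim _ _)
    have hHt : IsPretransitive H α := Basic.isPretransitive_of_normal_ne_bot H hHne
    have hstab : ∀ a : α, H.subgroupOf (stabilizer G a) ≠ ⊥ := by
      intro a hbot
      apply ha₀
      rw [Subgroup.eq_bot_iff_forall]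
      intro h hh
      obtain ⟨x, hx⟩ := exists_smul_eq H a a₀
      rw [← hx, Basic.mem_stabilizer_smul_iff] at hh
      have h1 : (⟨((x⁻¹ * h * x : H) : G), hh⟩ : stabilizer G a) ∈ H.subgroupOf (stabilizer G a) :=
        (x⁻¹ * h * x).2
      rw [hbot, Subgroup.mem_bot] at h1
      have h2 : x⁻¹ * h * x = 1 := Subtype.ext (congrArg (fun z : stabilizer G a => (z : G)) h1)
      rw [mul_eq_one_iff_eq_inv, inv_mul_eq_iff_eq_mul, mul_inv_cancel] at h2
      exact h2
    have hGa : ∀ a : α, IsMultiplyPreprimitive (stabilizer G a) (ofStabilizer G a) k := fun a =>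
      isMultiplyPreprimitive_ofStabilizer (n := k) G α
    by_cases hreg : ∃ (a : α) (x : ofStabilizer G a),
        stabilizer (H.subgroupOf (stabilizer G a)) x ≠ ⊥
    · obtain ⟨a, hx⟩ := hreg
      exact succ_of_stabilizer H a (ih (hGa a) (by rw [nat_card_ofStabilizer_eq]; omega) _ hx)
    rcases eq_or_lt_of_le hk with rfl | hk2
    · have := (is_one_preprimitive_iff _ _).mp (hGa a₀)
      exact succ_of_stabilizer H a₀ (is_one_pretransitive_iff.mpr
        (Basic.isPretransitive_of_normal_ne_bot _ (hstab a₀)))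
    push Not at hreg
    exfalso
    have hH2 : IsMultiplyPretransitive H α 2 := by
      have hprim : IsPreprimitive (stabilizer G a₀) (ofStabilizer G a₀) :=
        (is_one_preprimitive_iff _ _).mp (isMultiplyPreprimitive_of_le _ _ (hGa a₀) hk (by
          rw [ENat.card_eq_coe_natCard, nat_card_ofStabilizer_eq]
          exact_mod_cast (by omega : k ≤ Nat.card α - 1)))
      exact succ_of_stabilizer H a₀ (is_one_pretransitive_iff.mpr
        (Basic.isPretransitive_of_normal_ne_bot _ (hstab a₀)))
    have hsharp : ∀ x : Fin 2 ↪ α, stabilizer H x = ⊥ := by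
      intro x
      rw [Subgroup.eq_bot_iff_forall]
      intro h hh
      rw [mem_stabilizer_iff] at hh
      have h0 : (h : G) • x 0 = x 0 := DFunLike.congr_fun hh 0
      have h1 : (h : G) • x 1 = x 1 := DFunLike.congr_fun hh 1
      have h2 := (Subgroup.eq_bot_iff_forall _).mp
        (hreg (x 0) ⟨x 1, x.injective.ne (by decide)⟩) ⟨⟨h, h0⟩, h.2⟩ (Subtype.ext h1)
      exact Subtype.ext (congrArg (fun z : H.subgroupOf (stabilizer G (x 0)) => ((z : stabilizer G (x 0)) : G)) h2)
    have := finite_group (G := G) (α := α)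
    obtain ⟨p, j, N, -, -, -, -, hNn, -, -, hNt, hNr, hNm⟩ :=
      Sharply2.exists_kernel (G := H) (α := α) hsharp (by rw [← Nat.card_eq_fintype_card]; omega)
    have : (N.map H.subtype).Normal := by
      refine ⟨?_⟩
      rintro _ ⟨n, hn, rfl⟩ g
      refine ⟨⟨g * n * g⁻¹, hHn.conj_mem _ n.2 g⟩, (hNm _).mpr ?_, rfl⟩
      rcases (hNm n).mp hn with rfl | hf
      · left; exact Subtype.ext (by simp)
      · right
        intro y hy
        apply hf (g⁻¹ • y)
        apply smul_left_cancel g
        change g • (n : G) • g⁻¹ • y = g • g⁻¹ • y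
        rw [smul_smul, smul_smul, smul_inv_smul]
        exact hy
    have : IsPretransitive (N.map H.subtype) α :=
      ⟨fun y z => let ⟨⟨n, hn⟩, e⟩ := exists_smul_eq N y z; ⟨⟨_, Subgroup.mem_map_of_mem _ hn⟩, e⟩⟩
    have hregN : ∀ y : α, stabilizer (N.map H.subtype) y = ⊥ := by
      intro y
      rw [Subgroup.eq_bot_iff_forall]
      rintro ⟨_, n, hn, rfl⟩ h
      have := (Subgroup.eq_bot_iff_forall _).mp (hNr y) ⟨n, hn⟩ h
      exact Subtype.ext (congrArg (fun z : N => ((z : H) : G)) this)
    rcases Regular.three_primitive (G := G) (α := α) (by omega)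
      (isMultiplyPreprimitive_of_le G α hG (by omega) (by
        rw [ENat.card_eq_coe_natCard]; exact_mod_cast (by omega : k + 1 ≤ Nat.card α)))
      (N.map H.subtype) hregN with h | h <;> omega

/-- Jordan: normal subgroups of multiply transitive groups. -/
theorem jordan {G : Type u} [Group G] {α : Type v} [MulAction G α] [Finite α] [FaithfulSMul G α]
    {k : ℕ} (hk : 1 < k) (hdeg : k < Nat.card α) (hG : IsMultiplyPretransitive G α k)
    (N : Subgroup G) [N.Normal] (hN : N ≠ ⊥) :
    IsMultiplyPretransitive N α (k - 1) ∨ (k = 3 ∧ IsMulCommutative N ∧ ∀ n ∈ N, n ^ 2 = 1) := by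
  obtain ⟨k, rfl⟩ : ∃ l, k = l + 1 := ⟨k - 1, by omega⟩
  have hcardE : ∀ m : ℕ, m ≤ Nat.card α → (m : ℕ∞) ≤ ENat.card α := fun m hm => by
    rw [ENat.card_eq_coe_natCard]; exact_mod_cast hm
  have hP : IsMultiplyPreprimitive G α k :=
    isMultiplyPreprimitive_of_isMultiplyPretransitive_succ G α (hcardE _ (by omega))
  simp only [Nat.add_sub_cancel]
  by_cases hnr : ∃ a : α, stabilizer N a ≠ ⊥
  · exact Or.inl (normal_multiply_transitive k (by omega) hP (by omega) N hnr)
  push Not at hnr
  have := (is_one_preprimitive_iff G α).mp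
    (isMultiplyPreprimitive_of_le G α hP (by omega) (hcardE _ (by omega)))
  have hNt : IsPretransitive N α := Basic.isPretransitive_of_normal_ne_bot N hN
  obtain rfl | rfl | hk4 : k = 1 ∨ k = 2 ∨ 3 ≤ k := by omega
  · exact Or.inl (is_one_pretransitive_iff.mpr hNt)
  · rcases Regular.two_primitive (G := G) (α := α) (by omega) hP N hnr with h | ⟨h1, h2, -⟩
    · omega
    · exact Or.inr ⟨rfl, h1, h2⟩
  · have := Regular.three_primitive (G := G) (α := α) (by omega)
      (isMultiplyPreprimitive_of_le G α hP hk4 (hcardE _ (by omega))) N hnr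
    omega

/-- A 2-transitive normal subgroup of a 3-transitive group of odd degree is 3-transitive. -/
theorem three_transitive_of_odd {G : Type u} [Group G] {α : Type v} [MulAction G α] [Finite α]
    [FaithfulSMul G α] (hodd : Odd (Nat.card α)) (h3 : 3 < Nat.card α)
    (hG : IsMultiplyPretransitive G α 3) (N : Subgroup G) [hNn : N.Normal]
    (hN2 : IsMultiplyPretransitive N α 2) : IsMultiplyPretransitive N α 3 := by
  classical
  have := Fintype.ofFinite α
  have := finite_group (G := G) (α := α)
  refine PermTrans.of_fixing_transitive_top 3 (by rwa [← Nat.card_eq_fintype_card]) ?_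
  intro s hs x y hx hy
  obtain ⟨a, b, hab, rfl⟩ := Finset.card_eq_two.mp (by omega : s.card = 2)
  simp only [Finset.mem_insert, Finset.mem_singleton, not_or] at hx hy
  let M : Subgroup N := stabilizer N a ⊓ stabilizer N b
  let Mb : Subgroup N :=
    { carrier := {h | (h • a = a ∧ h • b = b) ∨ (h • a = b ∧ h • b = a)}
      one_mem' := Or.inl ⟨one_smul _ _, one_smul _ _⟩
      mul_mem' := fun {g h} hg hh => by
        rcases hg with ⟨g1, g2⟩ | ⟨g1, g2⟩ <;> rcases hh with ⟨h1, h2⟩ | ⟨h1, h2⟩
        · exact Or.inl ⟨by rw [mul_smul, h1, g1], by rw [mul_smul, h2, g2]⟩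
        · exact Or.inr ⟨by rw [mul_smul, h1, g2], by rw [mul_smul, h2, g1]⟩
        · exact Or.inr ⟨by rw [mul_smul, h1, g1], by rw [mul_smul, h2, g2]⟩
        · exact Or.inl ⟨by rw [mul_smul, h1, g2], by rw [mul_smul, h2, g1]⟩
      inv_mem' := fun {g} hg => by
        rcases hg with ⟨g1, g2⟩ | ⟨g1, g2⟩
        · exact Or.inl ⟨inv_smul_eq_iff.mpr g1.symm, inv_smul_eq_iff.mpr g2.symm⟩
        · exact Or.inr ⟨inv_smul_eq_iff.mpr g2.symm, inv_smul_eq_iff.mpr g1.symm⟩ }
  have hMle : M ≤ Mb := fun h hh => Or.inl hh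
  obtain ⟨σ, hσa, hσb⟩ := is_two_pretransitive_iff.mp hN2 hab (Ne.symm hab)
  have hσMb : σ ∈ Mb := Or.inr ⟨hσa, hσb⟩
  have hcard2 : Nat.card Mb = 2 * Nat.card M := by
    have hst : stabilizer Mb a = M.subgroupOf Mb := by
      ext h
      refine ⟨fun hh => ?_, fun hh => (Subgroup.mem_subgroupOf.mp hh).1⟩
      rcases h.2 with h' | h'
      · exact Subgroup.mem_subgroupOf.mpr h'
      · exact absurd ((show (h : N) • a = a from hh).symm.trans h'.1) hab
    have horb : orbit Mb a = {a, b} := by
      ext z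
      constructor
      · rintro ⟨h, rfl⟩
        rcases h.2 with h' | h'
        · exact Or.inl h'.1
        · exact Or.inr h'.1
      · rintro (rfl | rfl)
        · exact mem_orbit_self _
        · exact ⟨⟨σ, hσMb⟩, hσa⟩
    have h := (stabilizer Mb a).card_mul_index
    rw [index_stabilizer, horb, Set.ncard_pair hab, hst,
      Nat.card_congr (Subgroup.subgroupOfEquivOfLe hMle).toEquiv] at h
    rw [← h, mul_comm]
  have := Fact.mk Nat.prime_two
  obtain ⟨S⟩ : Nonempty (Sylow 2 Mb) := inferInstance
  have hSM : ¬ Nat.card (S : Subgroup Mb) ∣ Nat.card M := by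
    rw [S.card_eq_multiplicity, hcard2,
      Nat.prime_two.pow_dvd_iff_le_factorization Nat.card_pos.ne',
      Nat.factorization_mul two_ne_zero Nat.card_pos.ne', Finsupp.add_apply,
      Nat.Prime.factorization_self Nat.prime_two]
    omega
  obtain ⟨w, hwS, hwa, hwb⟩ : ∃ w : Mb, w ∈ (S : Subgroup Mb) ∧
      (w : N) • a = b ∧ (w : N) • b = a := by
    by_contra! hall
    apply hSM
    refine Subgroup.card_dvd_of_injective
      ((Mb.subtype.comp (S : Subgroup Mb).subtype).codRestrict M fun v => ?_) ?_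
    · rcases v.1.2 with h' | h'
      · exact h'
      · exact absurd h'.2 (hall v.1 v.2 h'.1)
    · intro u v h
      exact Subtype.ext (Subtype.ext (congrArg (fun z : M => (z : N)) h))
  obtain ⟨c, hc⟩ := S.isPGroup'.nonempty_fixed_point_of_prime_not_dvd_card α
    (by rw [← even_iff_two_dvd]; exact Nat.not_even_iff_odd.mpr hodd)
  have hSfix : ∀ v : Mb, v ∈ (S : Subgroup Mb) → (v : N) • c = c := fun v hv => hc ⟨v, hv⟩
  have hca : c ≠ a := fun e => hab ((e ▸ hSfix w hwS : (w : N) • a = a).symm.trans hwa)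
  have hcb : c ≠ b := fun e => hab (hwb.symm.trans (e ▸ hSfix w hwS : (w : N) • b = b))
  have huniq : ∀ c' : α, (∀ v : Mb, v ∈ (S : Subgroup Mb) → (v : N) • c' = c') → c' = c := by
    intro c' hc'
    by_contra hne
    apply hSM
    obtain ⟨g, hga, hgb⟩ := is_two_pretransitive_iff.mp hN2 (Ne.symm hne) hab
    refine Subgroup.card_dvd_of_injective
      (((MulAut.conj g).toMonoidHom.comp (Mb.subtype.comp (S : Subgroup Mb).subtype)).codRestrict M
        fun v => ⟨?_, ?_⟩) ?_
    · change (g * (v.1 : N) * g⁻¹) • a = a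
      rw [← hga, mul_smul, mul_smul, inv_smul_smul, hSfix v.1 v.2]
    · change (g * (v.1 : N) * g⁻¹) • b = b
      rw [← hgb, mul_smul, mul_smul, inv_smul_smul, hc' v.1 v.2]
    · intro u v h
      have h' : g * (u.1 : N) * g⁻¹ = g * (v.1 : N) * g⁻¹ := congrArg (fun z : M => (z : N)) h
      exact Subtype.ext (Subtype.ext (mul_left_cancel (mul_right_cancel h')))
  have key : ∀ z : α, z ≠ a → z ≠ b → ∃ m ∈ M, m • c = z := by
    intro z hza hzb
    let P1 : Fin 3 ↪ α := ⟨![a, b, c], by
      intro i j hij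
      fin_cases i <;> fin_cases j <;> simp at hij ⊢
      · exact hab hij
      · exact hca hij.symm
      · exact hab hij.symm
      · exact hcb hij.symm
      · exact hca hij
      · exact hcb hij⟩
    let P2 : Fin 3 ↪ α := ⟨![a, b, z], by
      intro i j hij
      fin_cases i <;> fin_cases j <;> simp at hij ⊢
      · exact hab hij
      · exact hza hij.symm
      · exact hab hij.symm
      · exact hzb hij.symm
      · exact hza hij
      · exact hzb hij⟩
    obtain ⟨h, hh⟩ := exists_smul_eq G P1 P2
    have hha : h • a = a := DFunLike.congr_fun hh 0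
    have hhb : h • b = b := DFunLike.congr_fun hh 1
    have hhc : h • c = z := DFunLike.congr_fun hh 2
    let conjh : Mb →* Mb :=
      { toFun := fun v => ⟨⟨h * ((v : N) : G) * h⁻¹, hNn.conj_mem _ v.1.2 h⟩, by
          have ia : h⁻¹ • a = a := inv_smul_eq_iff.mpr hha.symm
          have ib : h⁻¹ • b = b := inv_smul_eq_iff.mpr hhb.symm
          rcases v.2 with ⟨e1, e2⟩ | ⟨e1, e2⟩
          · refine Or.inl ⟨?_, ?_⟩
            · change (h * ((v : N) : G) * h⁻¹) • a = a
              rw [mul_smul, mul_smul, ia, show ((v : N) : G) • a = a from e1, hha]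
            · change (h * ((v : N) : G) * h⁻¹) • b = b
              rw [mul_smul, mul_smul, ib, show ((v : N) : G) • b = b from e2, hhb]
          · refine Or.inr ⟨?_, ?_⟩
            · change (h * ((v : N) : G) * h⁻¹) • a = b
              rw [mul_smul, mul_smul, ia, show ((v : N) : G) • a = b from e1, hhb]
            · change (h * ((v : N) : G) * h⁻¹) • b = a
              rw [mul_smul, mul_smul, ib, show ((v : N) : G) • b = a from e2, hha]⟩
        map_one' := Subtype.ext (Subtype.ext (by simp))
        map_mul' := fun u v => Subtype.ext (Subtype.ext (by simp [mul_assoc])) }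
    have hinj : Function.Injective conjh := fun u v e => Subtype.ext (Subtype.ext
      (mul_left_cancel (mul_right_cancel (congrArg (fun w : Mb => ((w : N) : G)) e))))
    obtain ⟨Q, hQ⟩ := (S.isPGroup'.map conjh).exists_le_sylow
    have hQeq : (S : Subgroup Mb).map conjh = (Q : Subgroup Mb) := by
      refine Subgroup.eq_of_le_of_card_ge hQ ?_
      rw [Nat.card_congr ((S : Subgroup Mb).equivMapOfInjective conjh hinj).toEquiv.symm,
        S.card_eq_multiplicity, Q.card_eq_multiplicity]
    obtain ⟨m, hm⟩ := exists_smul_eq Mb S Q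
    have hfix : (m : N)⁻¹ • z = c := by
      refine huniq _ fun v hv => ?_
      have hmem : m * v * m⁻¹ ∈ (S : Subgroup Mb).map conjh := by
        rw [hQeq, ← hm, Sylow.coe_subgroup_smul, Subgroup.mem_pointwise_smul_iff_inv_smul_mem]
        simpa [MulAut.smul_def, mul_assoc] using hv
      obtain ⟨u, hu, hue⟩ := hmem
      have e : ((m : N) : G) * ((v : N) : G) * ((m : N) : G)⁻¹ = h * ((u : N) : G) * h⁻¹ :=
        (congrArg (fun w : Mb => ((w : N) : G)) hue).symm
      have hz : (((m : N) : G) * ((v : N) : G) * ((m : N) : G)⁻¹) • z = z := by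
        rw [e, mul_smul, mul_smul, ← hhc, inv_smul_smul]
        congr 1
        exact hSfix u hu
      rw [mul_smul, mul_smul, ← eq_inv_smul_iff] at hz
      exact hz
    rcases m.2 with h' | h'
    · exact ⟨m, h', by rw [← hfix, smul_inv_smul]⟩
    · refine ⟨m * w, ⟨?_, ?_⟩, by rw [mul_smul, hSfix w hwS, ← hfix, smul_inv_smul]⟩
      · change ((m : N) * (w : N)) • a = a
        rw [mul_smul, hwa, h'.2]
      · change ((m : N) * (w : N)) • b = b
        rw [mul_smul, hwb, h'.1]
  obtain ⟨m1, hm1, hm1x⟩ := key x hx.1 hx.2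
  obtain ⟨m2, hm2, hm2y⟩ := key y hy.1 hy.2
  refine ⟨m2 * m1⁻¹, ?_, by rw [mul_smul, ← hm1x, inv_smul_smul, hm2y]⟩
  rw [mem_fixingSubgroup_iff]
  intro t ht
  have hmem := M.mul_mem hm2 (M.inv_mem hm1)
  simp only [Finset.coe_insert, Finset.coe_singleton, Set.mem_insert_iff,
    Set.mem_singleton_iff] at ht
  rcases ht with rfl | rfl
  · exact hmem.1
  · exact hmem.2

end Cfsg.Agent.Lib.Perm.Multiple
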