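import Cfsg.Prelude.Def_Perm
import Mathlib.GroupTheory.PGroup
import Mathlib.GroupTheory.OrderOfElement
import Mathlib.GroupTheory.Perm.Subgroup

/-!
Elementary facts about near-fields.
-/

namespace Cfsg.Agent.Lib.Perm.NearField

open Cfsg

variable {F : Type*} [Cfsg.NearField F]

theorem nf_zero_mul (a : F) : (0 : F) * a = 0 := by
  have h := NearField.right_distrib (0 : F) 0 a
  rw [add_zero] at h
  exact (add_eq_left.mp h.symm)

theorem nf_neg_mul (a b : F) : -a * b = -(a * b) := by
  apply eq_neg_of_add_eq_zero_left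
  rw [← NearField.right_distrib, neg_add_cancel, nf_zero_mul]

theorem nf_sub_mul (a b c : F) : (a - b) * c = a * c - b * c := by
  rw [sub_eq_add_neg, NearField.right_distrib, nf_neg_mul, ← sub_eq_add_neg]

theorem add_sub_add_right_eq_sub' (a b c : F) : (a + c) - (b + c) = a - b := by
  rw [sub_eq_add_neg, sub_eq_add_neg, neg_add_rev, add_assoc, add_neg_cancel_left]

theorem nf_mul_ne_zero {a b : F} (ha : a ≠ 0) (hb : b ≠ 0) : a * b ≠ 0 := by
  intro h
  obtain ⟨c, hc, -⟩ := NearField.exists_inv b hb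
  apply ha
  rw [← mul_one a, ← hc, ← mul_assoc, h, nf_zero_mul]

theorem nf_ne_zero_of_mul {a b : F} (h : a * b = 1) : b ≠ 0 := by
  rintro rfl
  rw [NearField.mul_zero] at h
  exact NearField.zero_ne_one h

/-- Right multiplication as an additive endomorphism. -/
def mulRight (a : F) : F →+ F where
  toFun x := x * a
  map_zero' := nf_zero_mul a
  map_add' x y := NearField.right_distrib x y a

theorem mulRight_apply (a x : F) : mulRight a x = x * a := rfl

theorem mulRight_injective {a : F} (ha : a ≠ 0) : Function.Injective (mulRight a) := by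
  intro x y h
  obtain ⟨c, hc, -⟩ := NearField.exists_inv a ha
  have := congrArg (fun z => z * c) h
  simp only [mulRight_apply, mul_assoc, hc, mul_one] at this
  exact this

theorem exists_mulRight_eq {x y : F} (hx : x ≠ 0) (hy : y ≠ 0) :
    ∃ a, a ≠ 0 ∧ mulRight a x = y := by
  obtain ⟨c, hc, -⟩ := NearField.exists_inv x hx
  exact ⟨c * y, nf_mul_ne_zero (nf_ne_zero_of_mul hc) hy,
    by rw [mulRight_apply, ← mul_assoc, hc, one_mul]⟩

variable (F)

theorem nf_prime_power [Finite F] : ∃ p j : ℕ, p.Prime ∧ 1 ≤ j ∧ Nat.card F = p ^ j ∧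
    (∀ x y : F, x + y = y + x) ∧ ∀ x : F, p • x = 0 := by
  classical
  have hnt : Nontrivial F := ⟨0, 1, NearField.zero_ne_one⟩
  have h1 : 1 < Nat.card F := Finite.one_lt_card
  obtain ⟨p, hp, hdvd⟩ := Nat.exists_prime_and_dvd h1.ne'
  have := Fact.mk hp
  obtain ⟨g, hg⟩ := exists_prime_addOrderOf_dvd_card' (G := F) p hdvd
  have hg0 : g ≠ 0 := fun h => hp.one_lt.ne' (by simpa [h] using hg.symm)
  have hall : ∀ x : F, p • x = 0 := by
    intro x
    by_cases hx : x = 0
    · simp [hx]
    obtain ⟨a, -, rfl⟩ := exists_mulRight_eq hg0 hx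
    rw [← map_nsmul, ← hg, addOrderOf_nsmul_eq_zero, map_zero]
  have hP : IsPGroup p (Multiplicative F) := fun x => ⟨1, by
    apply Multiplicative.toAdd.injective
    rw [toAdd_pow, pow_one, hall, toAdd_one]⟩
  obtain ⟨j, hj⟩ := hP.exists_card_eq
  have hjF : Nat.card F = p ^ j := by rwa [Nat.card_congr Multiplicative.toAdd] at hj
  have hj1 : 1 ≤ j := by
    rcases Nat.eq_zero_or_pos j with rfl | h
    · simp at hjF; omega
    · exact h
  refine ⟨p, j, hp, hj1, hjF, ?_, hall⟩
  -- a non-zero central element, moved around by right multiplications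
  have : Nontrivial (Multiplicative F) := ⟨Multiplicative.ofAdd 0, Multiplicative.ofAdd 1,
    fun h => NearField.zero_ne_one (Multiplicative.ofAdd.injective h)⟩
  have hc := hP.center_nontrivial
  obtain ⟨⟨z, hz⟩, hz1⟩ := exists_ne (1 : Subgroup.center (Multiplicative F))
  have hz0 : z.toAdd ≠ 0 := fun h => hz1 (Subtype.ext (Multiplicative.toAdd.injective h))
  intro x y
  by_cases hx : x = 0
  · simp [hx]
  obtain ⟨a, ha, hax⟩ := exists_mulRight_eq hz0 hx
  obtain ⟨y', rfl⟩ := Finite.surjective_of_injective (mulRight_injective ha) y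
  rw [← hax, ← map_add, ← map_add]
  exact congrArg (fun t => mulRight a (Multiplicative.toAdd t))
    (Subgroup.mem_center_iff.mp hz (Multiplicative.ofAdd y')).symm

end Cfsg.Agent.Lib.Perm.NearField
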