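import Cfsg.Agent.Lib.Perm.PrimeDegreeEven
import Cfsg.Agent.S0671

/-!
Subgroups of index `p` in a transitive group of prime degree `p` with even Sylow normaliser.
-/

namespace Cfsg.Agent.Lib.Perm.PrimeDegreeIndex

open MulAction Cfsg.Agent.Lib.Perm Cfsg.Agent.Lib.Perm.Modules Cfsg.Agent.Lib.Perm.PrimeDegree
  Cfsg.Agent.Lib.Perm.PrimeDegreeEven

variable {α : Type*} [Fintype α] [DecidableEq α] {p : ℕ} [hp : Fact p.Prime]

theorem Two.index_two (hα : Fintype.card α = p) (h2 : p = 2) (G : Subgroup (Equiv.Perm α))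
    {H : Subgroup G} (hH : H.index = p) : H = ⊥ := by
  subst h2
  have h1 : Nat.card G ∣ 2 := by
    have h := Subgroup.card_subgroup_dvd_card G
    rwa [Nat.card_eq_fintype_card (α := Equiv.Perm α), Fintype.card_perm, hα,
      Nat.factorial_two] at h
  have h3 := H.card_mul_index
  rw [hH] at h3
  have h4 := Nat.le_of_dvd two_pos h1
  have h5 : 0 < Nat.card H := Nat.card_pos
  exact Subgroup.eq_bot_of_card_eq H (by omega)

theorem IndexP.index_p (hα : Fintype.card α = p) (hp2 : p ≠ 2) (G : Subgroup (Equiv.Perm α))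
    [IsPretransitive G α] (P : Sylow p G) (H : Subgroup G) (hH : H.index = p)
    (e : ZMod p ≃ α) (c t : G) (hce : ∀ j, (c : Equiv.Perm α) (e j) = e (j + 1))
    (hte : ∀ j, (t : Equiv.Perm α) (e j) = e (-j)) :
    ∃ a : α, H = stabilizer G a := by
  classical
  have h2ne : (2 : ZMod p) ≠ 0 := by
    intro h
    have h' : ((2 : ℕ) : ZMod p) = 0 := by exact_mod_cast h
    have hle := Nat.le_of_dvd two_pos ((ZMod.natCast_eq_zero_iff 2 p).mp h')
    have := hp.out.two_le
    omega
  have htt : t * t = 1 := Subtype.ext (Equiv.ext fun x => by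
    obtain ⟨j, rfl⟩ := e.surjective x
    simp [hte])
  have hcn : ∀ (n : ℕ) j, (c ^ n) • e j = e (j + n) := fun n j => by
    change ((c ^ n : G) : Equiv.Perm α) (e j) = _
    rw [Subgroup.coe_pow, cycle_pow_apply hce]
  -- a coset fixed by the involution
  obtain ⟨q₀, hq₀⟩ : ∃ q : G ⧸ H, t • q = q := by
    have hq : IsPGroup 2 (Subgroup.zpowers t) := by
      have ht2 : orderOf t ∣ 2 := orderOf_dvd_of_pow_eq_one (by rw [sq, htt])
      rcases (Nat.dvd_prime Nat.prime_two).mp ht2 with h | h
      · exact IsPGroup.of_card (n := 0) (by rw [Nat.card_zpowers, h, pow_zero])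
      · exact IsPGroup.of_card (n := 1) (by rw [Nat.card_zpowers, h, pow_one])
    have := Fact.mk Nat.prime_two
    obtain ⟨q, hq⟩ := hq.nonempty_fixed_point_of_prime_not_dvd_card (G ⧸ H) (by
      rw [← Subgroup.index, hH, Nat.prime_dvd_prime_iff_eq Nat.prime_two hp.out]
      exact fun h => hp2 h.symm)
    exact ⟨q, hq ⟨t, Subgroup.mem_zpowers t⟩⟩
  have hidx : (stabilizer G q₀).index = p := by
    rw [index_stabilizer_of_transitive, ← Subgroup.index, hH]
  have hidx0 : (stabilizer G (e 0)).index = p := by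
    rw [index_stabilizer_of_transitive, Nat.card_eq_fintype_card, hα]
  -- it suffices that the stabiliser of this coset fixes `e 0`
  suffices hfix : stabilizer G q₀ ≤ stabilizer G (e 0) by
    have heq : stabilizer G q₀ = stabilizer G (e 0) := by
      refine Subgroup.eq_of_le_of_card_ge hfix (le_of_eq ?_)
      refine Nat.eq_of_mul_eq_mul_right hp.out.pos ?_
      have e1 := (stabilizer G (e 0)).card_mul_index
      have e2 := (stabilizer G q₀).card_mul_index
      rw [hidx0] at e1
      rw [hidx] at e2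
      exact e1.trans e2.symm
    obtain ⟨g, hg⟩ := exists_smul_eq G q₀ ((1 : G) : G ⧸ H)
    refine ⟨g • e 0, ?_⟩
    ext k
    rw [Basic.mem_stabilizer_smul_iff, ← heq, ← Basic.mem_stabilizer_smul_iff, hg,
      mem_stabilizer_iff]
    change k ∈ H ↔ ((k * 1 : G) : G ⧸ H) = ((1 : G) : G ⧸ H)
    rw [mul_one, QuotientGroup.eq, mul_one, inv_mem_iff]
  set H' := stabilizer G q₀ with hH'
  have htH : t ∈ H' := hq₀
  have hnp : ¬ p ∣ Nat.card H' := by
    intro hd
    have h1 : p ^ 2 ∣ Nat.card G := by
      rw [sq, ← H'.card_mul_index, hidx]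
      exact Nat.mul_dvd_mul_right hd p
    have h2 := P.card_eq_multiplicity
    rw [(card_sylow hα G P).1] at h2
    have h3 := (hp.out.pow_dvd_iff_le_factorization (Nat.card_pos (α := G)).ne').mp h1
    have h4 : (Nat.card G).factorization p = 1 :=
      (Nat.pow_right_injective hp.out.two_le ((pow_one p).trans h2)).symm
    omega
  have hcfix : ∀ n : ℕ, (c ^ n) • q₀ = q₀ → (n : ZMod p) = 0 := by
    intro n hn
    by_contra hn0
    apply hnp
    have hcn' : c ^ n ∈ H' := hn
    have hord : orderOf (c ^ n) = p := by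
      refine orderOf_eq_prime (p := p) ?_ ?_
      · apply Subtype.ext
        refine Equiv.ext fun x => ?_
        obtain ⟨j, rfl⟩ := e.surjective x
        rw [← pow_mul, Subgroup.coe_pow, cycle_pow_apply hce]
        simp
      · intro h
        have h' := hcn n 0
        rw [h, one_smul, zero_add] at h'
        exact hn0 (e.injective h').symm
    have h5 := orderOf_dvd_natCard (⟨c ^ n, hcn'⟩ : H')
    rw [Subgroup.orderOf_mk, hord] at h5
    exact h5
  rcases affine_or_two_transitive hα G e c c.2 hce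
      (fun h => Cfsg.Agent.S0671.result (p := p) (f := 1) le_rfl (by rw [pow_one, hα]) h)
    with haff | h2
  · intro h hh
    obtain ⟨u, w, huw⟩ := haff h h.2
    obtain ⟨n, hn⟩ := ZMod.natCast_zmod_surjective (2 * w)
    have hrel : h * t * h⁻¹ * t = c ^ n := by
      apply Subtype.ext
      refine Equiv.ext fun x => ?_
      obtain ⟨j, rfl⟩ := e.surjective x
      obtain ⟨i, hi⟩ := e.surjective (((h : Equiv.Perm α))⁻¹ (e (-j)))
      have hi' : (h : Equiv.Perm α) (e i) = e (-j) := by
        rw [hi, ← Equiv.Perm.mul_apply, mul_inv_cancel, Equiv.Perm.one_apply]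
      rw [huw] at hi'
      have hij := e.injective hi'
      simp only [Subgroup.coe_mul, Subgroup.coe_inv, Equiv.Perm.mul_apply, Subgroup.coe_pow]
      rw [hte, ← hi, hte, huw, cycle_pow_apply hce, hn]
      congr 1
      linear_combination -hij
    have hmem : c ^ n ∈ H' := hrel ▸ H'.mul_mem (H'.mul_mem (H'.mul_mem hh htH) (H'.inv_mem hh)) htH
    have hw : (2 : ZMod p) * w = 0 := hn ▸ hcfix n hmem
    rw [mem_stabilizer_iff]
    change (h : Equiv.Perm α) (e 0) = e 0
    rw [huw, mul_zero, zero_add, (mul_eq_zero.mp hw).resolve_left h2ne]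
  · -- the 2-transitive case
    let D : Set (ZMod p) := {i | ∃ k ∈ H', k • e 0 = e i}
    have hD0 : (0 : ZMod p) ∈ D := ⟨1, H'.one_mem, one_smul _ _⟩
    have hDneg : ∀ i, i ∈ D → -i ∈ D := fun i ⟨k, hk, hki⟩ =>
      ⟨t * k, H'.mul_mem htH hk, by rw [mul_smul, hki]; exact hte i⟩
    let R : G ⧸ H → α → Prop := fun q x => ∃ g : G, g • q₀ = q ∧ g • e 0 = x
    have hR : ∀ (g : G) q x, R (g • q) (g • x) ↔ R q x := fun g q x => by
      constructor
      · rintro ⟨k, h1, h2⟩
        exact ⟨g⁻¹ * k, by rw [mul_smul, h1, inv_smul_smul], by rw [mul_smul, h2, inv_smul_smul]⟩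
      · rintro ⟨k, h1, h2⟩
        exact ⟨g * k, by rw [mul_smul, h1], by rw [mul_smul, h2]⟩
    have := Fintype.ofFinite (G ⧸ H)
    let N : α → α → ℕ := fun x y => (Finset.univ.filter fun q => R q x ∧ R q y).card
    have hNG : ∀ (g : G) x y, N (g • x) (g • y) = N x y := fun g x y => by
      refine (Finset.card_equiv (MulAction.toPerm g) fun q => ?_).symm
      simp [hR]
    -- cosets are labelled by `ZMod p`
    have hbij : Function.Bijective fun i : ZMod p => (c ^ i.val) • q₀ := by
      rw [Fintype.bijective_iff_injective_and_card]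
      refine ⟨fun i j hij => ?_, by rw [ZMod.card, ← Nat.card_eq_fintype_card, ← Subgroup.index, hH]⟩
      have hcp : c ^ p = 1 := Subtype.ext (Equiv.ext fun x => by
        obtain ⟨j, rfl⟩ := e.surjective x
        rw [Subgroup.coe_pow, cycle_pow_apply hce]
        simp)
      simp only at hij
      have h1 : (c ^ (i.val + (p - j.val))) • q₀ = q₀ := by
        rw [add_comm, pow_add, mul_smul, hij, ← mul_smul, ← pow_add,
          Nat.sub_add_cancel (ZMod.val_lt j).le, hcp, one_smul]
      have h2 := hcfix _ h1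
      rw [Nat.cast_add, Nat.cast_sub (ZMod.val_lt j).le, ZMod.natCast_self,
        ZMod.natCast_zmod_val, ZMod.natCast_zmod_val] at h2
      linear_combination h2
    have hRi : ∀ i x : ZMod p, R ((c ^ i.val) • q₀) (e x) ↔ x - i ∈ D := by
      intro i x
      have he : e x = (c ^ i.val) • e (x - i) := by
        rw [hcn, ZMod.natCast_zmod_val, sub_add_cancel]
      rw [he, hR]
      constructor
      · rintro ⟨k, hk1, hk2⟩; exact ⟨k, hk1, hk2⟩
      · rintro ⟨k, hk1, hk2⟩; exact ⟨k, hk1, hk2⟩
    have hN : ∀ d : ZMod p, N (e 0) (e d) =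
        (Finset.univ.filter fun i => i ∈ D ∧ d - i ∈ D).card := fun d => by
      refine (Finset.card_equiv (Equiv.ofBijective _ hbij) fun i => ?_).symm
      simp only [Finset.mem_filter, Finset.mem_univ, true_and, Equiv.ofBijective_apply, hRi,
        zero_sub]
      exact and_congr_left fun _ => ⟨hDneg i, fun h => neg_neg i ▸ hDneg _ h⟩
    -- parity of a symmetric count
    have hpar : ∀ d : ZMod p,
        ((N (e 0) (e d) : ℕ) : ZMod 2) = if d / 2 ∈ D then 1 else 0 := fun d => by
      rw [hN, ← Finset.sum_boole, ← Finset.add_sum_erase _ _ (Finset.mem_univ (d / 2))]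
      have hd : d - d / 2 = d / 2 := by field_simp; ring
      simp only [hd, and_self]
      convert add_zero _ using 2
      refine Finset.sum_involution (fun i _ => d - i) (fun i _ => ?_) (fun i hi _ => ?_)
        (fun i hi => ?_) (fun i _ => sub_sub_cancel d i)
      · by_cases h1 : i ∈ D <;> by_cases h2 : d - i ∈ D <;>
          simp [h1, h2, CharTwo.add_self_eq_zero]
      · intro h
        apply Finset.ne_of_mem_erase hi
        rw [eq_div_iff h2ne]
        linear_combination -h
      · refine Finset.mem_erase.mpr ⟨fun h => Finset.ne_of_mem_erase hi ?_, Finset.mem_univ _⟩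
        rw [eq_div_iff h2ne]
        have h' : d - i = d / 2 := h
        rw [eq_div_iff h2ne] at h'
        linear_combination -h'
    have hconst : ∀ u u' : ZMod p, u ≠ 0 → u' ≠ 0 → (u ∈ D ↔ u' ∈ D) := by
      intro u u' hu hu'
      have hne : ∀ v : ZMod p, v ≠ 0 → e 0 ≠ e (2 * v) := fun v hv h =>
        mul_ne_zero h2ne hv (e.injective h).symm
      obtain ⟨g, hg1, hg2⟩ := is_two_pretransitive_iff.mp h2 (hne u hu) (hne u' hu')
      have h6 := hNG g (e 0) (e (2 * u))
      rw [hg1, hg2] at h6
      have h7 := hpar (2 * u)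
      rw [← h6, hpar, mul_div_cancel_left₀ _ h2ne, mul_div_cancel_left₀ _ h2ne] at h7
      by_cases ha : u ∈ D <;> by_cases hb : u' ∈ D <;> simp [ha, hb] at h7 ⊢
    by_cases hone : (1 : ZMod p) ∈ D
    · exfalso
      apply hnp
      have huniv : orbit H' (e 0) = Set.univ := by
        rw [Set.eq_univ_iff_forall]
        intro x
        obtain ⟨i, rfl⟩ := e.surjective x
        have hi : i ∈ D := by
          by_cases hi : i = 0
          · exact hi ▸ hD0
          · exact (hconst 1 i one_ne_zero hi).mp hone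
        obtain ⟨k, hk, hki⟩ := hi
        exact ⟨⟨k, hk⟩, hki⟩
      rw [← (stabilizer H' (e 0)).card_mul_index, index_stabilizer, huniv, Set.ncard_univ,
        Nat.card_eq_fintype_card (α := α), hα]
      exact dvd_mul_left p _
    · intro k hk
      obtain ⟨i, hi⟩ := e.surjective (k • e 0)
      have hiD : i ∈ D := ⟨k, hk, hi.symm⟩
      by_cases hi0 : i = 0
      · rw [hi0] at hi; exact mem_stabilizer_iff.mpr hi.symm
      · exact absurd ((hconst i 1 hi0 one_ne_zero).mp hiD) hone

end Cfsg.Agent.Lib.Perm.PrimeDegreeIndex
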